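import Groth.Prelude.Def_EGA43
import Mathlib.AlgebraicGeometry.Morphisms.UniversallyOpen
import Mathlib.AlgebraicGeometry.Morphisms.UniversallyClosed
import Mathlib.AlgebraicGeometry.Morphisms.FinitePresentation
import Mathlib.AlgebraicGeometry.Morphisms.ClosedImmersion
import Mathlib.AlgebraicGeometry.Morphisms.Preimmersion
import Mathlib.AlgebraicGeometry.PullbackCarrier

/-!
# Openness and universal openness at a point (EGA IV §14.3, formal properties)
-/

universe u v w

open CategoryTheory CategoryTheory.Limits AlgebraicGeometry Topology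

namespace Groth.EGA43Topo

section Top

variable {α β γ : Type*} [TopologicalSpace α] [TopologicalSpace β] [TopologicalSpace γ]

lemma isOpenAt_comp {ψ : α → β} {φ : β → γ} {x : α} (h₁ : EGA43.IsOpenAt ψ x)
    (h₂ : EGA43.IsOpenAt φ (ψ x)) : EGA43.IsOpenAt (φ ∘ ψ) x :=
  fun U hU => by rw [Set.image_comp]; exact h₂ _ (h₁ U hU)

lemma isOpenAt_of_comp {ψ : α → β} {φ : β → γ} {x : α} (hψ : ContinuousAt ψ x)
    (h : EGA43.IsOpenAt (φ ∘ ψ) x) : EGA43.IsOpenAt φ (ψ x) := fun U hU => by
  refine Filter.mem_of_superset (h _ (hψ.preimage_mem_nhds hU)) ?_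
  rw [Set.image_comp]
  exact Set.image_mono (Set.image_preimage_subset _ _)

end Top

section Scheme

variable {X Y : Scheme.{u}} {f : X ⟶ Y} {x : X}

lemma isUnivOpenAt_of_isPullback (h : EGA43.IsUnivOpenAt f x) {P Y' : Scheme.{u}}
    {fst : P ⟶ X} {snd : P ⟶ Y'} {g : Y' ⟶ Y} (sq : IsPullback fst snd f g) (p : P)
    (hp : fst.base p = x) : EGA43.IsOpenAt snd.base p := by
  have h1 := h Y' g (sq.isoPullback.hom.base p)
    (by rw [← Scheme.Hom.comp_apply, sq.isoPullback_hom_fst, hp])
  intro U hU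
  have h2 := h1 _ ((sq.isoPullback.hom.homeomorph.isOpenMap.image_mem_nhds) hU)
  rw [← Set.image_comp] at h2
  have he : ⇑(pullback.snd f g).base ∘ ⇑sq.isoPullback.hom.homeomorph = ⇑snd.base := by
    ext q
    show (pullback.snd f g).base (sq.isoPullback.hom.base q) = snd.base q
    rw [← Scheme.Hom.comp_apply, sq.isoPullback_hom_snd]
  rwa [he, ← Scheme.Hom.comp_apply, sq.isoPullback_hom_snd] at h2

lemma isUnivOpenAt_baseChange (h : EGA43.IsUnivOpenAt f x) {P Y' : Scheme.{u}}
    {fst : P ⟶ X} {snd : P ⟶ Y'} {g : Y' ⟶ Y} (sq : IsPullback fst snd f g) (p : P)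
    (hp : fst.base p = x) : EGA43.IsUnivOpenAt snd p := fun _ g' q hq =>
  isUnivOpenAt_of_isPullback h ((IsPullback.of_hasPullback snd g').paste_horiz sq) q
    (by rw [Scheme.Hom.comp_apply, hq, hp])

lemma isUnivOpenAt_comp {Z : Scheme.{u}} {g : Y ⟶ Z}
    (hf : EGA43.IsUnivOpenAt f x) (hg : EGA43.IsUnivOpenAt g (f.base x)) :
    EGA43.IsUnivOpenAt (f ≫ g) x := by
  intro Z' h p hp
  have sqg := IsPullback.of_hasPullback g h
  let f' : pullback (f ≫ g) h ⟶ pullback g h :=
    pullback.lift (pullback.fst _ _ ≫ f) (pullback.snd _ _) (by simp [pullback.condition])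
  have h1 : f' ≫ pullback.snd g h = pullback.snd (f ≫ g) h := pullback.lift_snd ..
  have h2 : f' ≫ pullback.fst g h = pullback.fst (f ≫ g) h ≫ f := pullback.lift_fst ..
  have sqf : IsPullback (pullback.fst (f ≫ g) h) f' f (pullback.fst g h) :=
    IsPullback.of_bot (h1.symm ▸ IsPullback.of_hasPullback (f ≫ g) h) h2.symm sqg
  have hopen := isOpenAt_comp (isUnivOpenAt_of_isPullback hf sqf p hp)
    (isUnivOpenAt_of_isPullback hg sqg _
      (by rw [← Scheme.Hom.comp_apply, h2, Scheme.Hom.comp_apply, hp]))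
  have he : ⇑(pullback.snd g h).base ∘ ⇑f'.base = ⇑(pullback.snd (f ≫ g) h).base := by
    ext q
    show (pullback.snd g h).base (f'.base q) = _
    rw [← Scheme.Hom.comp_apply, h1]
  rwa [he] at hopen

lemma isUnivOpenAt_right_of_comp {Z : Scheme.{u}} {g : Y ⟶ Z}
    (h : EGA43.IsUnivOpenAt (f ≫ g) x) : EGA43.IsUnivOpenAt g (f.base x) := by
  intro Z' k q hq
  let f' : pullback (f ≫ g) k ⟶ pullback g k :=
    pullback.lift (pullback.fst _ _ ≫ f) (pullback.snd _ _) (by simp [pullback.condition])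
  have h1 : f' ≫ pullback.snd g k = pullback.snd (f ≫ g) k := pullback.lift_snd ..
  have h2 : f' ≫ pullback.fst g k = pullback.fst (f ≫ g) k ≫ f := pullback.lift_fst ..
  have sqf : IsPullback (pullback.fst (f ≫ g) k) f' f (pullback.fst g k) :=
    IsPullback.of_bot (h1.symm ▸ IsPullback.of_hasPullback (f ≫ g) k) h2.symm
      (IsPullback.of_hasPullback g k)
  obtain ⟨p, hp₁, hp₂⟩ := Scheme.exists_preimage_of_isPullback sqf x q hq.symm
  have hopen := h Z' k p hp₁
  have he : ⇑(pullback.snd g k).base ∘ ⇑f'.base = ⇑(pullback.snd (f ≫ g) k).base := by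
    ext z
    show (pullback.snd g k).base (f'.base z) = _
    rw [← Scheme.Hom.comp_apply, h1]
  rw [← he] at hopen
  exact hp₂ ▸ isOpenAt_of_comp f'.continuous.continuousAt hopen

/-- Openness at a point descends along a finite jointly surjective family of closed maps. -/
lemma isOpenAt_of_closed_cover {ι : Type w} [Finite ι] {T P : ι → Scheme.{u}}
    {v : ∀ i, T i ⟶ Y} {fst : ∀ i, P i ⟶ X} {snd : ∀ i, P i ⟶ T i}
    (sq : ∀ i, IsPullback (fst i) (snd i) f (v i)) (hv : ∀ i, IsClosedMap (v i).base)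
    (hcov : ⋃ i, Set.range (v i).base = Set.univ)
    (h : ∀ i, ∀ p : P i, (fst i).base p = x → EGA43.IsOpenAt (snd i).base p) :
    EGA43.IsOpenAt f.base x := by
  intro U hU
  refine Filter.mem_of_superset (Filter.iInter_mem.2 fun i =>
    ((hv i) _ isOpen_interior.isClosed_compl).isOpen_compl.mem_nhds
      (x := f.base x) (s := ((v i).base '' (interior ((v i).base ⁻¹' (f.base '' U)))ᶜ)ᶜ) ?_) ?_
  · rintro ⟨t, ht, hte⟩
    refine ht (mem_interior_iff_mem_nhds.2 ?_)
    obtain ⟨p, hp₁, hp₂⟩ := Scheme.exists_preimage_of_isPullback (sq i) x t hte.symm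
    have h1 := h i p hp₁ _
      ((fst i).continuous.continuousAt.preimage_mem_nhds (hp₁ ▸ hU) : (fst i).base ⁻¹' U ∈ _)
    rw [hp₂] at h1
    refine Filter.mem_of_superset h1 ?_
    rintro _ ⟨q, hq, rfl⟩
    exact ⟨_, hq, by rw [← Scheme.Hom.comp_apply, (sq i).w, Scheme.Hom.comp_apply]⟩
  · intro z hz
    obtain ⟨i, t, rfl⟩ := Set.mem_iUnion.1 (hcov.symm ▸ Set.mem_univ z :
      z ∈ ⋃ i, Set.range (v i).base)
    by_contra hne
    exact Set.mem_iInter.1 hz i
      ⟨t, fun ht => hne (interior_subset (s := (v i).base ⁻¹' (f.base '' U)) ht), rfl⟩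

lemma isUnivOpenAt_of_closed_cover {ι : Type w} [Finite ι] {T : ι → Scheme.{u}}
    (v : ∀ i, T i ⟶ Y) [∀ i, UniversallyClosed (v i)]
    (hcov : ⋃ i, Set.range (v i).base = Set.univ)
    (h : ∀ i, ∀ p : ↥(pullback f (v i)), (pullback.fst f (v i)).base p = x →
      EGA43.IsUnivOpenAt (pullback.snd f (v i)) p) :
    EGA43.IsUnivOpenAt f x := by
  intro Y' g x' hx'
  have sq₀ := IsPullback.of_hasPullback f g
  refine isOpenAt_of_closed_cover (v := fun i => pullback.fst g (v i))
    (fun i => IsPullback.of_hasPullback (pullback.snd f g) (pullback.fst g (v i)))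
    (fun i => (pullback.fst g (v i)).isClosedMap) ?_ fun i p hp => ?_
  · simp_rw [Scheme.Pullback.range_fst]
    rw [← Set.preimage_iUnion, hcov, Set.preimage_univ]
  · let k : pullback (pullback.snd f g) (pullback.fst g (v i)) ⟶ pullback f (v i) :=
      pullback.lift (pullback.fst _ _ ≫ pullback.fst f g) (pullback.snd _ _ ≫ pullback.snd g (v i))
        (by rw [Category.assoc, pullback.condition, ← Category.assoc, pullback.condition,
          Category.assoc, Category.assoc, pullback.condition])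
    have hk₁ : k ≫ pullback.fst f (v i) = pullback.fst _ _ ≫ pullback.fst f g :=
      pullback.lift_fst ..
    have hk₂ : k ≫ pullback.snd f (v i) = pullback.snd _ _ ≫ pullback.snd g (v i) :=
      pullback.lift_snd ..
    have big : IsPullback (k ≫ pullback.fst f (v i))
        (pullback.snd (pullback.snd f g) (pullback.fst g (v i))) f
        (pullback.snd g (v i) ≫ v i) := by
      rw [hk₁, ← pullback.condition (f := g) (g := v i)]
      exact (IsPullback.of_hasPullback (pullback.snd f g) (pullback.fst g (v i))).paste_horiz sq₀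
    have hk : (pullback.fst f (v i)).base (k.base p) = x := by
      rw [← Scheme.Hom.comp_apply, hk₁, Scheme.Hom.comp_apply, hp, hx']
    exact isUnivOpenAt_of_isPullback (h i _ hk)
      (IsPullback.of_right big hk₂ (IsPullback.of_hasPullback f (v i))) p rfl

end Scheme

/-- A constructible subset of a prime spectrum containing all generizations of a point is a
neighbourhood of it. -/
lemma mem_nhds_of_isConstructible {R : Type u} [CommRing R] {s : Set (PrimeSpectrum R)}
    (hs : IsConstructible s) {p : PrimeSpectrum R} (h : ∀ q, q ⤳ p → q ∈ s) : s ∈ 𝓝 p := by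
  obtain ⟨S, _, φ, hφ⟩ := PrimeSpectrum.exists_range_eq_of_isConstructible hs.compl
  by_contra hc
  have hp : p ∈ closure sᶜ := by rwa [closure_compl, Set.mem_compl_iff, mem_interior_iff_mem_nhds]
  rw [← hφ, PrimeSpectrum.closure_range_comap, PrimeSpectrum.mem_zeroLocus] at hp
  obtain ⟨q, hq, hqp⟩ := Ideal.exists_minimalPrimes_le (SetLike.coe_subset_coe.1 hp)
  obtain ⟨q', hq', hqe⟩ := Ideal.exists_comap_eq_of_mem_minimalPrimes φ (I := ⊥) q hq
  have hqs : (⟨q, hq.1.1⟩ : PrimeSpectrum R) ∈ sᶜ := by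
    rw [← hφ]
    exact ⟨⟨q', hq'⟩, PrimeSpectrum.ext hqe.2⟩
  exact hqs (h _ ((PrimeSpectrum.le_iff_specializes ⟨q, hq.1.1⟩ p).1 hqp))

/-- Openness at a point of a morphism locally of finite presentation can be tested on
generizations. -/
lemma isOpenAt_of_generizations {X Y : Scheme.{u}} (f : X ⟶ Y) [LocallyOfFinitePresentation f]
    (x : X) (h : ∀ U : X.Opens, x ∈ U → ∀ z : Y, z ⤳ f.base x → z ∈ f.base '' (U : Set X)) :
    EGA43.IsOpenAt f.base x := by
  intro U hU
  obtain ⟨_, ⟨W, hW, rfl⟩, hyW, -⟩ :=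
    Y.isBasis_affineOpens.exists_subset_of_mem_open (Set.mem_univ (f.base x)) isOpen_univ
  obtain ⟨_, ⟨V, hV, rfl⟩, hxV, hVU⟩ :=
    X.isBasis_affineOpens.exists_subset_of_mem_open
      (show x ∈ interior U ∩ f.base ⁻¹' W from ⟨mem_interior_iff_mem_nhds.2 hU, hyW⟩)
      (isOpen_interior.inter (W.isOpen.preimage f.continuous))
  refine Filter.mem_of_superset ?_ (Set.image_mono (hVU.trans
    (Set.inter_subset_left.trans interior_subset)))
  replace hW : IsAffineOpen W := hW
  replace hV : IsAffineOpen V := hV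
  have e : V ≤ f ⁻¹ᵁ W := fun z hz => (hVU hz).2
  let φ := f.appLE W V e
  have hφ : φ.hom.FinitePresentation :=
    HasRingHomProperty.appLE (P := @LocallyOfFinitePresentation) _ ‹_› ⟨W, hW⟩ ⟨V, hV⟩ e
  have hc := PrimeSpectrum.isConstructible_comap_image hφ IsConstructible.univ
  have himg : f.base '' (V : Set X) = hW.fromSpec.base '' (PrimeSpectrum.comap φ.hom '' Set.univ) := by
    rw [← hV.range_fromSpec, ← Set.range_comp]
    refine Eq.trans ?_ ((congrArg (hW.fromSpec.base '' ·) Set.image_univ).trans (Set.range_comp _ _).symm).symm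
    refine congrArg Set.range (funext fun z => ?_)
    show f.base (hV.fromSpec.base z) = hW.fromSpec.base ((Spec.map φ).base z)
    rw [← Scheme.Hom.comp_apply, ← Scheme.Hom.comp_apply, hW.SpecMap_appLE_fromSpec f hV e]
  obtain ⟨p, hp⟩ : f.base x ∈ Set.range hW.fromSpec.base := hW.range_fromSpec ▸ hyW
  rw [himg, ← hp]
  refine hW.fromSpec.isOpenEmbedding.isOpenMap.image_mem_nhds ?_
  refine mem_nhds_of_isConstructible hc fun q hq => ?_
  obtain ⟨z, hz, hze⟩ := himg ▸ h V hxV (hW.fromSpec.base q)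
    (hp ▸ hq.map hW.fromSpec.continuous)
  exact hW.fromSpec.isOpenEmbedding.injective hze ▸ hz

lemma exists_fromSpecStalk_factor {Y : Scheme.{u}} {R : CommRingCat.{u}} [IsLocalRing R]
    (g : Spec R ⟶ Y) (y : Y) (hy : g.base (IsLocalRing.closedPoint R) = y) :
    ∃ t : Spec R ⟶ Spec (Y.presheaf.stalk y), t ≫ Y.fromSpecStalk y = g := by
  subst hy
  exact ⟨_, Scheme.Spec_stalkClosedPointTo_fromSpecStalk g⟩

lemma isUnivOpenAt_iff_fromSpecStalk {X Y : Scheme.{u}} (f : X ⟶ Y) [LocallyOfFinitePresentation f]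
    (x : X) (x₁ : ↥(pullback f (Y.fromSpecStalk (f.base x))))
    (hx₁ : (pullback.fst f (Y.fromSpecStalk (f.base x))).base x₁ = x) :
    EGA43.IsUnivOpenAt f x ↔
      EGA43.IsUnivOpenAt (pullback.snd f (Y.fromSpecStalk (f.base x))) x₁ := by
  refine ⟨fun h => isUnivOpenAt_baseChange h (IsPullback.of_hasPullback _ _) _ hx₁, fun h => ?_⟩
  intro Y' g x' hx'
  have : LocallyOfFinitePresentation (pullback.snd f g) := inferInstance
  refine isOpenAt_of_generizations _ _ fun U hxU z hz => ?_
  set y' := (pullback.snd f g).base x' with hy'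
  let s := Y'.fromSpecStalk y'
  have hgy : (s ≫ g).base (IsLocalRing.closedPoint _) = f.base x := by
    refine (Scheme.Hom.comp_apply s g _).trans ((congrArg g.base (Scheme.fromSpecStalk_closedPoint (X := Y') (x := y'))).trans ?_)
    rw [hy', ← Scheme.Hom.comp_apply, ← pullback.condition, Scheme.Hom.comp_apply, hx']
  obtain ⟨t, ht⟩ := exists_fromSpecStalk_factor (s ≫ g) (f.base x) hgy
  let k : pullback (pullback.snd f g) s ⟶ pullback f (Y.fromSpecStalk (f.base x)) :=
    pullback.lift (pullback.fst _ _ ≫ pullback.fst f g) (pullback.snd _ _ ≫ t)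
      (by rw [Category.assoc, pullback.condition, ← Category.assoc, pullback.condition,
        Category.assoc, Category.assoc, ht])
  have big : IsPullback (k ≫ pullback.fst f (Y.fromSpecStalk (f.base x)))
      (pullback.snd (pullback.snd f g) s) f (t ≫ Y.fromSpecStalk (f.base x)) := by
    rw [ht, pullback.lift_fst]
    exact (IsPullback.of_hasPullback (pullback.snd f g) s).paste_horiz (IsPullback.of_hasPullback f g)
  obtain ⟨p, hp₁, hp₂⟩ := Scheme.Pullback.exists_preimage_pullback
    (f := pullback.snd f g) (g := s) x' (IsLocalRing.closedPoint _)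
    (by rw [Scheme.fromSpecStalk_closedPoint])
  have hkp : k.base p = x₁ := by
    refine (pullback.fst f (Y.fromSpecStalk (f.base x))).isEmbedding.injective ?_
    rw [hx₁, ← Scheme.Hom.comp_apply, pullback.lift_fst, Scheme.Hom.comp_apply, hp₁, hx']
  have hopen := isUnivOpenAt_of_isPullback h
    (IsPullback.of_right big (pullback.lift_snd ..) (IsPullback.of_hasPullback _ _)) p hkp
  obtain ⟨w, hw⟩ : z ∈ Set.range s.base := by rw [Scheme.range_fromSpecStalk]; exact hz
  have hmem := hopen _ (((pullback.fst (pullback.snd f g) s) ⁻¹ᵁ U).isOpen.mem_nhds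
    (show (pullback.fst (pullback.snd f g) s).base p ∈ U from hp₁.symm ▸ hxU))
  rw [hp₂] at hmem
  obtain ⟨O, hO, hOo, hcO⟩ := mem_nhds_iff.1 hmem
  obtain ⟨q, hq, hqw⟩ := hO ((IsLocalRing.specializes_closedPoint w).mem_open hOo hcO)
  refine ⟨(pullback.fst (pullback.snd f g) s).base q, hq, ?_⟩
  rw [← hw, ← hqw, ← Scheme.Hom.comp_apply, ← Scheme.Hom.comp_apply, pullback.condition]

end Groth.EGA43Topo
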