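import Groth.Agent.EGA43Topo.TensorLift
import Groth.Agent.EGA43Topo.OpenAt
import Mathlib.AlgebraicGeometry.Noetherian

/-!
# Universal openness at a point tested on discrete valuation rings (EGA IV 14.5.x)
-/

universe u

open CategoryTheory CategoryTheory.Limits AlgebraicGeometry Topology TensorProduct

namespace Groth.EGA43Topo

/-- A morphism open at a point lifts generizations at that point. -/
lemma exists_specializes_of_isOpenAt {P S : Scheme.{u}} {p : P ⟶ S} {x : P}
    (h : EGA43.IsOpenAt p.base x) {z : S} (hz : z ⤳ p.base x) :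
    ∃ w : P, w ⤳ x ∧ p.base w = z := by
  obtain ⟨_, ⟨W, hW, rfl⟩, hyW, -⟩ :=
    S.isBasis_affineOpens.exists_subset_of_mem_open (Set.mem_univ (p.base x)) isOpen_univ
  obtain ⟨_, ⟨V, hV, rfl⟩, hxV, hVW⟩ := P.isBasis_affineOpens.exists_subset_of_mem_open
    (show x ∈ p.base ⁻¹' W from hyW) (W.isOpen.preimage p.continuous)
  replace hW : IsAffineOpen W := hW
  replace hV : IsAffineOpen V := hV
  let φ := p.appLE W V hVW
  obtain ⟨q, rfl⟩ : x ∈ Set.range hV.fromSpec.base := hV.range_fromSpec ▸ hxV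
  obtain ⟨p0, rfl⟩ : z ∈ Set.range hW.fromSpec.base :=
    hW.range_fromSpec ▸ hz.mem_open W.isOpen hyW
  have hcomm : ∀ w, p.base (hV.fromSpec.base w) = hW.fromSpec.base (PrimeSpectrum.comap φ.hom w) :=
    fun w => by
      rw [← Scheme.Hom.comp_apply, ← hW.SpecMap_appLE_fromSpec p hV hVW]
      rfl
  haveI := q.isPrime
  haveI := p0.isPrime
  obtain ⟨q', hq', hle, he⟩ := exists_le_comap_eq φ.hom q.asIdeal p0.asIdeal (by
    intro g hg r hr hgr
    obtain ⟨O, hO, hOo, hxO⟩ := mem_nhds_iff.1 (h _ ((hV.fromSpec.isOpenEmbedding.isOpenMap _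
      (PrimeSpectrum.basicOpen g).isOpen).mem_nhds ⟨q, hg, rfl⟩))
    obtain ⟨_, ⟨w, hw, rfl⟩, hwz⟩ := hO (hz.mem_open hOo hxO)
    rw [hcomm] at hwz
    have he := congrArg PrimeSpectrum.asIdeal (hW.fromSpec.isOpenEmbedding.injective hwz)
    rcases w.isPrime.mem_or_mem (show g * φ.hom r ∈ w.asIdeal from
      Ideal.map_le_iff_le_comap.2 (le_of_eq he.symm) hgr) with hm | hm
    · exact hw hm
    · exact hr (he ▸ hm))
  refine ⟨hV.fromSpec.base ⟨q', hq'⟩,
    ((PrimeSpectrum.le_iff_specializes ⟨q', hq'⟩ q).1 hle).map hV.fromSpec.continuous, ?_⟩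
  rw [hcomm]
  exact congrArg _ (PrimeSpectrum.ext he)

section Chart

variable {X Y Y' : Scheme.{u}} (f : X ⟶ Y) (g : Y' ⟶ Y) {W : Y.Opens} (hW : IsAffineOpen W)
  {V : X.Opens} (hV : IsAffineOpen V) (e : V ≤ f ⁻¹ᵁ W)
  (D : Type u) [CommRing D] [Algebra Γ(Y, W) D] (j : Spec (.of D) ⟶ Y') [IsOpenImmersion j]
  (hψ : j ≫ g = Spec.map (CommRingCat.ofHom (algebraMap Γ(Y, W) D)) ≫ hW.fromSpec)

include hψ in
/-- An affine chart of a base change. -/
lemma exists_chart :
    letI := (f.appLE W V e).hom.toAlgebra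
    ∃ θ : Spec (.of (D ⊗[Γ(Y, W)] Γ(X, V))) ⟶ pullback f g, IsOpenImmersion θ ∧
      (∀ Q, (pullback.fst f g).base (θ.base Q) = hV.fromSpec.base
        (PrimeSpectrum.comap Algebra.TensorProduct.includeRight.toRingHom Q)) ∧
      (∀ Q, (pullback.snd f g).base (θ.base Q) = j.base
        (PrimeSpectrum.comap Algebra.TensorProduct.includeLeftRingHom Q)) ∧
      Set.range θ.base =
        (pullback.fst f g).base ⁻¹' (V : Set X) ∩ (pullback.snd f g).base ⁻¹' Set.range j.base := by
  letI := (f.appLE W V e).hom.toAlgebra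
  let a := Spec.map (CommRingCat.ofHom (algebraMap Γ(Y, W) D))
  let b := Spec.map (CommRingCat.ofHom (algebraMap Γ(Y, W) Γ(X, V)))
  let m : pullback b a ⟶ pullback f g :=
    pullback.map b a f g hV.fromSpec j hW.fromSpec
      (hW.SpecMap_appLE_fromSpec f hV e) hψ.symm
  let s := (pullbackSpecIso Γ(Y, W) D Γ(X, V)).inv ≫ (pullbackSymmetry a b).hom
  refine ⟨s ≫ m, inferInstance, fun Q => ?_, fun Q => ?_, ?_⟩
  · rw [← Scheme.Hom.comp_apply]
    simp only [s, m, Category.assoc, pullback.lift_fst]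
    rw [pullbackSymmetry_hom_comp_fst_assoc, pullbackSpecIso_inv_snd_assoc]
    rfl
  · rw [← Scheme.Hom.comp_apply]
    simp only [s, m, Category.assoc, pullback.lift_snd]
    rw [pullbackSymmetry_hom_comp_snd_assoc, pullbackSpecIso_inv_fst_assoc]
    rfl
  · rw [show ((s ≫ m).base : _ → _) = m.base ∘ s.base from funext fun z => Scheme.Hom.comp_apply s m z,
      Set.range_comp, Set.range_eq_univ.2 (Scheme.Hom.surjective s), Set.image_univ,
      Scheme.Pullback.range_map, hV.range_fromSpec]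

end Chart

/-- If generizations lift over every discrete valuation ring centred at `f x`, they lift over
every base change. -/
theorem exists_specializes_of_dvr {X Y : Scheme.{u}} [IsLocallyNoetherian Y] (f : X ⟶ Y) (x : X)
    (h : ∀ (A : Type u) [CommRing A] [IsDomain A] [IsDiscreteValuationRing A]
      (g : Spec (CommRingCat.of A) ⟶ Y), g.base (IsLocalRing.closedPoint A) = f.base x →
      ∀ x' : ↥(pullback f g), (pullback.fst f g).base x' = x →
        (pullback.snd f g).base x' = IsLocalRing.closedPoint A →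
        ∃ z' : ↥(pullback f g), z' ⤳ x' ∧ (pullback.snd f g).base z' ≠ IsLocalRing.closedPoint A)
    {Y' : Scheme.{u}} (g : Y' ⟶ Y) (x' : ↥(pullback f g)) (hx' : (pullback.fst f g).base x' = x)
    {z : Y'} (hz : z ⤳ (pullback.snd f g).base x') :
    ∃ w : ↥(pullback f g), w ⤳ x' ∧ (pullback.snd f g).base w = z := by
  have hfg : g.base ((pullback.snd f g).base x') = f.base x := by
    rw [← Scheme.Hom.comp_apply, ← pullback.condition, Scheme.Hom.comp_apply, hx']
  obtain ⟨_, ⟨W, hW, rfl⟩, hyW, -⟩ :=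
    Y.isBasis_affineOpens.exists_subset_of_mem_open (Set.mem_univ (f.base x)) isOpen_univ
  obtain ⟨_, ⟨V, hV, rfl⟩, hxV, e⟩ := X.isBasis_affineOpens.exists_subset_of_mem_open
    (show x ∈ f.base ⁻¹' W from hyW) (W.isOpen.preimage f.continuous)
  obtain ⟨_, ⟨W', hW', rfl⟩, hy'W', e'⟩ := Y'.isBasis_affineOpens.exists_subset_of_mem_open
    (show (pullback.snd f g).base x' ∈ g.base ⁻¹' (W : Set Y) by
      rw [Set.mem_preimage, hfg]; exact hyW) (W.isOpen.preimage g.continuous)
  replace hW : IsAffineOpen W := hW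
  replace hV : IsAffineOpen V := hV
  replace hW' : IsAffineOpen W' := hW'
  haveI : IsNoetherianRing Γ(Y, W) := IsLocallyNoetherian.component_noetherian ⟨W, hW⟩
  letI := (f.appLE W V e).hom.toAlgebra
  let ψ := g.appLE W W' e'
  letI := ψ.hom.toAlgebra
  obtain ⟨θ, hθ, hθ₁, hθ₂, hθr⟩ := exists_chart f g hW hV e Γ(Y', W') hW'.fromSpec
    (hW.SpecMap_appLE_fromSpec g hW' e').symm
  obtain ⟨Q, rfl⟩ : x' ∈ Set.range θ.base := by
    rw [hθr, hW'.range_fromSpec]
    exact ⟨(show (pullback.fst f g).base x' ∈ V from hx'.symm ▸ hxV), hy'W'⟩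
  obtain ⟨p0, rfl⟩ : z ∈ Set.range hW'.fromSpec.base :=
    hW'.range_fromSpec ▸ hz.mem_open W'.isOpen hy'W'
  rw [hθ₂] at hz
  haveI := Q.isPrime
  haveI := p0.isPrime
  have hp0 : p0.asIdeal ≤ Q.asIdeal.comap Algebra.TensorProduct.includeLeftRingHom :=
    (PrimeSpectrum.le_iff_specializes _ (PrimeSpectrum.comap _ Q)).2
      (hW'.fromSpec.isOpenEmbedding.toIsInducing.specializes_iff.1 hz)
  have hcrit : ∀ (A : Type u) [CommRing A] [IsDomain A] [IsDiscreteValuationRing A]
      [Algebra Γ(Y, W) A] (Q₃ : Ideal (A ⊗[Γ(Y, W)] Γ(X, V))) [Q₃.IsPrime],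
      Q₃.comap Algebra.TensorProduct.includeLeftRingHom = IsLocalRing.maximalIdeal A →
      Q₃.comap Algebra.TensorProduct.includeRight.toRingHom =
        Q.asIdeal.comap Algebra.TensorProduct.includeRight.toRingHom →
      ∃ Q' : Ideal (A ⊗[Γ(Y, W)] Γ(X, V)), Q'.IsPrime ∧ Q' ≤ Q₃ ∧
        Q'.comap Algebra.TensorProduct.includeLeftRingHom ≠ IsLocalRing.maximalIdeal A := by
    intro A _ _ _ algA Q₃ _ hQ₃A hQ₃q
    let gA : Spec (CommRingCat.of A) ⟶ Y :=
      Spec.map (CommRingCat.ofHom (algebraMap Γ(Y, W) A)) ≫ hW.fromSpec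
    obtain ⟨θA, hθA, hθA₁, hθA₂, hθAr⟩ := exists_chart f gA hW hV e A (𝟙 _) (Category.id_comp _)
    let P₃ : PrimeSpectrum (A ⊗[Γ(Y, W)] Γ(X, V)) := ⟨Q₃, inferInstance⟩
    have hP₃A : (pullback.snd f gA).base (θA.base P₃) = IsLocalRing.closedPoint A := by
      rw [hθA₂]
      exact PrimeSpectrum.ext hQ₃A
    have hP₃x : (pullback.fst f gA).base (θA.base P₃) = x := by
      rw [hθA₁, ← hx', hθ₁]
      exact congrArg _ (PrimeSpectrum.ext hQ₃q)
    have hcl : gA.base (IsLocalRing.closedPoint A) = f.base x := by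
      rw [← hP₃A, ← Scheme.Hom.comp_apply, ← pullback.condition, Scheme.Hom.comp_apply, hP₃x]
    obtain ⟨z', hz', hne⟩ := h A gA hcl _ hP₃x hP₃A
    obtain ⟨Q'', rfl⟩ : z' ∈ Set.range θA.base :=
      hz'.mem_open θA.isOpenEmbedding.isOpen_range ⟨P₃, rfl⟩
    refine ⟨Q''.asIdeal, Q''.isPrime,
      (PrimeSpectrum.le_iff_specializes Q'' P₃).2 (θA.isOpenEmbedding.toIsInducing.specializes_iff.1 hz'),
      fun he => hne ?_⟩
    rw [hθA₂]
    exact PrimeSpectrum.ext he
  obtain ⟨Q', hQ', hle, he⟩ := exists_le_comap_eq_tensor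
    (Q.asIdeal.comap Algebra.TensorProduct.includeRight.toRingHom) hcrit
    Γ(Y', W') Q.asIdeal rfl p0.asIdeal hp0
  refine ⟨θ.base ⟨Q', hQ'⟩,
    ((PrimeSpectrum.le_iff_specializes ⟨Q', hQ'⟩ Q).1 hle).map θ.continuous, ?_⟩
  rw [hθ₂]
  exact congrArg _ (PrimeSpectrum.ext he)

theorem isUnivOpenAt_of_dvr {X Y : Scheme.{u}} [IsLocallyNoetherian Y] (f : X ⟶ Y)
    [LocallyOfFiniteType f] (x : X)
    (h : ∀ (A : Type u) [CommRing A] [IsDomain A] [IsDiscreteValuationRing A]
      (g : Spec (CommRingCat.of A) ⟶ Y), g.base (IsLocalRing.closedPoint A) = f.base x →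
      ∀ x' : ↥(pullback f g), (pullback.fst f g).base x' = x →
        (pullback.snd f g).base x' = IsLocalRing.closedPoint A →
        ∃ z' : ↥(pullback f g), z' ⤳ x' ∧ (pullback.snd f g).base z' ≠ IsLocalRing.closedPoint A) :
    EGA43.IsUnivOpenAt f x := by
  intro Y' g x' hx'
  haveI : LocallyOfFinitePresentation f := inferInstance
  refine isOpenAt_of_generizations _ _ fun U hxU z hz => ?_
  obtain ⟨w, hw, rfl⟩ := exists_specializes_of_dvr f x h g x' hx' hz
  exact ⟨w, hw.mem_open U.isOpen hxU, rfl⟩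

theorem exists_specializes_of_isUnivOpenAt {X Y : Scheme.{u}} {f : X ⟶ Y} {x : X}
    (h : EGA43.IsUnivOpenAt f x) (A : Type u) [CommRing A] [IsDomain A] [IsDiscreteValuationRing A]
    (g : Spec (CommRingCat.of A) ⟶ Y) (x' : ↥(pullback f g))
    (hx' : (pullback.fst f g).base x' = x) :
    ∃ z' : ↥(pullback f g), z' ⤳ x' ∧ (pullback.snd f g).base z' ≠ IsLocalRing.closedPoint A := by
  obtain ⟨w, hw, he⟩ := exists_specializes_of_isOpenAt (h _ g x' hx')
    (z := (⟨⊥, Ideal.isPrime_bot⟩ : PrimeSpectrum A))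
    ((PrimeSpectrum.le_iff_specializes (⟨⊥, Ideal.isPrime_bot⟩ : PrimeSpectrum A) _).1 bot_le)
  refine ⟨w, hw, fun hc => IsDiscreteValuationRing.not_a_field A ?_⟩
  rw [he] at hc
  exact (congrArg PrimeSpectrum.asIdeal hc).symm

/-- Over a discrete valuation ring all irreducible components dominate iff every point over the
closed point has a generization over the generic point. -/
lemma dense_image_components_iff {P : Scheme.{u}} {A : Type u} [CommRing A] [IsDomain A]
    [IsDiscreteValuationRing A] (p : P ⟶ Spec (CommRingCat.of A)) :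
    (∀ Z ∈ irreducibleComponents (↥P), Dense (p.base '' Z)) ↔
      ∀ x' : P, p.base x' = IsLocalRing.closedPoint A →
        ∃ z', z' ⤳ x' ∧ p.base z' ≠ IsLocalRing.closedPoint A := by
  have hclosed : IsClosed ({IsLocalRing.closedPoint A} : Set ↥(Spec (CommRingCat.of A))) :=
    IsLocalRing.isClosed_singleton_closedPoint _
  constructor
  · intro h x' hx'
    obtain ⟨Z, hZ, hxZ⟩ : ∃ Z ∈ irreducibleComponents (↥P), x' ∈ Z :=
      ⟨irreducibleComponent x', irreducibleComponent_mem_irreducibleComponents x',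
        mem_irreducibleComponent⟩
    have hirr : IsIrreducible Z := hZ.1
    have hcl : IsClosed Z := isClosed_of_mem_irreducibleComponents Z hZ
    refine ⟨hirr.genericPoint, (hirr.isGenericPoint_genericPoint hcl).specializes hxZ,
      fun he => ?_⟩
    have hsub : p.base '' Z ⊆ {IsLocalRing.closedPoint A} := by
      rintro _ ⟨y, hy, rfl⟩
      refine hclosed.closure_subset (specializes_iff_mem_closure.1 ?_)
      rw [← he]
      exact ((hirr.isGenericPoint_genericPoint hcl).specializes hy).map p.continuous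
    have huniv := (h Z hZ).mono hsub
    rw [dense_iff_closure_eq, hclosed.closure_eq] at huniv
    have hbot : (⟨⊥, Ideal.isPrime_bot⟩ : PrimeSpectrum A) ∈
        ({IsLocalRing.closedPoint A} : Set ↥(Spec (CommRingCat.of A))) := huniv.symm ▸ Set.mem_univ _
    exact IsDiscreteValuationRing.not_a_field A (congrArg PrimeSpectrum.asIdeal hbot).symm
  · intro h Z hZ
    have hirr : IsIrreducible Z := hZ.1
    have hcl : IsClosed Z := isClosed_of_mem_irreducibleComponents Z hZ
    have hgen : IsGenericPoint hirr.genericPoint Z := hirr.isGenericPoint_genericPoint hcl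
    have hne : p.base hirr.genericPoint ≠ IsLocalRing.closedPoint A := by
      intro hc
      obtain ⟨z', hz', hz'c⟩ := h _ hc
      have hle : Z ⊆ closure {z'} := by
        rw [← hgen.def]
        exact closure_minimal (Set.singleton_subset_iff.2 hz'.mem_closure) isClosed_closure
      have heq : closure {z'} = Z := (hZ.2 isIrreducible_singleton.closure hle).antisymm hle
      exact hz'c ((IsGenericPoint.eq (S := Z) heq hgen) ▸ hc)
    refine Dense.mono (Set.singleton_subset_iff.2 ⟨_, hgen.mem, rfl⟩) ?_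
    have hbot : (p.base hirr.genericPoint).asIdeal = ⊥ := by
      by_contra h0
      exact hne (PrimeSpectrum.ext (IsLocalRing.eq_maximalIdeal
        ((p.base hirr.genericPoint).isPrime.isMaximal h0)))
    rw [dense_iff_closure_eq]
    refine (PrimeSpectrum.closure_singleton _).trans ?_
    rw [hbot]
    ext y
    simp
    trivial

theorem isUnivOpenAt_fibre_iff_dvr {X Y : Scheme.{u}} [IsLocallyNoetherian Y] (f : X ⟶ Y)
    [LocallyOfFiniteType f] (y : Y) :
    (∀ x : X, f.base x = y → EGA43.IsUnivOpenAt f x) ↔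
      ∀ (A : Type u) [CommRing A] [IsDomain A] [IsDiscreteValuationRing A]
        (g : Spec (CommRingCat.of A) ⟶ Y), g.base (IsLocalRing.closedPoint A) = y →
        ∀ Z ∈ irreducibleComponents (↥(pullback f g)), Dense ((pullback.snd f g).base '' Z) := by
  constructor
  · intro h A _ _ _ g hg
    rw [dense_image_components_iff]
    intro x' hx'
    refine exists_specializes_of_isUnivOpenAt (h _ ?_) A g x' rfl
    rw [← Scheme.Hom.comp_apply, pullback.condition, Scheme.Hom.comp_apply, hx', hg]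
  · intro h x hx
    refine isUnivOpenAt_of_dvr f x fun A _ _ _ g hg x' _ hx'c => ?_
    exact (dense_image_components_iff _).1 (h A g (hg.trans hx)) x' hx'c

/-- Universally open means universally open at every point. -/
theorem universallyOpen_iff_forall_isUnivOpenAt {X Y : Scheme.{u}} (f : X ⟶ Y) :
    UniversallyOpen f ↔ ∀ x, EGA43.IsUnivOpenAt f x := by
  constructor
  · intro h x Y' g x' _ U hU
    exact (pullback.snd f g).isOpenMap.image_mem_nhds hU
  · intro h
    constructor
    intro P Y' i₁ i₂ f' sq U hU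
    rw [isOpen_iff_mem_nhds]
    rintro _ ⟨p, hp, rfl⟩
    exact isUnivOpenAt_of_isPullback (h _) sq.flip p rfl U (hU.mem_nhds hp)

end Groth.EGA43Topo
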