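import Groth.Agent.HensPair.NormalUnibranch
import Groth.Prelude.Def_EGA43
import Mathlib.RingTheory.IntegralClosure.GoingDown
import Mathlib.RingTheory.ZariskisMainTheorem
import Mathlib.RingTheory.Spectrum.Prime.Topology

/-!
# Openness at unibranch points (EGA IV 14.4)

* integral extensions of a normal domain are open on spectra;
* an integral extension of domains is open at a prime over a unibranch prime;
* the same at a quasi-finite point.
-/

set_option autoImplicit false
set_option linter.style.haveILetI false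

universe u

open Polynomial

namespace Groth.EGA43Topo

/-- Integral extensions of an integrally closed domain induce open maps of spectra. -/
theorem isOpenMap_comap_of_isIntegrallyClosed (R S : Type u) [CommRing R] [CommRing S] [Algebra R S]
    [IsDomain R] [IsDomain S] [FaithfulSMul R S] [Algebra.IsIntegral R S] [IsIntegrallyClosed R] :
    IsOpenMap (PrimeSpectrum.comap (algebraMap R S)) := by
  rw [PrimeSpectrum.isTopologicalBasis_basic_opens.isOpenMap_iff]
  rintro _ ⟨a, rfl⟩
  have ha : IsIntegral R a := Algebra.IsIntegral.isIntegral a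
  set g := minpoly R a with hg
  have hgm : g.Monic := minpoly.monic ha
  suffices h : PrimeSpectrum.comap (algebraMap R S) '' (PrimeSpectrum.basicOpen a : Set (PrimeSpectrum S)) =
      ⋃ i ∈ Finset.range g.natDegree, (PrimeSpectrum.basicOpen (g.coeff i) : Set (PrimeSpectrum R)) by
    rw [h]; exact isOpen_biUnion fun i _ => (PrimeSpectrum.basicOpen _).isOpen
  ext p
  simp only [Set.mem_image, Set.mem_iUnion, SetLike.mem_coe, PrimeSpectrum.mem_basicOpen, exists_prop,
    Finset.mem_range]
  constructor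
  · rintro ⟨Q, hQa, rfl⟩
    by_contra h
    push Not at h
    refine hQa (Q.isPrime.mem_of_pow_mem g.natDegree ?_)
    have e : aeval a g = 0 := minpoly.aeval R a
    rw [aeval_eq_sum_range, Finset.sum_range_succ, hgm.coeff_natDegree, one_smul] at e
    rw [eq_neg_of_add_eq_zero_right e]
    refine neg_mem (Ideal.sum_mem _ fun i hi => ?_)
    rw [Algebra.smul_def]
    exact Ideal.mul_mem_right _ _ (h i (Finset.mem_range.1 hi))
  · rintro ⟨i, hi, hip⟩
    have hrad : a ∉ (p.asIdeal.map (algebraMap R S)).radical := by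
      rintro ⟨m, hm⟩
      obtain ⟨f, hfm, hfa, hf⟩ := exists_monic_aeval_eq_zero_forall_mem_of_mem_map hm
      have hF : aeval a (f.comp (X ^ m)) = 0 := by rw [aeval_comp]; simpa using hfa
      rcases Nat.eq_zero_or_pos m with hm0 | hm0
      · subst hm0
        rw [pow_zero] at hm
        obtain ⟨Q, -, hQ, hQp⟩ := Ideal.exists_ideal_over_prime_of_isIntegral p.asIdeal (⊥ : Ideal S)
          (by rw [Ideal.comap_bot_of_injective _ (FaithfulSMul.algebraMap_injective R S)]; exact bot_le)
        exact hQ.ne_top ((Ideal.eq_top_iff_one _).2 (Ideal.map_le_iff_le_comap.2 hQp.ge hm))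
      have hFm : (f.comp (X ^ m)).Monic := hfm.comp (monic_X_pow m) (by simp; omega)
      have hd : g ∣ f.comp (X ^ m) := minpoly.isIntegrallyClosed_dvd ha hF
      have h1 := Polynomial.coeff_mem_radical_span_coeff_of_dvd _ _ hFm hgm hd i (by omega)
      refine hip (p.isPrime.radical_le_iff.2 ?_ h1)
      rw [Ideal.span_le]
      rintro _ ⟨j, hj, rfl⟩
      rw [SetLike.mem_coe, show f.comp (X ^ m) = expand R m f from (expand_eq_comp_X_pow _).symm,
        coeff_expand hm0]
      split_ifs with hdvd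
      · refine hf _ fun he => ?_
        rw [natDegree_comp, natDegree_X_pow] at hj
        have := Nat.div_mul_cancel hdvd
        rw [he] at this
        omega
      · exact zero_mem _
    rw [Ideal.radical_eq_sInf, Ideal.mem_sInf] at hrad
    push Not at hrad
    obtain ⟨Q₁, ⟨hQ₁, hQ₁p⟩, hQ₁a⟩ := hrad
    haveI := hQ₁p
    obtain ⟨Q, hQle, hQ, hQo⟩ := Ideal.exists_ideal_le_liesOver_of_le (p := p.asIdeal)
      (q := Q₁.comap (algebraMap R S)) Q₁ (Ideal.map_le_iff_le_comap.1 hQ₁)
    exact ⟨⟨Q, hQ⟩, fun h => hQ₁a (hQle h), PrimeSpectrum.ext hQo.over.symm⟩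

/-- Over a unibranch prime, the normalization of a domain has a single prime. -/
theorem eq_of_isUnibranch (A : Type u) [CommRing A] [IsDomain A] (p : Ideal A) [p.IsPrime]
    (h : CAlg2.IsUnibranch (Localization.AtPrime p))
    (P₁ P₂ : Ideal (integralClosure A (FractionRing A))) [P₁.IsPrime] [P₂.IsPrime]
    (h₁ : P₁.comap (algebraMap A _) = p) (h₂ : P₂.comap (algebraMap A _) = p) : P₁ = P₂ := by
  let K := FractionRing A
  let O := Localization.AtPrime p
  letI : Algebra O K := (IsLocalization.lift (M := p.primeCompl) (g := algebraMap A K)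
    (fun y => IsUnit.mk0 _ fun h0 => y.2 (by
      rw [(map_eq_zero_iff _ (IsFractionRing.injective A K)).1 h0]; exact zero_mem _))).toAlgebra
  haveI : IsScalarTower A O K :=
    IsScalarTower.of_algebraMap_eq fun x => (IsLocalization.lift_eq _ x).symm
  haveI : IsDomain O := inferInstance
  haveI : IsFractionRing O K :=
    IsFractionRing.isFractionRing_of_isDomain_of_isLocalization p.primeCompl O K
  haveI := Groth.HensPair.isLocalRing_integralClosure_of_unibranch (K := K) h
  let C := integralClosure A K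
  let CO := integralClosure O K
  let j : C →+* CO :=
    { toFun := fun c => ⟨c.1, (c.2 : IsIntegral A c.1).tower_top⟩
      map_one' := rfl, map_mul' := fun _ _ => rfl, map_zero' := rfl, map_add' := fun _ _ => rfl }
  let M := (IsLocalRing.maximalIdeal CO).comap j
  haveI : M.IsPrime := Ideal.comap_isPrime _ _
  have key : ∀ (P : Ideal C) [P.IsPrime], P.comap (algebraMap A C) = p → P = M := by
    intro P _ hP
    have hle : P ≤ M := by
      intro c hc
      show j c ∈ IsLocalRing.maximalIdeal CO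
      rw [IsLocalRing.mem_maximalIdeal, mem_nonunits_iff]
      intro hu
      obtain ⟨d, hd⟩ := hu.exists_right_inv
      obtain ⟨s, hs⟩ := IsIntegral.exists_multiple_integral_of_isLocalization p.primeCompl d.1 d.2
      have hs' : IsIntegral A (algebraMap A K (s : A) * d.1) := by
        rwa [Submonoid.smul_def, Algebra.smul_def] at hs
      have hmem : c * (⟨algebraMap A K (s : A) * d.1, hs'⟩ : C) = algebraMap A C (s : A) := by
        apply Subtype.ext
        have hd' : c.1 * d.1 = 1 := congrArg Subtype.val hd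
        show c.1 * (algebraMap A K (s : A) * d.1) = algebraMap A K (s : A)
        rw [mul_left_comm, hd', mul_one]
      refine s.2 (SetLike.mem_coe.2 (hP.le ?_))
      rw [Ideal.mem_comap, ← hmem]
      exact P.mul_mem_right _ hc
    refine eq_of_le_of_not_lt hle fun hlt => ?_
    obtain ⟨hle', hne⟩ := lt_iff_le_and_ne.1 (Ideal.IsIntegral.comap_lt_comap (R := A) hlt)
    refine hne (le_antisymm hle' fun x hx => ?_)
    rw [hP]
    by_contra hxp
    have hu : IsUnit (j (algebraMap A C x)) := by
      have h1 := IsLocalization.map_units O (⟨x, hxp⟩ : p.primeCompl)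
      have h2 : j (algebraMap A C x) = algebraMap O CO (algebraMap A O x) :=
        Subtype.ext (IsScalarTower.algebraMap_apply A O K x)
      rw [h2]; exact h1.map _
    exact (IsLocalRing.mem_maximalIdeal _).1 (show j (algebraMap A C x) ∈ IsLocalRing.maximalIdeal CO from hx) hu
  rw [key P₁ h₁, key P₂ h₂]

/-- EGA IV 14.4.1.1: an integral extension of domains is open at every prime over a unibranch prime. -/
theorem isOpenAt_comap_of_isIntegral (A B : Type u) [CommRing A] [IsDomain A] [CommRing B] [IsDomain B]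
    [Algebra A B] (hinj : Function.Injective (algebraMap A B)) [Algebra.IsIntegral A B] (q : PrimeSpectrum B)
    (h : CAlg2.IsUnibranch (Localization.AtPrime (q.asIdeal.comap (algebraMap A B)))) :
    EGA43.IsOpenAt (PrimeSpectrum.comap (algebraMap A B)) q := by
  let K := FractionRing A
  let L := FractionRing B
  have hL : Function.Injective (algebraMap A L) := by
    rw [IsScalarTower.algebraMap_eq A B L]
    exact (IsFractionRing.injective B L).comp hinj
  let j : K →+* L := IsFractionRing.lift hL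
  let jA : K →ₐ[A] L := ⟨j, fun a => IsFractionRing.lift_algebraMap hL a⟩
  let A' := integralClosure A K
  let C := integralClosure A L
  haveI : IsIntegrallyClosed A' := integralClosure.isIntegrallyClosedOfFiniteExtension K
  let f : A' →ₐ[A] C := (jA.comp A'.val).codRestrict C fun z => (z.2 : IsIntegral _ _).map jA
  letI : Algebra A' C := f.toRingHom.toAlgebra
  haveI : IsScalarTower A A' C := IsScalarTower.of_algebraMap_eq fun a => (f.commutes a).symm
  haveI : Algebra.IsIntegral A' C := Algebra.IsIntegral.tower_top A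
  haveI : FaithfulSMul A' C := (faithfulSMul_iff_algebraMap_injective _ _).2 fun a b hab =>
    Subtype.ext (j.injective (congrArg Subtype.val hab))
  let g : B →ₐ[A] C := (IsScalarTower.toAlgHom A B L).codRestrict C
    fun b => (Algebra.IsIntegral.isIntegral b).map _
  letI : Algebra B C := g.toRingHom.toAlgebra
  haveI : IsScalarTower A B C := IsScalarTower.of_algebraMap_eq fun a => (g.commutes a).symm
  haveI : Algebra.IsIntegral B C := Algebra.IsIntegral.tower_top A
  haveI : FaithfulSMul B C := (faithfulSMul_iff_algebraMap_injective _ _).2 fun a b hab =>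
    IsFractionRing.injective B L (congrArg Subtype.val hab)
  obtain ⟨Q, -, hQ, hQq⟩ := Ideal.exists_ideal_over_prime_of_isIntegral q.asIdeal (⊥ : Ideal C)
    (by rw [Ideal.comap_bot_of_injective _ (FaithfulSMul.algebraMap_injective B C)]; exact bot_le)
  intro U hU
  obtain ⟨U₀, hU₀, hU₀o, hqU₀⟩ := mem_nhds_iff.1 hU
  let W : Set (PrimeSpectrum A') :=
    PrimeSpectrum.comap (algebraMap A' C) '' (PrimeSpectrum.comap (algebraMap B C) ⁻¹' U₀)
  have hWo : IsOpen W := isOpenMap_comap_of_isIntegrallyClosed A' C _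
    (hU₀o.preimage (PrimeSpectrum.continuous_comap (algebraMap B C)))
  have hQW : PrimeSpectrum.comap (algebraMap A' C) ⟨Q, hQ⟩ ∈ W :=
    ⟨⟨Q, hQ⟩, Set.mem_preimage.2 (by
      rw [show PrimeSpectrum.comap (algebraMap B C) ⟨Q, hQ⟩ = q from PrimeSpectrum.ext hQq]; exact hqU₀), rfl⟩
  let Z : Set (PrimeSpectrum A) := PrimeSpectrum.comap (algebraMap A A') '' Wᶜ
  have hZ : IsClosed Z := PrimeSpectrum.isClosedMap_comap_of_isIntegral _
    (algebraMap_isIntegral_iff.2 inferInstance) _ hWo.isClosed_compl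
  have hcomp : ∀ x : PrimeSpectrum C, PrimeSpectrum.comap (algebraMap A A') (PrimeSpectrum.comap (algebraMap A' C) x) =
      PrimeSpectrum.comap (algebraMap A B) (PrimeSpectrum.comap (algebraMap B C) x) := fun x => by
    rw [← PrimeSpectrum.comap_comp_apply, ← PrimeSpectrum.comap_comp_apply,
      ← IsScalarTower.algebraMap_eq A A' C, ← IsScalarTower.algebraMap_eq A B C]
  have hpZ : PrimeSpectrum.comap (algebraMap A B) q ∉ Z := by
    rintro ⟨P, hPW, hP⟩
    have hQp := hcomp ⟨Q, hQ⟩
    rw [show PrimeSpectrum.comap (algebraMap B C) ⟨Q, hQ⟩ = q from PrimeSpectrum.ext hQq] at hQp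
    have := eq_of_isUnibranch A _ h P.asIdeal (PrimeSpectrum.comap (algebraMap A' C) ⟨Q, hQ⟩).asIdeal
      (congrArg PrimeSpectrum.asIdeal hP) (congrArg PrimeSpectrum.asIdeal hQp)
    exact hPW (PrimeSpectrum.ext this ▸ hQW)
  refine Filter.mem_of_superset (hZ.isOpen_compl.mem_nhds hpZ) fun p hp => ?_
  obtain ⟨P, -, hP, hPp⟩ := Ideal.exists_ideal_over_prime_of_isIntegral p.asIdeal (⊥ : Ideal A')
    (by rw [Ideal.comap_bot_of_injective _ (FaithfulSMul.algebraMap_injective A A')]; exact bot_le)
  have hPW : (⟨P, hP⟩ : PrimeSpectrum A') ∈ W :=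
    Classical.byContradiction fun hn => hp ⟨⟨P, hP⟩, hn, PrimeSpectrum.ext hPp⟩
  obtain ⟨x, hx, hxP⟩ := hPW
  refine ⟨_, hU₀ hx, ?_⟩
  rw [← hcomp, hxP]
  exact PrimeSpectrum.ext hPp

/-- EGA IV 14.4.1.2: openness at a quasi-finite point over a unibranch prime, for domains. -/
theorem isOpenAt_comap_of_quasiFiniteAt (A D : Type u) [CommRing A] [IsDomain A] [CommRing D] [IsDomain D]
    [Algebra A D] (hinj : Function.Injective (algebraMap A D)) [Algebra.FiniteType A D] (q : PrimeSpectrum D)
    [Algebra.QuasiFiniteAt A q.asIdeal]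
    (h : CAlg2.IsUnibranch (Localization.AtPrime (q.asIdeal.comap (algebraMap A D)))) :
    EGA43.IsOpenAt (PrimeSpectrum.comap (algebraMap A D)) q := by
  obtain ⟨r, hr, hri, hint⟩ := Algebra.zariskisMainProperty_iff.1
    (Algebra.ZariskisMainProperty.of_finiteType (R := A) q.asIdeal)
  let I := integralClosure A D
  let qI : PrimeSpectrum I := PrimeSpectrum.comap I.val.toRingHom q
  have hI : EGA43.IsOpenAt (PrimeSpectrum.comap (algebraMap A I)) qI :=
    isOpenAt_comap_of_isIntegral A I (fun a b hab => hinj (congrArg Subtype.val hab)) qI h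
  intro U hU
  obtain ⟨U₀, hU₀, hU₀o, hqU₀⟩ := mem_nhds_iff.1 hU
  obtain ⟨_, ⟨d, rfl⟩, hqd, hdU⟩ :=
    PrimeSpectrum.isTopologicalBasis_basic_opens.exists_subset_of_mem_open hqU₀ hU₀o
  obtain ⟨m, hm⟩ := hint d
  let i₀ : I := ⟨r ^ (m + 1) * d, by rw [pow_succ', mul_assoc]; exact hri.mul hm⟩
  have hi₀ : qI ∈ PrimeSpectrum.basicOpen i₀ := by
    rw [PrimeSpectrum.mem_basicOpen]
    exact q.isPrime.mul_notMem (fun h' => hr (q.isPrime.mem_of_pow_mem _ h')) hqd
  refine Filter.mem_of_superset (hI _ ((PrimeSpectrum.basicOpen i₀).isOpen.mem_nhds hi₀)) ?_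
  rintro _ ⟨Q, hQ, rfl⟩
  let r' : I := ⟨r, hri⟩
  have hQr : r' ∉ Q.asIdeal := fun hh => hQ (by
    have : i₀ = r' * ⟨r ^ m * d, hm⟩ := Subtype.ext (by simp only [i₀, r', Subalgebra.coe_mul, pow_succ', mul_assoc])
    rw [this]; exact Ideal.mul_mem_right _ _ hh)
  have hmul : ∀ {k l : ℕ} {x : D} {i : I}, (i : D) = r ^ k * x → k ≤ l →
      ∃ i' : I, (i' : D) = r ^ l * x ∧ i' = r' ^ (l - k) * i := fun {k l x i} hi hkl =>
    ⟨r' ^ (l - k) * i, by simp only [Subalgebra.coe_mul, SubmonoidClass.coe_pow, r', hi, ← mul_assoc, ← pow_add, Nat.sub_add_cancel hkl], rfl⟩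
  let Q' : Ideal D :=
    { carrier := {x | ∃ k, ∃ i : I, (i : D) = r ^ k * x ∧ i ∈ Q.asIdeal}
      zero_mem' := ⟨0, 0, by simp, zero_mem _⟩
      add_mem' := by
        rintro x y ⟨k, i, hi, hiQ⟩ ⟨l, i', hi', hiQ'⟩
        obtain ⟨a, ha, rfl⟩ := hmul hi (Nat.le_add_right k l)
        obtain ⟨b, hb, rfl⟩ := hmul hi' (Nat.le_add_left l k)
        exact ⟨k + l, _, by rw [Subalgebra.coe_add, ha, hb, mul_add],
          add_mem (Ideal.mul_mem_left _ _ hiQ) (Ideal.mul_mem_left _ _ hiQ')⟩
      smul_mem' := by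
        rintro c x ⟨k, i, hi, hiQ⟩
        obtain ⟨l, hl⟩ := hint c
        exact ⟨l + k, ⟨_, hl⟩ * i, by simp only [Subalgebra.coe_mul, hi, smul_eq_mul, pow_add]; ring,
          Ideal.mul_mem_left _ _ hiQ⟩ }
  have hQ'I : ∀ i : I, (i : D) ∈ Q' ↔ i ∈ Q.asIdeal := by
    refine fun i => ⟨?_, fun hi => ⟨0, i, by simp, hi⟩⟩
    rintro ⟨k, i', hi', hiQ'⟩
    have : i' = r' ^ k * i := Subtype.ext (by simp [hi', r'])
    rw [this] at hiQ'
    exact (Q.isPrime.mem_or_mem hiQ').resolve_left fun h' => hQr (Q.isPrime.mem_of_pow_mem _ h')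
  haveI hQ'prime : Q'.IsPrime := by
    refine ⟨fun htop => Q.isPrime.ne_top ((Ideal.eq_top_iff_one _).2 ((hQ'I 1).1 (by rw [htop]; trivial))),
      fun {x y} hxy => ?_⟩
    obtain ⟨k, hk⟩ := hint x
    obtain ⟨l, hl⟩ := hint y
    have h1 : ((⟨_, hk⟩ : I) * ⟨_, hl⟩ : I) ∈ Q.asIdeal := (hQ'I _).1 (by
      show r ^ k * x * (r ^ l * y) ∈ Q'
      rw [show r ^ k * x * (r ^ l * y) = r ^ k * r ^ l * (x * y) by ring]
      exact Q'.mul_mem_left _ hxy)
    exact (Q.isPrime.mem_or_mem h1).imp (fun h' => ⟨k, _, rfl, h'⟩) (fun h' => ⟨l, _, rfl, h'⟩)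
  refine ⟨⟨Q', hQ'prime⟩, hU₀ (hdU ?_), PrimeSpectrum.ext (Ideal.ext fun a => hQ'I (algebraMap A I a))⟩
  rw [SetLike.mem_coe, PrimeSpectrum.mem_basicOpen]
  intro hd
  exact hQ ((hQ'I i₀).1 (Q'.mul_mem_left _ hd))

/-- Unibranchness only depends on the reduced ring. -/
theorem isUnibranch_of_red_equiv {A B : Type u} [CommRing A] [CommRing B] [IsLocalRing A] [IsLocalRing B]
    (r : CAlg2.red A ≃+* CAlg2.red B) (h : CAlg2.IsUnibranch A) : CAlg2.IsUnibranch B := by
  have : IsDomain (CAlg2.red A) := h.1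
  have : IsLocalRing (CAlg2.normRed A) := h.2
  have hd : IsDomain (CAlg2.red B) := r.symm.toMulEquiv.isDomain
  refine ⟨hd, ?_⟩
  let Φ : FractionRing (CAlg2.red A) ≃+* FractionRing (CAlg2.red B) := IsFractionRing.ringEquivOfRingEquiv r
  have hΦ : ∀ a, Φ (algebraMap (CAlg2.red A) _ a) = algebraMap (CAlg2.red B) _ (r a) := fun a =>
    IsFractionRing.ringEquivOfRingEquiv_algebraMap r a
  have hto : ∀ x, IsIntegral (CAlg2.red A) x → IsIntegral (CAlg2.red B) (Φ x) := fun x hx =>
    hx.map_of_comp_eq r.toRingHom Φ.toRingHom (RingHom.ext fun a => (hΦ a).symm)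
  have hfrom : ∀ x, IsIntegral (CAlg2.red B) x → IsIntegral (CAlg2.red A) (Φ.symm x) := fun x hx =>
    hx.map_of_comp_eq r.symm.toRingHom Φ.symm.toRingHom (RingHom.ext fun a => by
      show algebraMap (CAlg2.red A) _ (r.symm a) = Φ.symm (algebraMap _ _ a)
      rw [RingEquiv.eq_symm_apply, hΦ, r.apply_symm_apply])
  let ψ : CAlg2.normRed A ≃+* CAlg2.normRed B :=
    { toFun := fun x => ⟨Φ x.1, hto x.1 x.2⟩
      invFun := fun x => ⟨Φ.symm x.1, hfrom x.1 x.2⟩
      left_inv := fun x => Subtype.ext (Φ.symm_apply_apply _)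
      right_inv := fun x => Subtype.ext (Φ.apply_symm_apply _)
      map_mul' := fun x y => Subtype.ext (map_mul Φ _ _)
      map_add' := fun x y => Subtype.ext (map_add Φ _ _) }
  exact ψ.isLocalRing

/-- A local ring `O = R_P` with `R` of prime nilradical: unibranchness passes to the reduced localization. -/
theorem isUnibranch_quotient_nilradical (R : Type u) [CommRing R] [(nilradical R).IsPrime]
    (O : Type u) [CommRing O] [IsLocalRing O] [Algebra R O] (p : Ideal (R ⧸ nilradical R)) [p.IsPrime]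
    [IsLocalization.AtPrime O (p.comap (Ideal.Quotient.mk (nilradical R)))] (h : CAlg2.IsUnibranch O) :
    CAlg2.IsUnibranch (Localization.AtPrime p) := by
  let π : R →+* R ⧸ nilradical R := Ideal.Quotient.mk _
  haveI : IsDomain (Localization.AtPrime p) := inferInstance
  let ψ : O →+* Localization.AtPrime p := IsLocalization.map (M := (p.comap π).primeCompl)
    (T := p.primeCompl) (Localization.AtPrime p) π (fun x hx => hx)
  have hψ : Function.Surjective ψ := by
    intro z
    obtain ⟨x, ⟨s, hs⟩, rfl⟩ := IsLocalization.exists_mk'_eq p.primeCompl z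
    obtain ⟨x, rfl⟩ := Ideal.Quotient.mk_surjective x
    obtain ⟨s, rfl⟩ := Ideal.Quotient.mk_surjective s
    exact ⟨IsLocalization.mk' O x (⟨s, hs⟩ : (p.comap π).primeCompl), IsLocalization.map_mk' _ _ _⟩
  have hker : RingHom.ker ψ = nilradical O := by
    haveI := RingHom.ker_isPrime ψ
    refine le_antisymm (fun z hz => ?_) (nilradical_le_prime _)
    obtain ⟨x, s, rfl⟩ := IsLocalization.exists_mk'_eq (p.comap π).primeCompl z
    rw [RingHom.mem_ker, IsLocalization.map_mk', IsLocalization.mk'_eq_zero_iff] at hz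
    obtain ⟨c, hc⟩ := hz
    have hx : π x = 0 := (mul_eq_zero.1 hc).resolve_left fun h0 => c.2 (by rw [h0]; exact zero_mem _)
    rw [IsLocalization.mk'_eq_mul_mk'_one]
    exact Ideal.mul_mem_right _ _
      (mem_nilradical.2 ((mem_nilradical.1 (Ideal.Quotient.eq_zero_iff_mem.1 hx)).map (algebraMap R O)))
  let r : CAlg2.red O ≃+* CAlg2.red (Localization.AtPrime p) :=
    ((Ideal.quotEquivOfEq hker.symm).trans (RingHom.quotientKerEquivOfSurjective hψ)).trans
      ((Ideal.quotEquivOfEq (nilradical_eq_zero _)).trans (RingEquiv.quotientBot _)).symm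
  exact isUnibranch_of_red_equiv r h

end Groth.EGA43Topo
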