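import Groth.Agent.EGA43Topo.UnibranchCriterion
import Mathlib.RingTheory.AlgebraicIndependent.TranscendenceBasis
import Mathlib.RingTheory.TensorProduct.MvPolynomial
import Mathlib.RingTheory.Flat.Stability
import Mathlib.RingTheory.Ideal.GoingDown
import Mathlib.RingTheory.MvPolynomial.Localization

/-!
# Parameters for Chevalley's criterion (EGA IV 14.4.1)
-/

universe u

set_option linter.style.haveILetI false


open TensorProduct

namespace Groth.EGA43Topo

/-- Quasi-finiteness at a prime isolated among comparable primes with the same contraction. -/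
theorem quasiFiniteAt_of_comparable {R S : Type u} [CommRing R] [CommRing S] [Algebra R S]
    [Algebra.FiniteType R S] (n : Ideal S) [n.IsPrime]
    (h : ∀ n' : Ideal S, n'.IsPrime → (n' ≤ n ∨ n ≤ n') →
      n'.comap (algebraMap R S) = n.comap (algebraMap R S) → n' = n) :
    Algebra.QuasiFiniteAt R n := by
  let q : PrimeSpectrum S := ⟨n, inferInstance⟩
  show Algebra.QuasiFiniteAt R q.asIdeal
  refine Algebra.QuasiFiniteAt.of_isOpen_singleton_fiber q ?_
  let p := q.comap (algebraMap R S)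
  let e := PrimeSpectrum.preimageHomeomorphFiber R S p
  haveI : IsNoetherianRing (p.asIdeal.Fiber S) :=
    Algebra.FiniteType.isNoetherianRing p.asIdeal.ResidueField _
  haveI : IsJacobsonRing (p.asIdeal.Fiber S) := isJacobsonRing_of_finiteType (A := p.asIdeal.ResidueField)
  rw [← e.isOpen_image, Set.image_singleton]
  refine ((PrimeSpectrum.isOpen_singleton_tfae_of_isNoetherian_of_isJacobsonRing _).out 0 2 rfl rfl).2 ⟨?_, ?_⟩
  · rw [← closure_subset_iff_isClosed]
    intro w hw
    obtain ⟨w', rfl⟩ := e.surjective w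
    have h1 := (subtype_specializes_iff _ _).1
      (e.isInducing.specializes_iff.1 (specializes_iff_mem_closure.2 hw))
    exact congrArg e (Subtype.ext (PrimeSpectrum.ext (h _ w'.1.isPrime
      (Or.inr ((PrimeSpectrum.le_iff_specializes q w'.1).2 h1)) (congrArg PrimeSpectrum.asIdeal w'.2))))
  · intro a b hab ha
    rw [Set.mem_singleton_iff] at ha
    subst ha
    obtain ⟨w', rfl⟩ := e.surjective b
    have h1 := (subtype_specializes_iff _ _).1 (e.isInducing.specializes_iff.1 hab)
    exact congrArg e (Subtype.ext (PrimeSpectrum.ext (h _ w'.1.isPrime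
      (Or.inl ((PrimeSpectrum.le_iff_specializes w'.1 q).2 h1)) (congrArg PrimeSpectrum.asIdeal w'.2))))

variable {R S : Type u} [CommRing R] [CommRing S] [Algebra R S] (p : Ideal R) (P : Ideal S) [P.LiesOver p]
  {d : ℕ} (t : Fin d → S)

lemma mk_aeval (f : MvPolynomial (Fin d) R) :
    MvPolynomial.aeval (fun i => Ideal.Quotient.mk P (t i)) (f.map (Ideal.Quotient.mk p)) =
      Ideal.Quotient.mk P (MvPolynomial.aeval t f) := by
  rw [← Ideal.Quotient.algebraMap_eq p, MvPolynomial.aeval_map_algebraMap]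
  exact (MvPolynomial.comp_aeval_apply _ (Ideal.Quotient.mkₐ R P) f).symm

lemma mem_iff_of_algebraicIndependent
    (h : AlgebraicIndependent (R ⧸ p) fun i => Ideal.Quotient.mk P (t i)) (f : MvPolynomial (Fin d) R) :
    MvPolynomial.aeval t f ∈ P ↔ ∀ m, f.coeff m ∈ p := by
  rw [← Ideal.Quotient.eq_zero_iff_mem, ← mk_aeval p P t]
  constructor
  · intro h0 m
    rw [← Ideal.Quotient.eq_zero_iff_mem, ← MvPolynomial.coeff_map, h.eq_zero_of_aeval_eq_zero _ h0,
      MvPolynomial.coeff_zero]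
  · intro hm
    have : f.map (Ideal.Quotient.mk p) = 0 := MvPolynomial.ext _ _ fun m => by
      rw [MvPolynomial.coeff_map, MvPolynomial.coeff_zero, Ideal.Quotient.eq_zero_iff_mem]
      exact hm m
    rw [this, map_zero]

lemma isAlgebraic_quotient_of_quasiFiniteAt {R' : Type u} [CommRing R'] [Algebra R' S] [P.IsPrime]
    [Algebra.QuasiFiniteAt R' P] : Algebra.IsAlgebraic (R' ⧸ P.under R') (S ⧸ P) := by
  letI := Localization.AtPrime.algebraOfLiesOver (P.under R') P
  haveI : Module.Finite (P.under R').ResidueField P.ResidueField := inferInstance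
  letI : Algebra (R' ⧸ P.under R') P.ResidueField := ((algebraMap (P.under R').ResidueField P.ResidueField).comp
    (algebraMap (R' ⧸ P.under R') (P.under R').ResidueField)).toAlgebra
  haveI : IsScalarTower (R' ⧸ P.under R') (P.under R').ResidueField P.ResidueField :=
    IsScalarTower.of_algebraMap_eq fun x => rfl
  haveI : IsScalarTower (R' ⧸ P.under R') (S ⧸ P) P.ResidueField :=
    IsScalarTower.of_algebraMap_eq fun x => by
      obtain ⟨x, rfl⟩ := Ideal.Quotient.mk_surjective x
      show algebraMap (P.under R').ResidueField P.ResidueField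
        (algebraMap (R' ⧸ P.under R') _ (algebraMap R' (R' ⧸ P.under R') x)) =
        algebraMap (S ⧸ P) P.ResidueField (algebraMap R' (S ⧸ P) x)
      rw [← IsScalarTower.algebraMap_apply R' (R' ⧸ P.under R') (P.under R').ResidueField,
        ← IsScalarTower.algebraMap_apply R' (P.under R').ResidueField P.ResidueField,
        ← IsScalarTower.algebraMap_apply R' (S ⧸ P) P.ResidueField]
  haveI : Algebra.IsAlgebraic (R' ⧸ P.under R') P.ResidueField :=
    (IsFractionRing.comap_isAlgebraic_iff (K := (P.under R').ResidueField)).2 inferInstance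
  exact ⟨fun z => (isAlgebraic_algebraMap_iff (IsFractionRing.injective (S ⧸ P) P.ResidueField)).1
    (Algebra.IsAlgebraic.isAlgebraic _)⟩

/-- Parameters which cut out a point isolated in their fibre stay independent at a generization
of at least the same relative transcendence degree. -/
theorem algebraicIndependent_of_quasiFiniteAt [p.IsPrime] [P.IsPrime]
    (hqf : letI := (MvPolynomial.aeval (R := R) t).toRingHom.toAlgebra
      Algebra.QuasiFiniteAt (MvPolynomial (Fin d) R) P)
    (hd : (d : Cardinal.{u}) ≤ Algebra.trdeg (R ⧸ p) (S ⧸ P)) :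
    AlgebraicIndependent (R ⧸ p) fun i => Ideal.Quotient.mk P (t i) := by
  letI := (MvPolynomial.aeval (R := R) t).toRingHom.toAlgebra
  haveI : Algebra.QuasiFiniteAt (MvPolynomial (Fin d) R) P := hqf
  haveI := isAlgebraic_quotient_of_quasiFiniteAt P (R' := MvPolynomial (Fin d) R)
  let x : Fin d → S ⧸ P := fun i => Ideal.Quotient.mk P (t i)
  have hmem : ∀ f : MvPolynomial (Fin d) R, Ideal.Quotient.mk P (MvPolynomial.aeval t f) ∈
      Algebra.adjoin (R ⧸ p) (Set.range x) := fun f => by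
    rw [Algebra.adjoin_range_eq_range_aeval]
    exact ⟨_, mk_aeval p P t f⟩
  let φ : MvPolynomial (Fin d) R ⧸ P.under _ →+* Algebra.adjoin (R ⧸ p) (Set.range x) :=
    Ideal.Quotient.lift _ (((Ideal.Quotient.mk P).comp (MvPolynomial.aeval t).toRingHom).codRestrict _ hmem)
      fun f hf => Subtype.ext (Ideal.Quotient.eq_zero_iff_mem.2 hf)
  haveI : Algebra.IsAlgebraic (Algebra.adjoin (R ⧸ p) (Set.range x)) (S ⧸ P) := ⟨fun z => by
    refine IsAlgebraic.ringHom_of_comp_eq (f := φ) (g := RingHom.id (S ⧸ P))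
      (Algebra.IsAlgebraic.isAlgebraic (R := MvPolynomial (Fin d) R ⧸ P.under _) z) ?_ ?_
    · refine (injective_iff_map_eq_zero φ).2 fun a ha => ?_
      obtain ⟨a, rfl⟩ := Ideal.Quotient.mk_surjective a
      replace ha : Ideal.Quotient.mk P (MvPolynomial.aeval t a) = 0 := congrArg Subtype.val ha
      rw [Ideal.Quotient.eq_zero_iff_mem] at ha ⊢
      exact ha
    · exact Ideal.Quotient.ringHom_ext (RingHom.ext fun a => rfl)⟩
  have hle : Cardinal.mk (ULift.{u} (Fin d)) ≤ Algebra.trdeg (R ⧸ p) (S ⧸ P) := by simpa using hd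
  haveI : Algebra.IsAlgebraic (Algebra.adjoin (R ⧸ p) (Set.range (x ∘ ULift.down.{u}))) (S ⧸ P) := by
    rwa [Function.Surjective.range_comp ULift.down_surjective]
  exact (algebraicIndependent_equiv Equiv.ulift).1
    (Algebra.IsAlgebraic.isTranscendenceBasis_of_le_trdeg_of_finite (R ⧸ p) (x ∘ ULift.down.{u}) hle).1

lemma exists_parameters {R S : Type u} [CommRing R] [CommRing S] [Algebra R S] (p : Ideal R) [p.IsPrime]
    (n : Ideal S) [n.IsPrime] [n.LiesOver p] {d : ℕ} (hd : Algebra.trdeg (R ⧸ p) (S ⧸ n) = d) :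
    ∃ t : Fin d → S, (∀ f : MvPolynomial (Fin d) R, MvPolynomial.aeval t f ∈ n ↔ ∀ m, f.coeff m ∈ p) ∧
      ∀ n' : Ideal S, n'.IsPrime → n ≤ n' →
        n'.comap (MvPolynomial.aeval (R := R) t).toRingHom = n.comap (MvPolynomial.aeval (R := R) t).toRingHom →
        n' = n := by
  haveI : FaithfulSMul (R ⧸ p) (S ⧸ n) := (faithfulSMul_iff_algebraMap_injective _ _).2
    ((injective_iff_map_eq_zero _).2 fun a ha => by
      obtain ⟨a, rfl⟩ := Ideal.Quotient.mk_surjective a
      rw [Ideal.Quotient.algebraMap_mk_of_liesOver, Ideal.Quotient.eq_zero_iff_mem] at ha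
      rw [Ideal.Quotient.eq_zero_iff_mem, Ideal.mem_of_liesOver n p]
      exact ha)
  obtain ⟨ι, x, hx⟩ := exists_isTranscendenceBasis' (R ⧸ p) (S ⧸ n)
  have hc := hx.cardinalMk_eq_trdeg
  rw [hd] at hc
  obtain ⟨e⟩ : Nonempty (Fin d ≃ ι) :=
    Cardinal.lift_mk_eq'.1 (by rw [hc]; simp)
  replace hx := hx.comp_equiv e
  choose t ht using fun i => Ideal.Quotient.mk_surjective (x (e i))
  have hxe : (fun i => Ideal.Quotient.mk n (t i)) = x ∘ e := funext ht
  rw [← hxe] at hx
  refine ⟨t, mem_iff_of_algebraicIndependent p n t hx.1, fun n' hn' hle he => le_antisymm (fun z hz => ?_) hle⟩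
  by_contra hzn
  haveI := hx.isAlgebraic
  obtain ⟨r, hr0, hdvd⟩ := (Algebra.IsAlgebraic.isAlgebraic
    (R := Algebra.adjoin (R ⧸ p) (Set.range fun i => Ideal.Quotient.mk n (t i)))
    (Ideal.Quotient.mk n z)).exists_nonzero_dvd
    (mem_nonZeroDivisors_of_ne_zero (fun h0 => hzn (Ideal.Quotient.eq_zero_iff_mem.1 h0)))
  obtain ⟨f, hf⟩ := (Algebra.adjoin_range_eq_range_aeval (R ⧸ p) _).le r.2
  obtain ⟨f, rfl⟩ := MvPolynomial.map_surjective _ Ideal.Quotient.mk_surjective f
  replace hf : Ideal.Quotient.mk n (MvPolynomial.aeval t f) = (r : S ⧸ n) := by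
    rw [← mk_aeval p n t]; exact hf
  obtain ⟨w, hw⟩ := hdvd
  obtain ⟨w, rfl⟩ := Ideal.Quotient.mk_surjective w
  have h1 : MvPolynomial.aeval t f ∈ n' := by
    have h2 : MvPolynomial.aeval t f - z * w ∈ n := Ideal.Quotient.eq.1
      (hf.trans (hw.trans (map_mul _ z w).symm))
    exact (Submodule.sub_mem_iff_left _ (Ideal.mul_mem_right w n' hz)).1 (hle h2)
  refine hr0 (Subtype.ext ?_)
  rw [← hf]
  exact Ideal.Quotient.eq_zero_iff_mem.2 (show f ∈ Ideal.comap (MvPolynomial.aeval (R := R) t).toRingHom n from he ▸ h1)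

/-- A point of `V ⊗ S` over `n` and the closed point of `V` is a specialization of one at which
parameters of `n` stay independent. -/
theorem exists_independent_le {R S : Type u} [CommRing R] [CommRing S] [Algebra R S] (p : Ideal R) [p.IsPrime]
    (n : Ideal S) [n.IsPrime] {d : ℕ} (t : Fin d → S)
    (ht : ∀ f : MvPolynomial (Fin d) R, MvPolynomial.aeval t f ∈ n ↔ ∀ m, f.coeff m ∈ p)
    {V : Type u} [CommRing V] [IsLocalRing V] [Algebra R V]
    (hV : (IsLocalRing.maximalIdeal V).comap (algebraMap R V) = p)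
    (Q₀ : Ideal (V ⊗[R] S)) [Q₀.IsPrime]
    (hQV : Q₀.comap Algebra.TensorProduct.includeLeftRingHom = IsLocalRing.maximalIdeal V)
    (hQn : Q₀.comap Algebra.TensorProduct.includeRight.toRingHom = n) :
    ∃ Q : Ideal (V ⊗[R] S), Q.IsPrime ∧ Q ≤ Q₀ ∧
      Q.comap Algebra.TensorProduct.includeRight.toRingHom = n ∧
      Q.comap Algebra.TensorProduct.includeLeftRingHom = IsLocalRing.maximalIdeal V ∧
      ∀ f : MvPolynomial (Fin d) V, MvPolynomial.aeval (fun i => (1 : V) ⊗ₜ[R] t i) f ∈ Q ↔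
        ∀ m, f.coeff m ∈ IsLocalRing.maximalIdeal V := by
  let k := IsLocalRing.ResidueField V
  let K := R ⧸ p
  let L := FractionRing (S ⧸ n)
  let k₀ := FractionRing ((V ⊗[R] S) ⧸ Q₀)
  let toL : S →+* L := (algebraMap (S ⧸ n) L).comp (Ideal.Quotient.mk n)
  have htoL : ∀ z, toL z = 0 ↔ z ∈ n := fun z => by
    rw [RingHom.comp_apply, map_eq_zero_iff _ (IsFractionRing.injective (S ⧸ n) L), Ideal.Quotient.eq_zero_iff_mem]
  let g : K →+* k := Ideal.Quotient.lift p ((IsLocalRing.residue V).comp (algebraMap R V)) fun a ha => by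
    rw [RingHom.comp_apply, IsLocalRing.residue_eq_zero_iff]
    exact hV.ge ha
  let π : MvPolynomial (Fin d) R →+* MvPolynomial (Fin d) K := MvPolynomial.map (Ideal.Quotient.mk p)
  have hπ : Function.Surjective π := MvPolynomial.map_surjective _ Ideal.Quotient.mk_surjective
  have hker : RingHom.ker π = RingHom.ker (toL.comp (MvPolynomial.aeval t).toRingHom) := by
    ext f
    rw [RingHom.mem_ker, RingHom.mem_ker, RingHom.comp_apply, htoL]
    refine Iff.trans ?_ (ht f).symm
    simp only [π, MvPolynomial.ext_iff, MvPolynomial.coeff_map, MvPolynomial.coeff_zero]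
    exact forall_congr' fun m => Ideal.Quotient.eq_zero_iff_mem
  let θ : MvPolynomial (Fin d) K →+* L := π.liftOfSurjective hπ ⟨_, hker.le⟩
  have hθ : ∀ f, θ (π f) = toL (MvPolynomial.aeval t f) := fun f =>
    RingHom.liftOfRightInverse_comp_apply π _ _ _ f
  have hθinj : Function.Injective θ := (injective_iff_map_eq_zero θ).2 fun x hx => by
    obtain ⟨x, rfl⟩ := hπ x
    rw [hθ] at hx
    exact hker.ge hx
  letI : Algebra (MvPolynomial (Fin d) K) L := θ.toAlgebra
  letI : Algebra (MvPolynomial (Fin d) K) (MvPolynomial (Fin d) k) := (MvPolynomial.map g).toAlgebra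
  haveI : Module.Flat (MvPolynomial (Fin d) K) L := by
    letI : Algebra (FractionRing (MvPolynomial (Fin d) K)) L := (IsFractionRing.lift hθinj).toAlgebra
    haveI : IsScalarTower (MvPolynomial (Fin d) K) (FractionRing (MvPolynomial (Fin d) K)) L :=
      IsScalarTower.of_algebraMap_eq fun x => (IsFractionRing.lift_algebraMap hθinj x).symm
    haveI : Module.Flat (MvPolynomial (Fin d) K) (FractionRing (MvPolynomial (Fin d) K)) :=
      IsLocalization.flat _ (nonZeroDivisors _)
    haveI : Module.Free (FractionRing (MvPolynomial (Fin d) K)) L := Module.Free.of_divisionRing _ _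
    haveI : Module.Flat (FractionRing (MvPolynomial (Fin d) K)) L := Module.Flat.of_free
    exact Module.Flat.trans (MvPolynomial (Fin d) K) (FractionRing (MvPolynomial (Fin d) K)) L
  let W := MvPolynomial (Fin d) k ⊗[MvPolynomial (Fin d) K] L
  let jk : MvPolynomial (Fin d) k →+* W := Algebra.TensorProduct.includeLeftRingHom
  let jL : L →+* W := Algebra.TensorProduct.includeRight.toRingHom
  have hagree : ∀ f, jk (MvPolynomial.map g (π f)) = jL (toL (MvPolynomial.aeval t f)) := fun f => by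
    rw [← hθ]
    exact ((Algebra.TensorProduct.includeRight :
      L →ₐ[MvPolynomial (Fin d) K] W).commutes (π f)).symm
  -- the map to `κ(Q₀)`
  let toK₀ : V ⊗[R] S →+* k₀ := (algebraMap _ k₀).comp (Ideal.Quotient.mk Q₀)
  have htoK₀ : ∀ z, toK₀ z = 0 ↔ z ∈ Q₀ := fun z => by
    rw [RingHom.comp_apply, map_eq_zero_iff _ (IsFractionRing.injective ((V ⊗[R] S) ⧸ Q₀) k₀),
      Ideal.Quotient.eq_zero_iff_mem]
  let bk : k →+* k₀ := Ideal.Quotient.lift (IsLocalRing.maximalIdeal V)
    (toK₀.comp Algebra.TensorProduct.includeLeftRingHom) fun a ha => by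
      rw [RingHom.comp_apply, htoK₀]; exact hQV.ge ha
  let bq : S ⧸ n →+* k₀ := Ideal.Quotient.lift n
    (toK₀.comp Algebra.TensorProduct.includeRight.toRingHom) fun a ha => by
      rw [RingHom.comp_apply, htoK₀]; exact hQn.ge ha
  have hbq : Function.Injective bq := (injective_iff_map_eq_zero bq).2 fun x hx => by
    obtain ⟨x, rfl⟩ := Ideal.Quotient.mk_surjective x
    exact Ideal.Quotient.eq_zero_iff_mem.2 (hQn.le ((htoK₀ _).1 hx))
  let bL : L →+* k₀ := IsFractionRing.lift hbq
  have hbL : ∀ z, bL (toL z) = toK₀ ((1 : V) ⊗ₜ[R] z) := fun z => IsFractionRing.lift_algebraMap hbq _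
  let bT : MvPolynomial (Fin d) k →+* k₀ :=
    MvPolynomial.eval₂Hom bk fun i => toK₀ ((1 : V) ⊗ₜ[R] t i)
  letI : Algebra (MvPolynomial (Fin d) K) k₀ := (bL.comp θ).toAlgebra
  have hbT : bT.comp (MvPolynomial.map g) = bL.comp θ := by
    refine MvPolynomial.ringHom_ext (fun a => ?_) fun i => ?_
    · obtain ⟨a, rfl⟩ := Ideal.Quotient.mk_surjective a
      rw [RingHom.comp_apply, RingHom.comp_apply, MvPolynomial.map_C, MvPolynomial.eval₂Hom_C,
        show MvPolynomial.C (Ideal.Quotient.mk p a) = π (MvPolynomial.C a) from (MvPolynomial.map_C _ a).symm,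
        hθ, hbL, MvPolynomial.aeval_C]
      show toK₀ (algebraMap R V a ⊗ₜ[R] (1 : S)) = _
      rw [Algebra.algebraMap_eq_smul_one, TensorProduct.smul_tmul, ← Algebra.algebraMap_eq_smul_one]
    · rw [RingHom.comp_apply, RingHom.comp_apply, MvPolynomial.map_X, MvPolynomial.eval₂Hom_X',
        show (MvPolynomial.X i : MvPolynomial (Fin d) K) = π (MvPolynomial.X i) from (MvPolynomial.map_X _ i).symm,
        hθ, hbL, MvPolynomial.aeval_X]
  let Ψ : W →ₐ[MvPolynomial (Fin d) K] k₀ := Algebra.TensorProduct.lift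
    ⟨bT, fun x => RingHom.congr_fun hbT x⟩ ⟨bL, fun x => rfl⟩ fun _ _ => Commute.all _ _
  haveI := RingHom.ker_isPrime Ψ.toRingHom
  obtain ⟨𝔮, h𝔮, h𝔮le⟩ := Ideal.exists_minimalPrimes_le (bot_le : (⊥ : Ideal W) ≤ RingHom.ker Ψ.toRingHom)
  haveI := h𝔮.1.1
  have h𝔮k : 𝔮.comap jk = ⊥ := by
    haveI : Module.Flat (MvPolynomial (Fin d) k) W := inferInstance
    let c : Ideal (MvPolynomial (Fin d) k) := 𝔮.under _
    haveI : 𝔮.LiesOver c := ⟨rfl⟩
    haveI : (⊥ : Ideal (MvPolynomial (Fin d) k)).IsPrime := Ideal.isPrime_bot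
    obtain ⟨Q', hQ'le, hQ'p, hQ'over⟩ :=
      Ideal.exists_ideal_le_liesOver_of_le (p := (⊥ : Ideal (MvPolynomial (Fin d) k))) (q := c) 𝔮 bot_le
    have he : 𝔮 = Q' := le_antisymm (h𝔮.2 ⟨hQ'p, bot_le⟩ hQ'le) hQ'le
    rw [he]
    exact hQ'over.over.symm
  -- the map `V ⊗ S → W`
  letI : Algebra R W := (jL.comp (toL.comp (algebraMap R S))).toAlgebra
  let fV : V →ₐ[R] W := ⟨jk.comp (MvPolynomial.C.comp (IsLocalRing.residue V)), fun a => by
    show jk (MvPolynomial.C (g (Ideal.Quotient.mk p a))) = jL (toL (algebraMap R S a))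
    rw [← MvPolynomial.map_C g, show MvPolynomial.C (Ideal.Quotient.mk p a) = π (MvPolynomial.C a) from
      (MvPolynomial.map_C _ a).symm, hagree, MvPolynomial.aeval_C]⟩
  let fS : S →ₐ[R] W := ⟨jL.comp toL, fun a => rfl⟩
  let ι : V ⊗[R] S →ₐ[R] W := Algebra.TensorProduct.lift fV fS fun _ _ => Commute.all _ _
  have hιS : ∀ z, ι ((1 : V) ⊗ₜ[R] z) = jL (toL z) := fun z => by simp [ι, fS]
  have hιV : ∀ v, ι (v ⊗ₜ[R] (1 : S)) = jk (MvPolynomial.C (IsLocalRing.residue V v)) := fun v => by simp [ι, fV]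
  have hιT : ∀ f : MvPolynomial (Fin d) V, ι (MvPolynomial.aeval (fun i => (1 : V) ⊗ₜ[R] t i) f) =
      jk (f.map (IsLocalRing.residue V)) := by
    intro f
    induction f using MvPolynomial.induction_on with
    | C a => rw [MvPolynomial.aeval_C, MvPolynomial.map_C]; exact hιV a
    | add f g hf hg => rw [map_add, map_add, map_add, map_add, hf, hg]
    | mul_X f i hf =>
      rw [map_mul, map_mul, map_mul, map_mul, hf, MvPolynomial.aeval_X, hιS, MvPolynomial.map_X]
      congr 1
      rw [← MvPolynomial.aeval_X (R := R) t i, ← hagree]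
      simp [π]
  refine ⟨𝔮.comap ι.toRingHom, inferInstance, fun z hz => ?_, ?_, ?_, fun f => ?_⟩
  · rw [← htoK₀]
    have : Ψ (ι z) = toK₀ z := by
      clear hz
      induction z using TensorProduct.induction_on with
      | zero => simp
      | tmul v s =>
        rw [show (v ⊗ₜ[R] s : V ⊗[R] S) = (v ⊗ₜ[R] (1 : S)) * ((1 : V) ⊗ₜ[R] s) by simp, map_mul, map_mul,
          map_mul, hιS, hιV]
        congr 1
        · show Ψ (MvPolynomial.C (IsLocalRing.residue V v) ⊗ₜ[MvPolynomial (Fin d) K] (1 : L)) = _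
          rw [Algebra.TensorProduct.lift_tmul, map_one, mul_one]
          exact MvPolynomial.eval₂Hom_C _ _ _
        · show Ψ ((1 : MvPolynomial (Fin d) k) ⊗ₜ[MvPolynomial (Fin d) K] toL s) = _
          rw [Algebra.TensorProduct.lift_tmul, map_one, one_mul]
          exact hbL s
      | add x y hx hy => rw [map_add, map_add, map_add, hx, hy]
    rw [← this]
    exact h𝔮le hz
  · ext z
    show ι ((1 : V) ⊗ₜ[R] z) ∈ 𝔮 ↔ z ∈ n
    rw [hιS, ← htoL]
    refine ⟨fun h => by_contra fun h0 => h𝔮.1.1.ne_top (Ideal.eq_top_of_isUnit_mem _ h ((isUnit_iff_ne_zero.2 h0).map jL)),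
      fun h => by rw [h, map_zero]; exact zero_mem _⟩
  · ext v
    show ι (v ⊗ₜ[R] (1 : S)) ∈ 𝔮 ↔ _
    rw [hιV, ← Ideal.mem_comap, h𝔮k, Ideal.mem_bot, MvPolynomial.C_eq_zero, IsLocalRing.residue_eq_zero_iff]
  · show ι _ ∈ 𝔮 ↔ _
    rw [hιT, ← Ideal.mem_comap, h𝔮k, Ideal.mem_bot]
    simp [MvPolynomial.ext_iff, MvPolynomial.coeff_map, IsLocalRing.residue_eq_zero_iff]

end Groth.EGA43Topo
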