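import Groth.Agent.EGA43Topo.DVRCriterion
import Groth.Agent.FibreDim.OpenFibre
import Groth.Agent.FibreDim.OpenFibreConst
import Groth.Agent.FibreDim.Equidim
import Groth.Agent.Misc6.Equidim
import Groth.Agent.SpectralTopology.FibreClosure

/-!
# Openness along fibres and dimension conditions (EGA IV 14.3)
-/

universe u

set_option linter.style.haveILetI false

open CategoryTheory CategoryTheory.Limits AlgebraicGeometry TopologicalSpace Topology

namespace Groth.EGA43Topo

open Groth.FibreDim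

variable {X Y : Scheme.{u}} {f : X ⟶ Y}

lemma isOpenAt_of_generization_of_eq {x z : X} (hzx : z ⤳ x) (hfz : f.base z = f.base x)
    (h : EGA43.IsOpenAt f.base z) : EGA43.IsOpenAt f.base x := fun U hU => hfz ▸ h U (hzx hU)

lemma isUnivOpenAt_of_fibre_generization {x z : X} (hzx : z ⤳ x) (hfz : f.base z = f.base x)
    (h : EGA43.IsUnivOpenAt f z) : EGA43.IsUnivOpenAt f x := by
  intro Y' g x' hx'
  obtain ⟨z', hz', hfz', hz'x⟩ : x' ∈ Groth.SpectralTopology.fibreCl (pullback.snd f g).base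
      ((pullback.fst f g).base ⁻¹' {z}) := by
    rw [Groth.SpectralTopology.fibreCl_preimage (IsPullback.of_hasPullback f g)]
    exact ⟨z, rfl, hfz.trans (congrArg f.base hx'.symm), hx'.symm ▸ hzx⟩
  exact isOpenAt_of_generization_of_eq hz'x hfz' (h Y' g z' hz')

lemma isOpenAt_of_isUnivOpenAt {x : X} (h : EGA43.IsUnivOpenAt f x) : EGA43.IsOpenAt f.base x :=
  isUnivOpenAt_of_isPullback h (IsPullback.of_horiz_isIso (fst := 𝟙 X) (g := 𝟙 Y) ⟨by simp⟩ : IsPullback (𝟙 X) f f (𝟙 Y)) x rfl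

variable [LocallyOfFiniteType f]

/-- It suffices to check universal openness on maximal points of the fibres. -/
lemma isUnivOpenAt_of_max {x : X}
    (h : ∀ z, f.base z = f.base x → z ⤳ x → (∀ z', f.base z' = f.base z → z' ⤳ z → z' = z) →
      EGA43.IsUnivOpenAt f z) : EGA43.IsUnivOpenAt f x := by
  obtain ⟨z, hfz, hzx, h0, -⟩ := exists_maximal_fibre_point f x
  exact isUnivOpenAt_of_fibre_generization hzx hfz
    (h z hfz hzx ((isMax_asFiber_iff f z).1 (Order.coheight_eq_zero.1 h0)))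

/-- Universal openness at a maximal point of a fibre gives generizations of at least the same
fibre dimension (no finiteness on the base). -/
theorem exists_generization_of_isUnivOpenAt {x : X} (h : EGA43.IsUnivOpenAt f x)
    (hmax : ∀ x', f.base x' = f.base x → x' ⤳ x → x' = x) {η : Y} (hη : η ⤳ f.base x) :
    ∃ a : X, a ⤳ x ∧ f.base a = η ∧ (∀ w, f.base w = η → w ⤳ a → w = a) ∧
      FlatMor.fibreDimAt f x ≤ FlatMor.fibreDimAt f a := by
  obtain ⟨V, _, _, _, g, hg, hg'⟩ := exists_valuation_lift hη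
  let p := pullback.snd f g
  haveI : LocallyOfFiniteType p := inferInstanceAs (LocallyOfFiniteType (pullback.snd f g))
  have hc := IsPullback.of_hasPullback f g
  have hcomm : ∀ w, f.base ((pullback.fst f g).base w) = g.base (p.base w) := fun w => by
    rw [← Scheme.Hom.comp_apply, pullback.condition, Scheme.Hom.comp_apply]
  obtain ⟨z, hz, hz'⟩ := Scheme.Pullback.exists_preimage_pullback (f := f) (g := g) x
    (IsLocalRing.closedPoint V) hg.symm
  obtain ⟨z₁, hz₁, hhz₁, hd⟩ := Groth.Misc6.Equidim.exists_fh_eq p z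
  rw [fibreDimAt_baseChange f g p (pullback.fst f g) hc, hz] at hd
  have hcl : p.base z₁ = IsLocalRing.closedPoint V := hhz₁.trans hz'
  have hz₁x : (pullback.fst f g).base z₁ = x :=
    hmax _ (by rw [hcomm, hcl, hg]) (hz ▸ hz₁.map (pullback.fst f g).continuous)
  have hbot : (⟨⊥, Ideal.isPrime_bot⟩ : PrimeSpectrum V) ⤳ p.base z₁ := by
    rw [hcl]
    exact IsLocalRing.specializes_closedPoint _
  obtain ⟨z', hz'sp, hz'b⟩ := exists_specializes_of_isOpenAt (h _ g z₁ hz₁x) hbot
  obtain ⟨n, hn, hn'⟩ := exists_relTrdeg_eq_height p z₁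
  obtain ⟨m, hm, hm'⟩ := exists_relTrdeg_eq_height p z'
  have hle := relTrdeg_le_of_valuation p hz'sp hz'b hcl
  rw [hn, hm, Nat.cast_le] at hle
  obtain ⟨a, hfa, ha, h0, had⟩ := exists_maximal_fibre_point f ((pullback.fst f g).base z')
  have hfa' : f.base a = η := by rw [hfa, hcomm, hz'b]; exact hg'
  have hamax := (isMax_asFiber_iff f a).1 (Order.coheight_eq_zero.1 h0)
  refine ⟨a, ha.trans (hz₁x ▸ hz'sp.map (pullback.fst f g).continuous), hfa',
    fun w hw => hamax w (hw.trans hfa'.symm), ?_⟩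
  rw [(fibreDimAt_eq_height_of_max f hamax).1, had, ← hd,
    ← fibreDimAt_baseChange f g p (pullback.fst f g) hc]
  refine le_trans (WithBot.coe_le_coe.2 ?_) (Groth.Misc6.Equidim.fh_le_fibreDimAt p z')
  show Order.height _ ≤ Order.height _
  rw [hn', hm']
  exact Nat.cast_le.2 hle

/-- The fibre dimension at a point of an open set is bounded by the dimension of the trace of the
fibre on it. -/
lemma fibreDimAt_le_dim_inter {U : X.Opens} {a : X} (ha : a ∈ U) :
    FlatMor.fibreDimAt f a ≤ topologicalKrullDim ↥((U : Set X) ∩ f.base ⁻¹' {f.base a}) := by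
  rw [dim_inter_preimage_eq]
  exact (fibreDimAt_openImmersion_comp U.ι f ⟨a, ha⟩).ge.trans (Groth.SpectralTopology.localDim_le_dim _)

/-- If all neighbourhoods of `x` meet the fibre over a generization `η` of `f x` in dimension
`≥ d`, a maximal point of that fibre of dimension `≥ d` specializes to `x`. -/
theorem exists_specializing_max_point (x : X) {η : Y} (hη : η ⤳ f.base x) (d : ℕ)
    (h : ∀ U : X.Opens, x ∈ U →
      (d : WithBot ℕ∞) ≤ topologicalKrullDim ↥((U : Set X) ∩ f.base ⁻¹' {η})) :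
    ∃ ξ : X, f.base ξ = η ∧ ξ ⤳ x ∧ (∀ w, f.base w = η → w ⤳ ξ → w = ξ) ∧
      (d : WithBot ℕ∞) ≤ FlatMor.fibreDimAt f ξ := by
  classical
  obtain ⟨W, hW, hyW, -⟩ := exists_isAffineOpen_mem_and_subset (U := ⊤) (Set.mem_univ (f.base x))
  obtain ⟨U, hU, hxU, e⟩ := exists_isAffineOpen_mem_and_subset (U := f ⁻¹ᵁ W) (x := x) hyW
  have hηW : η ∈ W := hη.mem_open W.isOpen hyW
  let g := f.resLE W U e
  haveI : IsAffine U.toScheme := hU
  haveI : IsAffine W.toScheme := hW
  haveI : LocallyOfFiniteType g := by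
    haveI : LocallyOfFiniteType (g ≫ W.ι) := by rw [Scheme.Hom.resLE_comp_ι]; infer_instance
    exact locallyOfFiniteType_of_comp g W.ι
  haveI : LocallyOfFiniteType (g.fiberToSpecResidueField ⟨η, hηW⟩) :=
    inferInstanceAs (LocallyOfFiniteType (pullback.snd g (W.toScheme.fromSpecResidueField ⟨η, hηW⟩)))
  haveI : QuasiCompact g := inferInstance
  haveI : IsLocallyNoetherian (g.fiber ⟨η, hηW⟩) :=
    LocallyOfFiniteType.isLocallyNoetherian (g.fiberToSpecResidueField _)
  haveI : CompactSpace ↥(g.fiber ⟨η, hηW⟩) :=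
    QuasiCompact.compactSpace_of_compactSpace (g.fiberToSpecResidueField _)
  haveI : IsNoetherian (g.fiber ⟨η, hηW⟩) := {}
  have hgc : ∀ w, (g.base w).1 = f.base (U.ι.base w) := fun w => by
    show W.ι.base (g.base w) = _
    rw [← Scheme.Hom.comp_apply, Scheme.Hom.resLE_comp_ι, Scheme.Hom.comp_apply]
  let M : Set X := {ξ | ξ ∈ U ∧ f.base ξ = η ∧ ∀ w, f.base w = η → w ⤳ ξ → w = ξ}
  have hM : M.Finite := by
    have hfin : {v : ↥(g.fiber ⟨η, hηW⟩) | IsMax v}.Finite := by
      refine Set.Finite.of_finite_image (f := fun v => closure {v}) ?_ fun a _ b _ hab =>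
        ((specializes_iff_mem_closure.2 (hab.ge (subset_closure rfl))).antisymm
          (specializes_iff_mem_closure.2 (hab.le (subset_closure rfl)))).eq
      refine (NoetherianSpace.finite_irreducibleComponents).subset ?_
      rintro _ ⟨v, hv, rfl⟩
      exact mem_irreducibleComponents_of_isMax hv
    refine (hfin.image ((g.fiberι ⟨η, hηW⟩) ≫ U.ι).base).subset ?_
    rintro ξ ⟨hξU, hfξ, hξ⟩
    obtain ⟨v, hv⟩ : (⟨ξ, hξU⟩ : U.toScheme) ∈ Set.range (g.fiberι ⟨η, hηW⟩).base :=
      (g.range_fiberι _).ge (Subtype.ext ((hgc _).trans hfξ) : g.base ⟨ξ, hξU⟩ = ⟨η, hηW⟩)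
    refine ⟨v, fun w hw => ?_, by rw [Scheme.Hom.comp_apply, hv]; rfl⟩
    have h1 : U.ι.base ((g.fiberι _).base w) = ξ := hξ _
      ((hgc _).symm.trans (congrArg Subtype.val (apply_fiberι g _ w))) (by
        have := ((show w ⤳ v from hw).map (g.fiberι _).continuous).map U.ι.continuous
        rwa [hv] at this)
    exact le_of_eq ((g.fiberι _).isEmbedding.injective
      ((U.ι.isEmbedding.injective h1).trans hv.symm))
  let C := ⋃ ξ ∈ M ∩ {ξ | ¬ ξ ⤳ x}, closure ({ξ} : Set X)
  have hC : IsClosed C := (hM.inter_of_left _).isClosed_biUnion fun _ _ => isClosed_closure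
  let U' : X.Opens := U ⊓ ⟨Cᶜ, hC.isOpen_compl⟩
  have hxU' : x ∈ U' := ⟨hxU, fun hxC => by
    obtain ⟨ξ, hξ, hx⟩ := Set.mem_iUnion₂.1 hxC
    exact hξ.2 (specializes_iff_mem_closure.2 hx)⟩
  haveI : LocallyOfFiniteType (U'.ι ≫ f) := inferInstance
  have hd := h U' hxU'
  rw [dim_inter_preimage_eq, dim_fiber_eq_iSup_max] at hd
  by_contra hno
  push Not at hno
  have hbound : ∀ v : U'.toScheme, (U'.ι ≫ f).base v = η →
      (∀ v', (U'.ι ≫ f).base v' = η → v' ⤳ v → v' = v) →
      ∃ n : ℕ, n < d ∧ FlatMor.fibreDimAt (U'.ι ≫ f) v = n := fun v hv hvmax => by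
    have hmax : ∀ w, f.base w = η → w ⤳ U'.ι.base v → w = U'.ι.base v := fun w hw hwv => by
      obtain ⟨w', rfl⟩ : w ∈ Set.range U'.ι.base := by
        rw [Scheme.Opens.range_ι]; exact hwv.mem_open U'.isOpen v.2
      exact congrArg _ (hvmax w' hw (U'.ι.isEmbedding.toIsInducing.specializes_iff.1 hwv))
    have hvx : U'.ι.base v ⤳ x := by
      by_contra hc
      exact v.2.2 (Set.mem_iUnion₂.2 ⟨U'.ι.base v, ⟨⟨v.2.1, hv, hmax⟩, hc⟩, subset_closure rfl⟩)
    obtain ⟨n, hn⟩ := fibreDimAt_ne_top f (U'.ι.base v)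
    have h1 : FlatMor.fibreDimAt f (U'.ι.base v) < (d : WithBot ℕ∞) := hno _ hv hvx hmax
    rw [hn] at h1
    exact ⟨n, by exact_mod_cast h1, by rw [fibreDimAt_openImmersion_comp]; exact hn⟩
  rcases d with _ | d
  · refine absurd (hd.trans (iSup₂_le fun v hv => ?_) : (0 : WithBot ℕ∞) ≤ ⊥) (by simp)
    obtain ⟨n, hn, -⟩ := hbound v hv.1 hv.2
    omega
  · have h2 : ((d + 1 : ℕ) : WithBot ℕ∞) ≤ (d : WithBot ℕ∞) := hd.trans (iSup₂_le fun v hv => by
      obtain ⟨n, hn, hn'⟩ := hbound v hv.1 hv.2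
      rw [hn']
      exact_mod_cast Nat.lt_succ_iff.1 hn)
    have : d + 1 ≤ d := by exact_mod_cast h2
    omega

end Groth.EGA43Topo
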