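import Groth.Agent.FibreDim.Component
import Groth.Agent.FibreDim.DimStalk
import Groth.Agent.PropsBasic.Catenary

/-!
# Dimension over a Jacobson, universally catenary base (EGA IV 10.6.1)
-/

set_option autoImplicit false
universe u

open CategoryTheory AlgebraicGeometry TopologicalSpace Topology
open Groth.SitesTopoi (chainCodim)

namespace Groth.EGA43Topo.JacobsonDim

section Poset

variable {P Q : Type u} [PartialOrder P] [PartialOrder Q]

theorem length_le_chainCodim' (s : LTSeries P) {a b : P} (ha : a ≤ s.head) (hb : s.last ≤ b) :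
    (s.length : ℕ∞) ≤ chainCodim a b := by
  rcases ha.eq_or_lt with h | h
  · exact Groth.SitesTopoi.length_le_chainCodim s h.symm hb
  · refine le_trans ?_ (Groth.SitesTopoi.length_le_chainCodim (s.cons a h) (b := b)
      (RelSeries.head_cons ..) ((RelSeries.last_cons ..).le.trans hb))
    simp

/-- Chain codimensions along an order-reversing embedding with convex range. -/
theorem chainCodim_antitone (ι : P → Q) (h : ∀ x y, ι x ≤ ι y ↔ y ≤ x)
    (hr : ∀ a x, ι a ≤ x → x ∈ Set.range ι) (a b : P) :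
    chainCodim (ι b) (ι a) = chainCodim a b := by
  have hlt : ∀ x y, ι x < ι y ↔ y < x := fun x y => by simp [lt_iff_le_not_ge, h]
  refine le_antisymm (Groth.SitesTopoi.chainCodim_le fun s h1 h2 => ?_)
    (Groth.SitesTopoi.chainCodim_le fun s h1 h2 => ?_)
  · have : ∀ i, ∃ x, ι x = s i := fun i => hr b _ (h1 ▸ LTSeries.head_le s i)
    choose q hq using this
    let t : LTSeries P := LTSeries.mk s.length (fun i => q i.rev) fun i j hij => by
      rw [← hlt, hq, hq]; exact s.strictMono (Fin.rev_lt_rev.2 hij)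
    refine le_trans (le_of_eq rfl) (length_le_chainCodim' t ?_ ?_)
    · show a ≤ q (Fin.rev (0 : Fin (s.length + 1)))
      rw [← h, hq, Fin.rev_zero]
      exact h2
    · show q (Fin.rev (Fin.last s.length)) ≤ b
      rw [← h, hq, Fin.rev_last]
      exact h1.ge
  · let t : LTSeries Q := LTSeries.mk s.length (fun i => ι (s i.rev)) fun i j hij =>
      (hlt _ _).2 (s.strictMono (Fin.rev_lt_rev.2 hij))
    refine le_trans (le_of_eq rfl) (length_le_chainCodim' t ?_ ?_)
    · show ι b ≤ ι (s (Fin.rev (0 : Fin (s.length + 1))))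
      rw [h, Fin.rev_zero]
      exact h2
    · show ι (s (Fin.rev (Fin.last s.length))) ≤ ι a
      rw [h, Fin.rev_last]
      exact h1.ge

end Poset

/-- The dimension of the quotient of a local ring by a prime as a chain codimension. -/
theorem ringKrullDim_quotient_eq (R : Type u) [CommRing R] [IsLocalRing R] (p : PrimeSpectrum R) :
    ringKrullDim (R ⧸ p.asIdeal) = (chainCodim p (IsLocalRing.closedPoint R) : ℕ∞) := by
  haveI : IsLocalRing (R ⧸ p.asIdeal) :=
    IsLocalRing.of_surjective' (Ideal.Quotient.mk p.asIdeal) Ideal.Quotient.mk_surjective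
  let e : PrimeSpectrum (R ⧸ p.asIdeal) ↪o PrimeSpectrum R :=
    OrderEmbedding.ofMapLEIff (PrimeSpectrum.comap (Ideal.Quotient.mk p.asIdeal)) fun a b =>
      ⟨fun h => (Ideal.comap_le_comap_iff_of_surjective _ Ideal.Quotient.mk_surjective _ _).1 h,
        fun h => Ideal.comap_mono h⟩
  have he : (Set.range e).OrdConnected := by
    show (Set.range (PrimeSpectrum.comap (Ideal.Quotient.mk p.asIdeal))).OrdConnected
    rw [range_comap_of_surjective _ _ Ideal.Quotient.mk_surjective]
    exact ⟨fun a ha b _ c hc x hx => hc.1 (ha hx)⟩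
  haveI : IsLocalHom (Ideal.Quotient.mk p.asIdeal) :=
    IsLocalHom.of_surjective _ Ideal.Quotient.mk_surjective
  have h1 : e ⊥ = p := PrimeSpectrum.ext
    ((RingHom.ker_eq_comap_bot _).symm.trans Ideal.mk_ker)
  have h2 : e (IsLocalRing.closedPoint (R ⧸ p.asIdeal)) = IsLocalRing.closedPoint R :=
    IsLocalRing.comap_closedPoint _
  rw [← IsLocalRing.maximalIdeal_height_eq_ringKrullDim]
  refine congrArg (fun x : ℕ∞ => (x : WithBot ℕ∞)) ?_
  refine (Groth.FibreDim.height_eq_chainCodim (IsLocalRing.closedPoint (R ⧸ p.asIdeal))).trans ?_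
  rw [← Groth.FibreDim.chainCodim_map e he, h1, h2]

/-- The specialization order on the points of a scheme. -/
abbrev pointsOrder (X : Scheme.{u}) : PartialOrder X :=
  { (inferInstance : Preorder X) with le_antisymm := fun _ _ h h' => (Specializes.antisymm h' h).eq }

attribute [local instance] pointsOrder

variable {S : Scheme.{u}}

theorem fromSpecStalk_le_iff (s : S) (x y : PrimeSpectrum (S.presheaf.stalk s)) :
    (S.fromSpecStalk s).base x ≤ (S.fromSpecStalk s).base y ↔ y ≤ x :=
  (S.fromSpecStalk s).isEmbedding.toIsInducing.specializes_iff.trans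
    (PrimeSpectrum.le_iff_specializes y x).symm

theorem fromSpecStalk_range (s : S) (a : PrimeSpectrum (S.presheaf.stalk s)) (x : S)
    (h : (S.fromSpecStalk s).base a ≤ x) : x ∈ Set.range (S.fromSpecStalk s).base := by
  have hs : x ⤳ s := by
    have h0 : (S.fromSpecStalk s).base a ∈ Set.range (S.fromSpecStalk s).base := ⟨a, rfl⟩
    rw [Scheme.range_fromSpecStalk] at h0
    exact Specializes.trans h h0
  rw [Scheme.range_fromSpecStalk]
  exact hs

theorem exists_fromSpecStalk_eq {s x : S} (h : s ≤ x) :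
    ∃ A : PrimeSpectrum (S.presheaf.stalk s), (S.fromSpecStalk s).base A = x := by
  have : x ∈ Set.range (S.fromSpecStalk s).base := by rw [Scheme.range_fromSpecStalk]; exact h
  exact this

/-- The codimension is additive along points of a scheme whose local ring is catenary. -/
theorem chainCodim_add {s a c : S} (hcat : CAlg.IsCatenary (S.presheaf.stalk s)) (hsa : s ≤ a)
    (hac : a ≤ c) :
    chainCodim s c = chainCodim s a + chainCodim a c ∧ chainCodim s c ≠ ⊤ := by
  obtain ⟨A, rfl⟩ := exists_fromSpecStalk_eq hsa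
  obtain ⟨C, rfl⟩ := exists_fromSpecStalk_eq (hsa.trans hac)
  have hs : (S.fromSpecStalk s).base (IsLocalRing.closedPoint (S.presheaf.stalk s)) = s :=
    Scheme.fromSpecStalk_closedPoint
  have h := Groth.SitesTopoi.catenary_iff_additive.1 (Groth.PropsBasic.Cat.catAt_iff_catOrd.2 hcat)
  have hCA : C ≤ A := (fromSpecStalk_le_iff s A C).1 hac
  have key := chainCodim_antitone (P := PrimeSpectrum (S.presheaf.stalk s)) (S.fromSpecStalk s).base (fromSpecStalk_le_iff s) (fromSpecStalk_range s)
  have kC := key C (IsLocalRing.closedPoint (S.presheaf.stalk s))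
  have kA := key A (IsLocalRing.closedPoint (S.presheaf.stalk s))
  have kCA := key C A
  rw [hs] at kC kA
  rw [kC, kA, kCA]
  refine ⟨?_, h.1 C _ (IsLocalRing.le_maximalIdeal C.isPrime.ne_top)⟩
  rw [h.2 C A _ hCA (IsLocalRing.le_maximalIdeal A.isPrime.ne_top), add_comm]

/-- The dimension of the set of generizations of a point inside an irreducible closed subset. -/
theorem dim_generizations {S' : Set S} {ξ s : S} (hξ : IsGenericPoint ξ S') (hs : s ∈ S') :
    topologicalKrullDim ↥{t : S | t ∈ S' ∧ t ⤳ s} = (chainCodim s ξ : ℕ∞) := by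
  have hξs : ξ ⤳ s := hξ.specializes hs
  obtain ⟨P, rfl⟩ := exists_fromSpecStalk_eq (s := s) hξs
  have hs' : (S.fromSpecStalk s).base (IsLocalRing.closedPoint (S.presheaf.stalk s)) = s :=
    Scheme.fromSpecStalk_closedPoint
  have key := chainCodim_antitone (P := PrimeSpectrum (S.presheaf.stalk s)) (S.fromSpecStalk s).base (fromSpecStalk_le_iff s) (fromSpecStalk_range s)
    P (IsLocalRing.closedPoint (S.presheaf.stalk s))
  rw [hs'] at key
  rw [key, ← ringKrullDim_quotient_eq]
  have hemb : IsEmbedding ((S.fromSpecStalk s).base ∘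
      PrimeSpectrum.comap (Ideal.Quotient.mk P.asIdeal)) :=
    (S.fromSpecStalk s).isEmbedding.comp
      (PrimeSpectrum.isClosedEmbedding_comap_of_surjective _ _ Ideal.Quotient.mk_surjective).isEmbedding
  have hrange : Set.range ((S.fromSpecStalk s).base ∘
      PrimeSpectrum.comap (Ideal.Quotient.mk P.asIdeal)) = {t : S | t ∈ S' ∧ t ⤳ s} := by
    ext t
    constructor
    · rintro ⟨Q, rfl⟩
      have hT : P ≤ PrimeSpectrum.comap (Ideal.Quotient.mk P.asIdeal) Q := fun r hr => by
        show Ideal.Quotient.mk P.asIdeal r ∈ Q.asIdeal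
        rw [Ideal.Quotient.eq_zero_iff_mem.2 hr]; exact Q.asIdeal.zero_mem
      have h1 := (fromSpecStalk_le_iff s (PrimeSpectrum.comap (Ideal.Quotient.mk P.asIdeal) Q) P).2 hT
      have h2 := (fromSpecStalk_le_iff s (IsLocalRing.closedPoint _)
        (PrimeSpectrum.comap (Ideal.Quotient.mk P.asIdeal) Q)).2
        (IsLocalRing.le_maximalIdeal (PrimeSpectrum.comap (Ideal.Quotient.mk P.asIdeal) Q).isPrime.ne_top)
      rw [hs'] at h2
      exact ⟨hξ.specializes_iff_mem.1 h1, h2⟩
    · rintro ⟨h1, h2⟩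
      obtain ⟨T, rfl⟩ := exists_fromSpecStalk_eq (s := s) h2
      have h3 : P ≤ T := (fromSpecStalk_le_iff s T P).1 (hξ.specializes_iff_mem.2 h1)
      obtain ⟨Q, hQ⟩ : T ∈ Set.range (PrimeSpectrum.comap (Ideal.Quotient.mk P.asIdeal)) := by
        rw [range_comap_of_surjective _ _ Ideal.Quotient.mk_surjective, Ideal.mk_ker]
        exact h3
      exact ⟨Q, congrArg (S.fromSpecStalk s).base hQ⟩
  let e := hemb.toHomeomorph.trans (Homeomorph.setCongr hrange)
  rw [← IsHomeomorph.topologicalKrullDim_eq _ e.isHomeomorph,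
    PrimeSpectrum.topologicalKrullDim_eq_ringKrullDim]

variable {X Y : Scheme.{u}}

/-- Universal catenarity of the local rings ascends along morphisms locally of finite type. -/
theorem isUnivCat_stalk (q : Y ⟶ S) [LocallyOfFiniteType q] (y : Y)
    (h : CAlg.IsUniversallyCatenary (S.presheaf.stalk (q.base y))) :
    CAlg.IsUniversallyCatenary (Y.presheaf.stalk y) := by
  obtain ⟨U, hU, hyU, -⟩ := exists_isAffineOpen_mem_and_subset (U := ⊤) (Set.mem_univ (q.base y))
  obtain ⟨V, hV, hyV, hVU⟩ := exists_isAffineOpen_mem_and_subset (U := q ⁻¹ᵁ U) hyU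
  have e : V ≤ q ⁻¹ᵁ U := hVU
  letI := (q.appLE U V e).hom.toAlgebra
  haveI : Algebra.FiniteType Γ(S, U) Γ(Y, V) := q.finiteType_appLE hU hV e
  letI := S.presheaf.algebra_section_stalk ⟨q.base y, e hyV⟩
  haveI := hU.isLocalization_stalk ⟨q.base y, e hyV⟩
  letI := Y.presheaf.algebra_section_stalk ⟨y, hyV⟩
  haveI := hV.isLocalization_stalk ⟨y, hyV⟩
  haveI : (hV.primeIdealOf ⟨y, hyV⟩).asIdeal.LiesOver (hU.primeIdealOf ⟨q.base y, e hyV⟩).asIdeal := by
    refine ⟨congrArg PrimeSpectrum.asIdeal (hU.fromSpec.isEmbedding.injective (a₂ := PrimeSpectrum.comap (q.appLE U V e).hom (hV.primeIdealOf ⟨y, hyV⟩)) ?_)⟩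
    rw [hU.fromSpec_primeIdealOf]
    exact (congrArg q.base (hV.fromSpec_primeIdealOf ⟨y, hyV⟩)).symm.trans (by
      rw [← Scheme.Hom.comp_apply, ← hU.SpecMap_appLE_fromSpec q hV e]; rfl)
  set P := (hU.primeIdealOf ⟨q.base y, e hyV⟩).asIdeal
  set Q := (hV.primeIdealOf ⟨y, hyV⟩).asIdeal
  have h1 := Groth.FibreDim.isUniversallyCatenary_of_ringEquiv
    (IsLocalization.algEquiv P.primeCompl (S.presheaf.stalk (q.base y)) (Localization.AtPrime P)).toRingEquiv h
  exact Groth.FibreDim.isUniversallyCatenary_of_ringEquiv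
    (IsLocalization.algEquiv Q.primeCompl (Localization.AtPrime Q) (Y.presheaf.stalk y)).toRingEquiv
    (Groth.FibreDim.isUniversallyCatenary_atPrime P Q h1)

theorem coheight_closed_eq [IsLocallyNoetherian Y] (f : X ⟶ Y) [LocallyOfFiniteType f]
    [IrreducibleSpace X] {x : X} (hx : IsClosed ({x} : Set X))
    (hcat : CAlg.IsUniversallyCatenary (Y.presheaf.stalk (f.base x))) :
    ∃ t₀ b : ℕ, Order.height (f.asFiber (genericPoint X)) = t₀ ∧
      chainCodim (f.base x) (f.base (genericPoint X)) = b ∧ Order.coheight x = (b + t₀ : ℕ) := by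
  obtain ⟨t, t₀, a, b, ht, ht₀, -, heq, hax, hchain, -, -, -, -, hbchain, ⟨s, hs1, hs2, hs3⟩, -⟩ :=
    Groth.FibreDim.exists_dim_formula_along f (genericPoint_specializes x)
  have hmin : IsMin (f.asFiber x) := fun z hz => by
    have h1 : x ⤳ (f.fiberι (f.base x)).base z := by
      have h0 := (hz : f.asFiber x ⤳ z).map (f.fiberι (f.base x)).continuous
      rwa [f.fiberι_asFiber x] at h0
    have h2 : (f.fiberι (f.base x)).base z = x := by
      have := specializes_iff_mem_closure.1 h1
      rwa [hx.closure_eq] at this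
    rw [show z = f.asFiber x from (f.fiberι (f.base x)).isEmbedding.injective
      (h2.trans (f.fiberι_asFiber x).symm)]
  rw [Order.height_eq_zero.2 hmin] at ht
  have ht' : t = 0 := by exact_mod_cast ht.symm
  have hb : chainCodim (f.base x) (f.base (genericPoint X)) = b := by
    refine le_antisymm (Groth.SitesTopoi.chainCodim_le fun r h1 h2 => ?_) ?_
    · exact_mod_cast hbchain r h1.ge h2
    · rw [← hs3]
      exact length_le_chainCodim' s hs1 hs2
  refine ⟨t₀, b, ht₀, hb, le_antisymm ?_ ?_⟩
  · refine Order.coheight_le fun r hr => ?_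
    have := hchain r hr.ge (genericPoint_specializes _)
    rw [← heq hcat, ht', add_zero]
    exact_mod_cast this
  · rw [← heq hcat, ht', add_zero]
    exact hax

/-- The dimension of a Jacobson scheme is read off at the closed points. -/
theorem dim_eq_of_closed [JacobsonSpace X] [Nonempty X] {D : ℕ}
    (h : ∀ x : X, IsClosed ({x} : Set X) → Order.coheight x = D) :
    topologicalKrullDim (X : Type u) = (D : ℕ) := by
  rw [Groth.FibreDim.dim_eq_iSup_stalk]
  have hcl : ∀ w : X, ∃ z : X, z ≤ w ∧ IsClosed ({z} : Set X) := fun w => by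
    obtain ⟨z, hz, hzc⟩ := nonempty_inter_closedPoints (Z := closure ({w} : Set X))
      ⟨w, subset_closure rfl⟩ isClosed_closure.isLocallyClosed
    exact ⟨z, specializes_iff_mem_closure.mpr hz, hzc⟩
  refine le_antisymm (iSup_le fun x => ?_) ?_
  · obtain ⟨z, hz, hzc⟩ := hcl x
    rw [ringKrullDim_stalk_eq_coheight]
    have := Order.coheight_anti hz
    rw [h z hzc] at this
    exact (WithBot.coe_le_coe.2 this)
  · obtain ⟨z, -, hzc⟩ := hcl (Classical.arbitrary X)
    refine le_trans ?_ (le_iSup _ z)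
    rw [ringKrullDim_stalk_eq_coheight, h z hzc]
    exact le_rfl

/-- EGA IV 10.6.1. -/
theorem dim_eq_dim_add_generic_fibre [IsLocallyNoetherian S] [JacobsonSpace S]
    (h2 : ∀ s : S, CAlg.IsUniversallyCatenary (S.presheaf.stalk s))
    (h3 : ∀ S' ∈ irreducibleComponents (S : Type u), ∀ s ∈ S', IsClosed ({s} : Set S) →
      topologicalKrullDim (↥S' : Type u) = topologicalKrullDim ↥{t : S | t ∈ S' ∧ t ⤳ s})
    (p : X ⟶ S) (q : Y ⟶ S) [LocallyOfFiniteType p] [LocallyOfFiniteType q] (f : X ⟶ Y) (hf : f ≫ q = p)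
    [IrreducibleSpace X] [IrreducibleSpace Y] [IsDominant f] :
    topologicalKrullDim (X : Type u) =
      topologicalKrullDim (Y : Type u) + topologicalKrullDim ↥(f.fiber (genericPoint Y)) := by
  haveI : LocallyOfFiniteType (f ≫ q) := hf ▸ inferInstance
  haveI : LocallyOfFiniteType f := locallyOfFiniteType_of_comp f q
  haveI : IsLocallyNoetherian Y := LocallyOfFiniteType.isLocallyNoetherian q
  haveI : JacobsonSpace X := LocallyOfFiniteType.jacobsonSpace p
  haveI : JacobsonSpace Y := LocallyOfFiniteType.jacobsonSpace q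
  let σ := q.base (genericPoint Y)
  let S' := irreducibleComponent σ
  have hS'irr : IsIrreducible S' := isIrreducible_irreducibleComponent
  have hS'c : IsClosed S' := isClosed_irreducibleComponent
  have hξ : IsGenericPoint hS'irr.genericPoint S' := hS'irr.isGenericPoint_genericPoint hS'c
  set ξ := hS'irr.genericPoint
  have hσS : σ ∈ S' := mem_irreducibleComponent
  have hσξ : σ ≤ ξ := hξ.specializes hσS
  obtain ⟨y₀, -, hy₀⟩ := nonempty_inter_closedPoints (Z := (Set.univ : Set Y))
    Set.univ_nonempty isClosed_univ.isLocallyClosed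
  have hclosed : ∀ y : Y, IsClosed ({y} : Set Y) →
      ((chainCodim (q.base y) σ + chainCodim σ ξ : ℕ∞) : WithBot ℕ∞) = topologicalKrullDim (↥S' : Type u) ∧
      chainCodim σ ξ ≠ ⊤ := fun y hy => by
    have hs : IsClosed ({q.base y} : Set S) := q.closePoints_subset_preimage_closedPoints hy
    have hle : q.base y ≤ σ := (genericPoint_specializes y).map q.continuous
    obtain ⟨hadd, hfin⟩ := chainCodim_add ((h2 (q.base y)).2 _ inferInstance) hle hσξ
    have hsS : q.base y ∈ S' := Specializes.mem_closed hle hS'c hσS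
    refine ⟨?_, ne_top_of_le_ne_top (hadd ▸ hfin) le_add_self⟩
    rw [← hadd, h3 S' (irreducibleComponent_mem_irreducibleComponents σ) _ hsS hs, dim_generizations hξ hsS]
  obtain ⟨t₁, b₀, ht₁, hb₀, -⟩ := coheight_closed_eq q hy₀ (h2 _)
  have hc : chainCodim σ ξ ≠ ⊤ := (hclosed y₀ hy₀).2
  have hY : ∀ y : Y, IsClosed ({y} : Set Y) → Order.coheight y = (b₀ + t₁ : ℕ) := fun y hy => by
    obtain ⟨t', b, ht', hb, hyh⟩ := coheight_closed_eq q hy (h2 _)
    have e1 : t' = t₁ := by exact_mod_cast ht'.symm.trans ht₁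
    have e2 := (hclosed y hy).1.trans (hclosed y₀ hy₀).1.symm
    have e3 : (chainCodim (q.base y) σ + chainCodim σ ξ : ℕ∞) =
        chainCodim (q.base y₀) σ + chainCodim σ ξ := WithBot.coe_injective e2
    rw [hb, hb₀] at e3
    have e4 : b = b₀ := by exact_mod_cast (ENat.add_left_injective_of_ne_top hc e3)
    rw [hyh, e1, e4]
  obtain ⟨x₀, -, hx₀⟩ := nonempty_inter_closedPoints (Z := (Set.univ : Set X))
    Set.univ_nonempty isClosed_univ.isLocallyClosed
  obtain ⟨-, t₀, -, -, -, hdimF, -, -⟩ := Groth.FibreDim.exists_dim_formula f x₀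
  have hX : ∀ x : X, IsClosed ({x} : Set X) → Order.coheight x = (b₀ + t₁ + t₀ : ℕ) := fun x hx => by
    have hy : IsClosed ({f.base x} : Set Y) := f.closePoints_subset_preimage_closedPoints hx
    have hcY : CAlg.IsUniversallyCatenary (Y.presheaf.stalk (f.base x)) := isUnivCat_stalk q _ (h2 _)
    obtain ⟨t, t₀', ht, hht, -, hdimF', -, heq⟩ := Groth.FibreDim.exists_dim_formula f x
    have hmin : IsMin (f.asFiber x) := fun z hz => by
      have h1 : x ⤳ (f.fiberι (f.base x)).base z := by
        have h0 := (hz : f.asFiber x ⤳ z).map (f.fiberι (f.base x)).continuous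
        rwa [f.fiberι_asFiber x] at h0
      have h2 : (f.fiberι (f.base x)).base z = x := by
        have := specializes_iff_mem_closure.1 h1
        rwa [hx.closure_eq] at this
      rw [show z = f.asFiber x from (f.fiberι (f.base x)).isEmbedding.injective
        (h2.trans (f.fiberι_asFiber x).symm)]
    rw [Order.height_eq_zero.2 hmin] at hht
    have e0 : t = 0 := by exact_mod_cast hht.symm
    rw [hdimF] at hdimF'
    have e1 : t₀' = t₀ := by exact_mod_cast hdimF'.symm
    have := heq hcY
    rw [ringKrullDim_stalk_eq_coheight, ringKrullDim_stalk_eq_coheight, hY _ hy, e0, e1] at this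
    have h' : Order.coheight x + (0 : ℕ) = ((b₀ + t₁ : ℕ) : ℕ∞) + (t₀ : ℕ) := by exact_mod_cast this
    simpa using h'
  rw [dim_eq_of_closed hX, dim_eq_of_closed hY, hdimF]
  push_cast
  rfl

end Groth.EGA43Topo.JacobsonDim
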