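import Groth.Agent.EGA43Topo.FlatUnivOpenLocal
import Groth.Agent.Ega43DVR.FlatAt
import Groth.Agent.VarietyBC.Reduced
import Groth.Agent.S1542
import Groth.Agent.FibreDim.BaseChange
import Groth.Prelude.Def_FDesc
import Groth.Agent.FlatMor2.AdaptedOpens

/-!
# Flatness from universal openness and geometrically reduced fibres (EGA IV 15.2.3)
-/

set_option autoImplicit false
set_option linter.style.haveILetI false
universe u

open CategoryTheory CategoryTheory.Limits AlgebraicGeometry TopologicalSpace Topology

namespace Groth.EGA43Topo.FlatUnivOpen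

variable {X Y : Scheme.{u}} (f : X ⟶ Y)

/-- Geometric reducedness propagates to generizations in the fibre. -/
theorem isGeomReducedAt_of_specializes {k : Type u} [Field k] {Z : Scheme.{u}}
    (g : Z ⟶ Spec (CommRingCat.of k)) {x x' : Z} (h : x' ⤳ x) (hx : FBase.IsGeomReducedAt g x) :
    FBase.IsGeomReducedAt g x' := by
  letI : Z.Over (Spec (CommRingCat.of k)) := ⟨g⟩
  exact Groth.Agent.S1542.result k Z x x' h hx

/-- The fibre of a base change as a base change of the fibre. -/
theorem exists_fibre_isPullback {Y' : Scheme.{u}} (h : Y' ⟶ Y) (s : Y') :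
    ∃ q : (pullback.snd f h).fiber s ⟶ f.fiber (h.base s),
      q ≫ f.fiberι (h.base s) = (pullback.snd f h).fiberι s ≫ pullback.fst f h ∧
      IsPullback q ((pullback.snd f h).fiberToSpecResidueField s) (f.fiberToSpecResidueField (h.base s))
        (Spec.map (h.residueFieldMap s)) := by
  let f' := pullback.snd f h
  let q : f'.fiber s ⟶ f.fiber (h.base s) := pullback.lift (f'.fiberι s ≫ pullback.fst f h)
    (f'.fiberToSpecResidueField s ≫ Spec.map (h.residueFieldMap s)) (by
      rw [Category.assoc, pullback.condition, reassoc_of% (Groth.FibreDim.fiberι_comp f' s), Category.assoc,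
        Scheme.Hom.SpecMap_residueFieldMap_fromSpecResidueField])
  have hq1 : q ≫ f.fiberι (h.base s) = f'.fiberι s ≫ pullback.fst f h := pullback.lift_fst ..
  refine ⟨q, hq1, ?_⟩
  have hq2 : q ≫ f.fiberToSpecResidueField (h.base s) = f'.fiberToSpecResidueField s ≫ Spec.map (h.residueFieldMap s) :=
    pullback.lift_snd ..
  have hbig : IsPullback (f'.fiberι s ≫ pullback.fst f h) (f'.fiberToSpecResidueField s) f
      (Y'.fromSpecResidueField s ≫ h) :=
    IsPullback.paste_horiz (IsPullback.of_hasPullback f' (Y'.fromSpecResidueField s)) (IsPullback.of_hasPullback f h)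
  rw [← Scheme.Hom.SpecMap_residueFieldMap_fromSpecResidueField] at hbig
  rw [← hq1] at hbig
  exact hbig.of_right hq2 (IsPullback.of_hasPullback f (Y.fromSpecResidueField (h.base s)))

/-- The fibre conditions of EGA IV 15.2.3 at `x`. -/
def GoodFibre (x : X) : Prop :=
  (∀ z : ↥(f.fiber (f.base x)), f.asFiber x ∈ closure {z} →
      (∀ z' : ↥(f.fiber (f.base x)), z ∈ closure {z'} → z' = z) →
      EGA43.IsUnivOpenAt f ((f.fiberι (f.base x)).base z)) ∧
    FBase.IsGeomReducedAt (f.fiberToSpecResidueField (f.base x)) (f.asFiber x)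

/-- Fields over a reduced ring with kernel a minimal prime are flat. -/
theorem flat_of_comap_minimal {A : Type u} [CommRing A] [_root_.IsReduced A] (P : Ideal A)
    (hP : P ∈ minimalPrimes A) (F : Type u) [Field F] [Algebra A F]
    (h0 : ∀ r ∈ P, algebraMap A F r = 0) (h1 : ∀ r ∉ P, algebraMap A F r ≠ 0) : Module.Flat A F := by
  haveI := hP.1.1
  let K := Localization.AtPrime P
  have hK : IsField K := by
    rw [IsLocalRing.isField_iff_maximalIdeal_eq, eq_bot_iff]
    intro x hx
    have : x ∈ nilradical K := by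
      rw [nilradical_eq_sInf, Submodule.mem_sInf]
      intro q hq
      haveI : Ideal.IsPrime q := hq
      have hqP : Ideal.comap (algebraMap A K) q ≤ P := fun r hr => by
        by_contra hrP
        exact (IsLocalRing.le_maximalIdeal hq.ne_top hr)
          (IsLocalization.map_units K (⟨r, hrP⟩ : P.primeCompl))
      have heq : Ideal.comap (algebraMap A K) q = P := le_antisymm hqP (hP.2 ⟨Ideal.IsPrime.comap _, bot_le⟩ hqP)
      obtain ⟨r, t, rfl⟩ := IsLocalization.exists_mk'_eq P.primeCompl x
      have hr : r ∈ Ideal.comap (algebraMap A K) q := by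
        rw [heq]
        exact (IsLocalization.AtPrime.mk'_mem_maximal_iff K P r t).1 hx
      rw [IsLocalization.mk'_eq_mul_mk'_one]
      exact Ideal.mul_mem_right _ q hr
    rwa [nilradical_eq_zero, Submodule.zero_eq_bot] at this
  letI := hK.toField
  have hu : ∀ y : P.primeCompl, IsUnit (algebraMap A F y) := fun y => (h1 y y.2).isUnit
  letI : Algebra K F := (IsLocalization.lift (M := P.primeCompl) (g := algebraMap A F) hu).toAlgebra
  haveI : IsScalarTower A K F := IsScalarTower.of_algebraMap_eq fun r => (IsLocalization.lift_eq hu r).symm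
  haveI : Module.Flat A K := IsLocalization.flat K P.primeCompl
  exact Module.Flat.trans A K F

/-- The chart `Spec (R ⊗ O_x)` of a base change to a local ring. -/
theorem exists_chart {X Y : Scheme.{u}} (f : X ⟶ Y) (x : X) (R : Type u) [CommRing R]
    [Algebra (Y.presheaf.stalk (f.base x)) R] :
    letI : Algebra (Y.presheaf.stalk (f.base x)) (X.presheaf.stalk x) := (f.stalkMap x).hom.toAlgebra
    ∃ j : Spec (CommRingCat.of (TensorProduct (Y.presheaf.stalk (f.base x)) R (X.presheaf.stalk x))) ⟶
        pullback f (Spec.map ((CommRingCat.ofHom (algebraMap (Y.presheaf.stalk (f.base x)) R)) : Y.presheaf.stalk (f.base x) ⟶ CommRingCat.of R) ≫ Y.fromSpecStalk (f.base x)),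
      j ≫ pullback.fst f _ =
          Spec.map (CommRingCat.ofHom (Algebra.TensorProduct.includeRight (R := Y.presheaf.stalk (f.base x)) (A := R) (B := X.presheaf.stalk x)).toRingHom : X.presheaf.stalk x ⟶ _) ≫ X.fromSpecStalk x ∧
        j ≫ pullback.snd f _ = Spec.map (CommRingCat.ofHom (Algebra.TensorProduct.includeLeftRingHom (R := Y.presheaf.stalk (f.base x)) (A := R) (B := X.presheaf.stalk x))) ∧
        IsPreimmersion j ∧ Flat j := by
  letI : Algebra (Y.presheaf.stalk (f.base x)) (X.presheaf.stalk x) := (f.stalkMap x).hom.toAlgebra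
  let A := Y.presheaf.stalk (f.base x)
  let φ : CommRingCat.of A ⟶ CommRingCat.of R := CommRingCat.ofHom (algebraMap A R)
  let L := X.presheaf.stalk x
  let D := TensorProduct A R L
  let inR : CommRingCat.of R ⟶ CommRingCat.of D := CommRingCat.ofHom Algebra.TensorProduct.includeLeftRingHom
  let inL : CommRingCat.of L ⟶ CommRingCat.of D := CommRingCat.ofHom Algebra.TensorProduct.includeRight.toRingHom
  let h : Spec (CommRingCat.of R) ⟶ Y := Spec.map φ ≫ Y.fromSpecStalk (f.base x)
  have hsq : IsPullback (Spec.map inL) (Spec.map inR) (Spec.map (f.stalkMap x)) (Spec.map φ) :=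
    (isPullback_SpecMap_of_isPushout _ _ _ _ (CommRingCat.isPushout_tensorProduct A R L)).flip
  have hsq' : IsPullback (Spec.map inL) (Spec.map inR) (X.fromSpecStalk x ≫ f) h := by
    rw [← Scheme.SpecMap_stalkMap_fromSpecStalk]
    exact IsPullback.of_isLimit' ⟨by rw [reassoc_of% hsq.w]⟩
      (PullbackCone.isLimitOfCompMono _ _ (Y.fromSpecStalk (f.base x)) hsq.cone hsq.isLimit)
  let j : Spec (CommRingCat.of D) ⟶ pullback f h :=
    pullback.lift (Spec.map inL ≫ X.fromSpecStalk x) (Spec.map inR) (by rw [Category.assoc]; exact hsq'.w)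
  have hj : j ≫ pullback.fst f h = Spec.map inL ≫ X.fromSpecStalk x := pullback.lift_fst ..
  have htop : IsPullback (Spec.map inL) j (X.fromSpecStalk x) (pullback.fst f h) :=
    IsPullback.of_bot (by rw [pullback.lift_snd]; exact hsq') hj.symm (IsPullback.of_hasPullback f h)
  haveI : Flat (X.fromSpecStalk x) := Groth.VarietyBC.flat_fromSpecStalk X x
  exact ⟨j, hj, pullback.lift_snd _ _ _, MorphismProperty.of_isPullback htop inferInstance,
    MorphismProperty.of_isPullback htop inferInstance⟩

variable [LocallyOfFiniteType f]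

/-- The special fibre after base change to a discrete valuation ring is reduced. -/
theorem isReduced_fiberStalk_baseChange_dvr {x : X} (hx : GoodFibre f x)
    {R : Type u} [CommRing R] [IsDomain R] [IsDiscreteValuationRing R]
    (h : Spec (CommRingCat.of R) ⟶ Y) (hy : h.base (IsLocalRing.closedPoint R) = f.base x)
    (x' : ↥(pullback f h)) (hspec : (pullback.fst f h).base x' ⤳ x)
    (hclosed : (pullback.snd f h).base x' = IsLocalRing.closedPoint R) :
    _root_.IsReduced (CInt.fiberStalk (pullback.snd f h) x') := by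
  haveI : LocallyOfFiniteType (pullback.snd f h) := inferInstance
  -- move everything to the closed point
  suffices key : ∀ (s : ↥(Spec (CommRingCat.of R))) (y : Y), s = IsLocalRing.closedPoint R → h.base s = y →
      ∀ (a : f.fiber y), (f.fiberι y).base a = x →
      (∀ z : ↥(f.fiber y), a ∈ closure {z} → (∀ z' : ↥(f.fiber y), z ∈ closure {z'} → z' = z) →
        EGA43.IsUnivOpenAt f ((f.fiberι y).base z)) →
      FBase.IsGeomReducedAt (f.fiberToSpecResidueField y) a →
      ∀ w : (pullback.snd f h).fiber s, ((pullback.snd f h).fiberι s).base w = x' →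
      _root_.IsReduced (CInt.fiberStalk (pullback.snd f h) x') from
    key _ (f.base x) hclosed (by rw [hclosed]; exact hy) (f.asFiber x) (f.fiberι_asFiber x) hx.1 hx.2
      ((pullback.snd f h).asFiber x') ((pullback.snd f h).fiberι_asFiber x')
  intro s y hs hys a ha hopen hred w hw
  subst hys
  obtain ⟨q, hq, hsq⟩ := exists_fibre_isPullback f h s
  let ι' := ((pullback.snd f h).fiberι s)
  have hqa : q.base w ⤳ a := by
    rw [← (f.fiberι (h.base s)).isEmbedding.toIsInducing.specializes_iff, ha, ← Scheme.Hom.comp_apply, hq,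
      Scheme.Hom.comp_apply, hw]
    exact hspec
  haveI : Flat (Spec.map (h.residueFieldMap s)) := by
    rw [HasRingHomProperty.Spec_iff (P := @Flat)]
    letI := (h.residueFieldMap s).hom.toAlgebra
    exact RingHom.flat_algebraMap_iff.2 (inferInstance : Module.Flat (Y.residueField (h.base s))
      ((Spec (CommRingCat.of R)).residueField s))
  haveI : Flat q := MorphismProperty.of_isPullback hsq.flip inferInstance
  have hred' := isGeomReducedAt_of_specializes (k := Y.residueField (h.base s)) _ hqa hred
  letI := (h.residueFieldMap s).hom.toAlgebra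
  let e := hsq.isoPullback
  have he : (pullback.fst (f.fiberToSpecResidueField (h.base s)) (Spec.map (h.residueFieldMap s))).base
      (e.hom.base w) = q.base w := by
    rw [← Scheme.Hom.comp_apply, hsq.isoPullback_hom_fst]
  haveI : _root_.IsReduced ((pullback (f.fiberToSpecResidueField (h.base s))
      (Spec.map (h.residueFieldMap s))).presheaf.stalk (e.hom.base w)) :=
    hred' ((Spec (CommRingCat.of R)).residueField s) (e.hom.base w) he
  have h1 : _root_.IsReduced (((pullback.snd f h).fiber s).presheaf.stalk w) :=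
    isReduced_of_injective (asIso (e.hom.stalkMap w)).commRingCatIsoToRingEquiv.symm
      (asIso (e.hom.stalkMap w)).commRingCatIsoToRingEquiv.symm.injective
  obtain ⟨e₁⟩ := Groth.Ega4b.nonempty_fiber_stalk_equiv (pullback.snd f h) s w x' hw
  obtain ⟨e₂⟩ := Groth.Ega4b.nonempty_fiberStalk_equiv (pullback.snd f h) x'
  exact isReduced_of_injective (e₂.symm.trans e₁) (e₂.symm.trans e₁).injective

/-- Flatness after base change to a discrete valuation ring. -/
theorem flat_stalkMap_baseChange_dvr {x : X} (hx : GoodFibre f x)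
    {R : Type u} [CommRing R] [IsDomain R] [IsDiscreteValuationRing R]
    (h : Spec (CommRingCat.of R) ⟶ Y) (hy : h.base (IsLocalRing.closedPoint R) = f.base x)
    (x' : ↥(pullback f h)) (hspec : (pullback.fst f h).base x' ⤳ x)
    (hclosed : (pullback.snd f h).base x' = IsLocalRing.closedPoint R) :
    ((pullback.snd f h).stalkMap x').hom.Flat := by
  haveI : LocallyOfFiniteType (pullback.snd f h) := inferInstance
  -- move everything to the closed point
  suffices key : ∀ (s : ↥(Spec (CommRingCat.of R))) (y : Y), s = IsLocalRing.closedPoint R → h.base s = y →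
      ∀ (a : f.fiber y), (f.fiberι y).base a = x →
      (∀ z : ↥(f.fiber y), a ∈ closure {z} → (∀ z' : ↥(f.fiber y), z ∈ closure {z'} → z' = z) →
        EGA43.IsUnivOpenAt f ((f.fiberι y).base z)) →
      FBase.IsGeomReducedAt (f.fiberToSpecResidueField y) a →
      ∀ w : (pullback.snd f h).fiber s, ((pullback.snd f h).fiberι s).base w = x' →
      ((pullback.snd f h).stalkMap x').hom.Flat from
    key _ (f.base x) hclosed (by rw [hclosed]; exact hy) (f.asFiber x) (f.fiberι_asFiber x) hx.1 hx.2
      ((pullback.snd f h).asFiber x') ((pullback.snd f h).fiberι_asFiber x')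
  intro s y hs hys a ha hopen hred w hw
  subst hys
  obtain ⟨q, hq, hsq⟩ := exists_fibre_isPullback f h s
  let ι' := ((pullback.snd f h).fiberι s)
  have hqa : q.base w ⤳ a := by
    rw [← (f.fiberι (h.base s)).isEmbedding.toIsInducing.specializes_iff, ha, ← Scheme.Hom.comp_apply, hq,
      Scheme.Hom.comp_apply, hw]
    exact hspec
  haveI : Flat (Spec.map (h.residueFieldMap s)) := by
    rw [HasRingHomProperty.Spec_iff (P := @Flat)]
    letI := (h.residueFieldMap s).hom.toAlgebra
    exact RingHom.flat_algebraMap_iff.2 (inferInstance : Module.Flat (Y.residueField (h.base s))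
      ((Spec (CommRingCat.of R)).residueField s))
  haveI : Flat q := MorphismProperty.of_isPullback hsq.flip inferInstance
  refine Groth.Ega43DVR.flat_stalkMap (pullback.snd f h) x' hclosed (fun z hz hzx hmax => ?_)
    (isReduced_fiberStalk_baseChange_dvr f hx h hy x' hspec hclosed)
  · rw [← hw, Groth.FibreDim.apply_fiberι] at hz hmax
    obtain ⟨z₀, rfl⟩ : z ∈ Set.range ι'.base :=
      ((pullback.snd f h).range_fiberι s).ge hz
    have hzw : z₀ ⤳ w := by
      rw [← ι'.isEmbedding.toIsInducing.specializes_iff, hw]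
      exact hzx
    have hmax₀ : ∀ z' : ↥(f.fiber (h.base s)), q.base z₀ ∈ closure {z'} → z' = q.base z₀ := fun z' hz' => by
      obtain ⟨w', hw', hqw'⟩ := Groth.FibreDim.generalizing_of_flat_stalkMap q z₀ (Flat.stalkMap q z₀) z₀
        specializes_rfl z' (specializes_iff_mem_closure.2 hz')
      have := hmax (ι'.base w') (Groth.FibreDim.apply_fiberι _ _ _) (hw'.map ι'.continuous)
      rw [← hqw', ι'.isEmbedding.injective this]
    have hu := hopen (q.base z₀) (specializes_iff_mem_closure.1 ((hzw.map q.continuous).trans hqa)) hmax₀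
    refine hu _ h (ι'.base z₀) ?_
    rw [← Scheme.Hom.comp_apply, ← hq, Scheme.Hom.comp_apply]

/-- Reducedness after base change to a discrete valuation ring. -/
theorem isReduced_stalk_baseChange_dvr {x : X} (hx : GoodFibre f x)
    {R : Type u} [CommRing R] [IsDomain R] [IsDiscreteValuationRing R]
    (h : Spec (CommRingCat.of R) ⟶ Y) (hy : h.base (IsLocalRing.closedPoint R) = f.base x)
    (x' : ↥(pullback f h)) (hspec : (pullback.fst f h).base x' ⤳ x)
    (hclosed : (pullback.snd f h).base x' = IsLocalRing.closedPoint R) :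
    _root_.IsReduced ((pullback f h).presheaf.stalk x') := by
  haveI : LocallyOfFiniteType (pullback.snd f h) := inferInstance
  haveI : IsLocallyNoetherian (pullback f h) := LocallyOfFiniteType.isLocallyNoetherian (pullback.snd f h)
  let φ := ((pullback.snd f h).stalkMap x').hom
  have hflat : φ.Flat := flat_stalkMap_baseChange_dvr f hx h hy x' hspec hclosed
  haveI hred : _root_.IsReduced (CInt.fiberStalk (pullback.snd f h) x') :=
    isReduced_fiberStalk_baseChange_dvr f hx h hy x' hspec hclosed
  obtain ⟨e⟩ := Groth.Ega4b.nonempty_fiberStalk_equiv (pullback.snd f h) x'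
  haveI : _root_.IsReduced ((pullback f h).presheaf.stalk x' ⧸ Ideal.map φ (IsLocalRing.maximalIdeal _)) :=
    isReduced_of_injective e.toRingHom e.injective
  obtain ⟨hd, hdvr⟩ := Groth.Ega43DVR.stalk_isDVR R ((pullback.snd f h).base x') hclosed
  obtain ⟨π, hπ⟩ := IsDiscreteValuationRing.exists_irreducible
    ((Spec (CommRingCat.of R)).presheaf.stalk ((pullback.snd f h).base x'))
  have hm : Ideal.map φ (IsLocalRing.maximalIdeal _) = Ideal.span {φ π} := by
    rw [(IsDiscreteValuationRing.irreducible_iff_uniformizer π).1 hπ, Ideal.map_span, Set.image_singleton]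
  have hreg : ∀ b, φ π * b = 0 → b = 0 := fun b hb => by
    letI := φ.toAlgebra
    haveI : Module.Flat ((Spec (CommRingCat.of R)).presheaf.stalk ((pullback.snd f h).base x'))
        ((pullback f h).presheaf.stalk x') := hflat
    have h0 := (IsSMulRegular.of_flat (S := (pullback f h).presheaf.stalk x')
      (x := π) (IsSMulRegular.of_ne_zero hπ.ne_zero))
    exact h0 (show π • b = π • 0 by rw [smul_zero, Algebra.smul_def]; exact hb)
  refine ⟨fun a ha => ?_⟩
  have key : ∀ n : ℕ, ∀ b : (pullback f h).presheaf.stalk x', IsNilpotent b → b ∈ Ideal.span {φ π ^ n} := by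
    intro n
    induction n with
    | zero => intro b _; simp
    | succ n ih =>
      intro b hb
      have hb1 : b ∈ Ideal.span {φ π} := by
        rw [← hm]
        exact Ideal.Quotient.eq_zero_iff_mem.1 (IsReduced.eq_zero _ (hb.map (Ideal.Quotient.mk _)))
      obtain ⟨c, rfl⟩ := Ideal.mem_span_singleton'.1 hb1
      obtain ⟨k, hk⟩ := hb
      have hc : IsNilpotent c := by
        refine ⟨k, ?_⟩
        rw [mul_pow] at hk
        have hpow : ∀ (k : ℕ) (d : (pullback f h).presheaf.stalk x'), d * φ π ^ k = 0 → d = 0 := by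
          intro k
          induction k with
          | zero => intro d hd; simpa using hd
          | succ k ihk =>
            intro d hd
            exact ihk d (hreg _ (by linear_combination hd))
        exact hpow k _ hk
      obtain ⟨d, rfl⟩ := Ideal.mem_span_singleton'.1 (ih c hc)
      exact Ideal.mem_span_singleton'.2 ⟨d, by ring⟩
  have hmem : φ π ∈ IsLocalRing.maximalIdeal _ := fun hu => hπ.not_isUnit (isUnit_of_map_unit φ π hu)
  have : a ∈ ⨅ n : ℕ, IsLocalRing.maximalIdeal ((pullback f h).presheaf.stalk x') ^ n :=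
    Ideal.mem_iInf.2 fun n => (Ideal.span_le.2 (Set.singleton_subset_iff.2 (Ideal.pow_mem_pow hmem n))) (key n a ha)
  rwa [Ideal.iInf_pow_eq_bot_of_isLocalRing _ (IsLocalRing.maximalIdeal.isMaximal _).ne_top] at this

/-- **EGA IV 15.2.3.** -/
theorem flat_stalkMap_of_goodFibre [IsLocallyNoetherian Y] {x : X} (hx : GoodFibre f x)
    [hred : _root_.IsReduced (Y.presheaf.stalk (f.base x))] :
    (f.stalkMap x).hom.Flat := by
  haveI : IsLocallyNoetherian X := LocallyOfFiniteType.isLocallyNoetherian f
  let A := Y.presheaf.stalk (f.base x)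
  let L := X.presheaf.stalk x
  letI : Algebra A L := (f.stalkMap x).hom.toAlgebra
  haveI : IsLocalHom (algebraMap A L) := inferInstanceAs (IsLocalHom (f.stalkMap x).hom)
  haveI : Algebra.EssFiniteType A L := by
    obtain ⟨U, hU, hyU, -⟩ := exists_isAffineOpen_mem_and_subset (U := ⊤) (Set.mem_univ (f.base x))
    obtain ⟨V, hV, hxV, hVU⟩ := exists_isAffineOpen_mem_and_subset (U := f ⁻¹ᵁ U) hyU
    have e : V ≤ f ⁻¹ᵁ U := hVU
    letI := (f.appLE U V e).hom.toAlgebra
    letI := Y.presheaf.algebra_section_stalk ⟨f.base x, hyU⟩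
    letI := X.presheaf.algebra_section_stalk ⟨x, hxV⟩
    haveI := hV.isLocalization_stalk ⟨x, hxV⟩
    letI : Algebra Γ(Y, U) L := ((algebraMap A L).comp (algebraMap Γ(Y, U) A)).toAlgebra
    haveI : IsScalarTower Γ(Y, U) A L := IsScalarTower.of_algebraMap_eq fun _ => rfl
    haveI : IsScalarTower Γ(Y, U) Γ(X, V) L := IsScalarTower.of_algebraMap_eq fun r => by
      show (f.stalkMap x).hom ((Y.presheaf.germ U (f.base x) hyU).hom r) =
        (X.presheaf.germ V x hxV).hom ((f.appLE U V e).hom r)
      rw [← CommRingCat.comp_apply, Scheme.Hom.germ_stalkMap, ← CommRingCat.comp_apply,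
        Scheme.Hom.appLE, Category.assoc, X.presheaf.germ_res]
    haveI : Algebra.FiniteType Γ(Y, U) Γ(X, V) := f.finiteType_appLE hU hV e
    haveI : Algebra.EssFiniteType Γ(X, V) L :=
      Algebra.EssFiniteType.of_isLocalization L (hV.primeIdealOf ⟨x, hxV⟩).asIdeal.primeCompl
    haveI : Algebra.EssFiniteType Γ(Y, U) L := Algebra.EssFiniteType.comp Γ(Y, U) Γ(X, V) L
    exact Algebra.EssFiniteType.of_comp Γ(Y, U) A L
  refine RingHom.flat_algebraMap_iff.2 (flat_of_dvr A L fun R _ _ _ _ _ => ?_)
  let φ : CommRingCat.of A ⟶ CommRingCat.of R := CommRingCat.ofHom (algebraMap A R)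
  let D := TensorProduct A R L
  let inR : CommRingCat.of R ⟶ CommRingCat.of D := CommRingCat.ofHom Algebra.TensorProduct.includeLeftRingHom
  let inL : CommRingCat.of L ⟶ CommRingCat.of D := CommRingCat.ofHom Algebra.TensorProduct.includeRight.toRingHom
  let h : Spec (CommRingCat.of R) ⟶ Y := Spec.map φ ≫ Y.fromSpecStalk (f.base x)
  have hy : h.base (IsLocalRing.closedPoint R) = f.base x := by
    show (Y.fromSpecStalk (f.base x)).base (PrimeSpectrum.comap (algebraMap A R) (IsLocalRing.closedPoint R)) = _
    rw [IsLocalRing.comap_closedPoint (algebraMap A R)]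
    exact Scheme.fromSpecStalk_closedPoint
  obtain ⟨j, hj, hjR, _, _⟩ := exists_chart f x R
  have hflat : ∀ (P : Ideal D) [P.IsMaximal], Module.Flat R (Localization.AtPrime P) := fun P _ => by
    let P' : Spec (CommRingCat.of D) := ⟨P, inferInstance⟩
    have hR : Spec.map inR = j ≫ pullback.snd f h := hjR.symm
    let c : R →+* Localization.AtPrime P := algebraMap R (Localization.AtPrime P)
    by_cases hc : (Spec.map inR).base P' = IsLocalRing.closedPoint R
    · have hc' : (pullback.snd f h).base (j.base P') = IsLocalRing.closedPoint R :=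
        (congrArg (fun m => m.base P') hjR).trans hc
      have hspec : (pullback.fst f h).base (j.base P') ⤳ x := by
        have : (pullback.fst f h).base (j.base P') ∈ Set.range (X.fromSpecStalk x).base :=
          ⟨(Spec.map inL).base P', (congrArg (fun m => m.base P') hj).symm⟩
        rwa [Scheme.range_fromSpecStalk] at this
      have h1 := flat_stalkMap_baseChange_dvr f hx h hy (j.base P') hspec hc'
      have h2 : ((j ≫ pullback.snd f h).stalkMap P').hom.Flat := by
        rw [Scheme.Hom.stalkMap_comp]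
        show ((j.stalkMap P').hom.comp ((pullback.snd f h).stalkMap (j.base P')).hom).Flat
        exact RingHom.Flat.comp h1 (Flat.stalkMap j P')
      rw [← hR] at h2
      have h3 : (Localization.localRingHom _ P'.asIdeal inR.hom rfl).Flat :=
        (RingHom.Flat.respectsIso.arrow_mk_iso_iff (Scheme.arrowStalkMapSpecIso inR P')).1 h2
      rw [← RingHom.flat_algebraMap_iff]
      have h4 : (algebraMap R (Localization.AtPrime (P'.asIdeal.comap inR.hom))).Flat :=
        RingHom.flat_algebraMap_iff.2 (IsLocalization.flat _ (P'.asIdeal.comap inR.hom).primeCompl)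
      convert RingHom.Flat.comp h4 h3 using 1
      exact RingHom.ext fun r => (Localization.localRingHom_to_map (P'.asIdeal.comap inR.hom) P'.asIdeal inR.hom rfl r).symm
    · rw [← RingHom.flat_algebraMap_iff]
      obtain ⟨π, hπ⟩ := IsDiscreteValuationRing.exists_irreducible R
      refine Groth.Ega43DVR.flat_of_regular _ hπ fun b hb => ?_
      have hunit : IsUnit (algebraMap R (Localization.AtPrime P) π) := by
        rw [IsScalarTower.algebraMap_apply R D (Localization.AtPrime P)]
        refine IsLocalization.map_units (M := P.primeCompl) (Localization.AtPrime P) ⟨algebraMap R D π, fun hmem => hc ?_⟩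
        refine PrimeSpectrum.ext ((IsLocalRing.maximalIdeal.isMaximal R).eq_of_le ((Spec.map inR).base P').isPrime.ne_top ?_).symm
        rw [(IsDiscreteValuationRing.irreducible_iff_uniformizer π).1 hπ, Ideal.span_le, Set.singleton_subset_iff]
        exact hmem
      exact hunit.mul_right_eq_zero.1 hb
  exact Module.flat_of_isLocalized_maximal (R := R) (S := D) (M := D) (fun P _ => Localization.AtPrime P)
    (fun P _ => Algebra.linearMap D (Localization.AtPrime P)) hflat

/-- A flat morphism with geometrically reduced fibre over a reduced local ring has reduced local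
rings (EGA IV 11.3.13). -/
theorem isReduced_stalk_of_goodFibre [IsLocallyNoetherian Y] {x : X} (hx : GoodFibre f x)
    [hred : _root_.IsReduced (Y.presheaf.stalk (f.base x))] :
    _root_.IsReduced (X.presheaf.stalk x) := by
  classical
  haveI : IsLocallyNoetherian X := LocallyOfFiniteType.isLocallyNoetherian f
  let A := Y.presheaf.stalk (f.base x)
  let L := X.presheaf.stalk x
  letI : Algebra A L := (f.stalkMap x).hom.toAlgebra
  haveI : IsLocalHom (algebraMap A L) := inferInstanceAs (IsLocalHom (f.stalkMap x).hom)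
  haveI hfl : Module.Flat A L := flat_stalkMap_of_goodFibre f hx
  refine ⟨fun a ha => ?_⟩
  by_contra ha0
  obtain ⟨Q, hQass, -⟩ := exists_le_isAssociatedPrime_of_isNoetherianRing L
    (⟨a, Ideal.mem_span_singleton_self a⟩ : Ideal.span {a}) (fun h0 => ha0 (congrArg Subtype.val h0))
  obtain ⟨hQ, l₀, hl₀⟩ := (isAssociatedPrime_iff_exists_injective_linearMap Q (Ideal.span {a})).1 hQass
  haveI := hQ
  let l : (L ⧸ Q) →ₗ[L] L := (Ideal.span {a}).subtype ∘ₗ l₀
  have hQl : Function.Injective l := Subtype.val_injective.comp hl₀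
  let b : L := l 1
  have hlb : ∀ r : L, l (Ideal.Quotient.mk Q r) = r * b := fun r => by
    rw [show Ideal.Quotient.mk Q r = r • (1 : L ⧸ Q) by simp [Algebra.smul_def], map_smul, smul_eq_mul]
  have hb0 : b ≠ 0 := fun h0 => hQ.ne_top ((Ideal.eq_top_iff_one _).2
    (Ideal.Quotient.eq_zero_iff_mem.1 (hQl (by rw [map_zero]; simpa [b] using h0))))
  have hbQ : ∀ q ∈ Q, q * b = 0 := fun q hq => by
    rw [← hlb, Ideal.Quotient.eq_zero_iff_mem.2 hq, map_zero]
  -- the contraction of an associated prime consists of zero divisors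
  have hPzd : ∀ r : A, algebraMap A L r ∈ Q → ∃ P ∈ minimalPrimes A, r ∈ P := fun r hr => by
    by_contra hne
    push Not at hne
    have hreg : IsSMulRegular A r := by
      intro u v huv
      have hd : r * (u - v) = 0 := by
        rw [mul_sub]; exact sub_eq_zero.2 huv
      refine sub_eq_zero.1 (IsReduced.eq_zero _ ?_)
      rw [← mem_nilradical, nilradical, ← Ideal.sInf_minimalPrimes, Submodule.mem_sInf]
      intro P hP
      exact (hP.1.1.mem_or_mem (show r * (u - v) ∈ P by rw [hd]; exact P.zero_mem)).resolve_left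
        (hne P hP)
    exact hb0 (IsSMulRegular.of_flat (S := L) hreg
      (show r • b = r • (0 : L) by rw [smul_zero, Algebra.smul_def]; exact hbQ _ hr))
  obtain ⟨P, hP, hQP⟩ : ∃ P ∈ minimalPrimes A, Q.comap (algebraMap A L) ≤ P := by
    have hfin : (minimalPrimes A).Finite := minimalPrimes.finite_of_isNoetherianRing A
    have hsub : (Q.comap (algebraMap A L) : Set A) ⊆ ⋃ P ∈ (↑hfin.toFinset : Set (Ideal A)), (P : Set A) := fun r hr => by
      obtain ⟨P, hP, hrP⟩ := hPzd r hr
      exact Set.mem_biUnion (show P ∈ (↑hfin.toFinset : Set (Ideal A)) by simpa using hP) hrP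
    obtain ⟨P, hP, hle⟩ := (Ideal.subset_union_prime ⊥ ⊥ fun P hP _ _ => (hfin.mem_toFinset.1 hP).1.1).1 hsub
    exact ⟨P, hfin.mem_toFinset.1 hP, hle⟩
  have hQc : Q.comap (algebraMap A L) = P :=
    le_antisymm hQP (hP.2 ⟨Ideal.IsPrime.comap _, bot_le⟩ hQP)
  by_cases hQm : Q = IsLocalRing.maximalIdeal L
  · -- then `A` is a field and `L` is the local ring of the fibre
    have hPm : P = IsLocalRing.maximalIdeal A := by
      rw [← hQc, hQm]; exact IsLocalRing.maximalIdeal_comap _
    have hbot : IsLocalRing.maximalIdeal A = ⊥ := by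
      refine eq_bot_iff.2 fun r hr => ?_
      have : r ∈ nilradical A := by
        rw [nilradical, ← Ideal.sInf_minimalPrimes, Submodule.mem_sInf]
        intro P' hP'
        have hle : P' ≤ P := hPm ▸ IsLocalRing.le_maximalIdeal hP'.1.1.ne_top
        exact (le_antisymm hle (hP.2 hP'.1 hle)) ▸ (hPm ▸ hr)
      rwa [nilradical_eq_zero, Submodule.zero_eq_bot] at this
    have hfib : _root_.IsReduced ((f.fiber (f.base x)).presheaf.stalk (f.asFiber x)) := by
      let k := IsLocalRing.ResidueField (Y.presheaf.stalk (f.base x))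
      let g := f.fiberToSpecResidueField (f.base x)
      haveI : Subsingleton ↥(Spec (Y.residueField (f.base x))) :=
        inferInstanceAs (Subsingleton (PrimeSpectrum (Y.residueField (f.base x))))
      obtain ⟨z, hz, -⟩ := Scheme.Pullback.exists_preimage_pullback (f := g)
        (g := Spec.map (CommRingCat.ofHom (algebraMap k k))) (f.asFiber x) (IsLocalRing.closedPoint k)
        (Subsingleton.elim _ _)
      haveI := hx.2 k z hz
      haveI : Flat (Spec.map (CommRingCat.ofHom (algebraMap k k))) := by
        rw [HasRingHomProperty.Spec_iff (P := @Flat)]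
        exact RingHom.flat_algebraMap_iff.2 (inferInstance : Module.Flat k k)
      haveI : Flat (FBase.bcπ g k) := MorphismProperty.pullback_fst _ _ inferInstance
      exact Groth.VarietyBC.isReduced_stalk_of_flat (FBase.bcπ g k) z hz
    obtain ⟨e⟩ := Groth.Ega4b.nonempty_fiber_stalk_equiv f (f.base x) (f.asFiber x) x (f.fiberι_asFiber x)
    haveI : _root_.IsReduced (L ⧸ Ideal.map (algebraMap A L) (IsLocalRing.maximalIdeal A)) :=
      isReduced_of_injective e.toRingHom e.injective
    rw [hbot, Ideal.map_bot] at this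
    haveI := this
    haveI : _root_.IsReduced L := isReduced_of_injective (RingEquiv.quotientBot L).symm (RingEquiv.quotientBot L).symm.injective
    exact ha0 (IsReduced.eq_zero a ha)
  -- a discrete valuation ring dominating `L ⧸ Q`
  haveI : IsLocalRing (L ⧸ Q) := .of_surjective' _ Ideal.Quotient.mk_surjective
  have hnf : ¬ IsField (L ⧸ Q) := fun hf =>
    hQm (IsLocalRing.eq_maximalIdeal (Ideal.Quotient.maximal_of_isField Q hf))
  obtain ⟨R, _, _, _, ψ, hψinj, hψloc⟩ := Groth.EGA43Val.exists_dvr_dominating (L ⧸ Q) hnf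
  haveI := hψloc
  haveI : IsLocalHom (Ideal.Quotient.mk Q) := .of_surjective _ Ideal.Quotient.mk_surjective
  let χ : L →+* R := ψ.comp (Ideal.Quotient.mk Q)
  letI : Algebra A R := (χ.comp (algebraMap A L)).toAlgebra
  haveI : IsLocalHom χ := inferInstanceAs (IsLocalHom (ψ.comp (Ideal.Quotient.mk Q)))
  haveI : IsLocalHom (algebraMap A R) := inferInstanceAs (IsLocalHom (χ.comp (algebraMap A L)))
  let D := TensorProduct A R L
  let μ : D →ₐ[A] R := Algebra.TensorProduct.lift (AlgHom.id A R)
    { χ with commutes' := fun _ => rfl } fun _ _ => .all _ _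
  let PD : Ideal D := (IsLocalRing.maximalIdeal R).comap μ
  haveI : PD.IsPrime := Ideal.IsPrime.comap _
  let P' : Spec (CommRingCat.of D) := ⟨PD, inferInstance⟩
  let φ : CommRingCat.of A ⟶ CommRingCat.of R := CommRingCat.ofHom (algebraMap A R)
  let inR : CommRingCat.of R ⟶ CommRingCat.of D := CommRingCat.ofHom Algebra.TensorProduct.includeLeftRingHom
  let inL : CommRingCat.of L ⟶ CommRingCat.of D := CommRingCat.ofHom Algebra.TensorProduct.includeRight.toRingHom
  let h : Spec (CommRingCat.of R) ⟶ Y := Spec.map φ ≫ Y.fromSpecStalk (f.base x)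
  have hy : h.base (IsLocalRing.closedPoint R) = f.base x := by
    show (Y.fromSpecStalk (f.base x)).base (PrimeSpectrum.comap (algebraMap A R) (IsLocalRing.closedPoint R)) = _
    rw [IsLocalRing.comap_closedPoint (algebraMap A R)]
    exact Scheme.fromSpecStalk_closedPoint
  obtain ⟨j, hj, hjR, _, _⟩ := exists_chart f x R
  have hc' : (pullback.snd f h).base (j.base P') = IsLocalRing.closedPoint R := by
    refine (congrArg (fun m => m.base P') hjR).trans (PrimeSpectrum.ext ?_)
    show PD.comap inR.hom = IsLocalRing.maximalIdeal R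
    ext r
    show μ (r ⊗ₜ[A] (1 : L)) ∈ IsLocalRing.maximalIdeal R ↔ r ∈ IsLocalRing.maximalIdeal R
    have hμr : μ (r ⊗ₜ[A] (1 : L)) = r :=
      (Algebra.TensorProduct.lift_tmul _ _ _ _ _).trans ((congrArg (r * ·) (map_one χ)).trans (mul_one r))
    rw [hμr]
  have hspec : (pullback.fst f h).base (j.base P') ⤳ x := by
    have : (pullback.fst f h).base (j.base P') ∈ Set.range (X.fromSpecStalk x).base :=
      ⟨(Spec.map inL).base P', (congrArg (fun m => m.base P') hj).symm⟩
    rwa [Scheme.range_fromSpecStalk] at this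
  haveI := Groth.VarietyBC.isIso_stalkMap_of_flat_preimmersion j P'
  let eD := ((asIso (j.stalkMap P')) ≪≫ AlgebraicGeometry.Spec.stalkIso _ P').commRingCatIsoToRingEquiv
  haveI : _root_.IsReduced (Localization.AtPrime P'.asIdeal) := ⟨fun c hc => eD.symm.injective
    (((isReduced_stalk_baseChange_dvr f hx h hy (j.base P') hspec hc').eq_zero _ (hc.map eD.symm)).trans (map_zero _).symm)⟩
  have hbn : IsNilpotent b := by
    obtain ⟨r, hr⟩ := Ideal.mem_span_singleton'.1 (l₀ 1).2
    show IsNilpotent ((l₀ 1 : Ideal.span {a}) : L)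
    rw [← hr]
    exact (Commute.all r a).isNilpotent_mul_left ha
  have hzero : algebraMap D (Localization.AtPrime P'.asIdeal) (Algebra.TensorProduct.includeRight (R := A) (A := R) b) = 0 :=
    IsReduced.eq_zero _ ((hbn.map _).map _)
  obtain ⟨⟨σ, hσ⟩, hσb⟩ := (IsLocalization.map_eq_zero_iff P'.asIdeal.primeCompl _ _).1 hzero
  let F := FractionRing R
  haveI : Module.Flat A F := flat_of_comap_minimal P hP F (fun r hr => by
    have hrQ : algebraMap A L r ∈ Q := by rw [← Ideal.mem_comap, hQc]; exact hr
    rw [IsScalarTower.algebraMap_apply A R F]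
    show algebraMap R F (ψ (Ideal.Quotient.mk Q (algebraMap A L r))) = 0
    rw [Ideal.Quotient.eq_zero_iff_mem.2 hrQ, map_zero, map_zero]) (fun r hr => by
    rw [IsScalarTower.algebraMap_apply A R F]
    intro h0
    have h1 : ψ (Ideal.Quotient.mk Q (algebraMap A L r)) = 0 :=
      (map_eq_zero_iff _ (IsFractionRing.injective R F)).1 h0
    exact hr (by rw [← hQc]; exact (Ideal.Quotient.eq_zero_iff_mem (I := Q)).1 ((map_eq_zero_iff _ hψinj).1 h1)))
  let g : TensorProduct A F (L ⧸ Q) →ₗ[A] TensorProduct A F L := LinearMap.lTensor F (l.restrictScalars A)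
  have hg : Function.Injective g := Module.Flat.lTensor_preserves_injective_linearMap _ hQl
  let ρ : D →ₐ[A] TensorProduct A F (L ⧸ Q) :=
    Algebra.TensorProduct.map (IsScalarTower.toAlgHom A R F) (Ideal.Quotient.mkₐ A Q)
  let ν : D →ₐ[A] TensorProduct A F L :=
    Algebra.TensorProduct.map (IsScalarTower.toAlgHom A R F) (AlgHom.id A L)
  have hcomm : ∀ d : D, g (ρ d) = ν (d * Algebra.TensorProduct.includeRight b) := by
    intro d
    induction d using TensorProduct.induction_on with
    | zero => simp
    | add u v hu hv => simp only [map_add, add_mul, hu, hv]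
    | tmul r m =>
      rw [map_mul]
      show algebraMap R F r ⊗ₜ[A] l (Ideal.Quotient.mk Q m) =
        (algebraMap R F r ⊗ₜ[A] m) * (algebraMap R F 1 ⊗ₜ[A] b)
      rw [Algebra.TensorProduct.tmul_mul_tmul, map_one, mul_one, hlb]
  have hρ : ρ σ = 0 := hg (by rw [hcomm, hσb, map_zero, map_zero])
  let ψ' : (L ⧸ Q) →ₐ[A] F :=
    { (algebraMap R F).comp ψ with
      commutes' := fun r => (IsScalarTower.algebraMap_apply A R F r).symm }
  have hμ : algebraMap R F (μ σ) = 0 := by
    have hμc : ∀ d : D, algebraMap R F (μ d) =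
        Algebra.TensorProduct.lift (AlgHom.id A F) ψ' (fun _ _ => .all _ _) (ρ d) := by
      intro d
      induction d using TensorProduct.induction_on with
      | zero => simp
      | add u v hu hv => simp only [map_add, hu, hv]
      | tmul r m =>
        show algebraMap R F (r * ψ (Ideal.Quotient.mk Q m)) =
          algebraMap R F r * algebraMap R F (ψ (Ideal.Quotient.mk Q m))
        rw [map_mul]
    rw [hμc, hρ, map_zero]
  exact hσ (show μ σ ∈ IsLocalRing.maximalIdeal R by
    rw [(map_eq_zero_iff _ (IsFractionRing.injective R F)).1 hμ]; exact Ideal.zero_mem _)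

/-- Reducedness of a locally Noetherian scheme spreads to a neighbourhood. -/
theorem exists_isReduced_nhd {Z : Scheme.{u}} [IsLocallyNoetherian Z] (z : Z)
    [_root_.IsReduced (Z.presheaf.stalk z)] :
    ∃ U : Z.Opens, z ∈ U ∧ ∀ w ∈ U, _root_.IsReduced (Z.presheaf.stalk w) := by
  classical
  obtain ⟨V, hV, hzV, -⟩ := exists_isAffineOpen_mem_and_subset (U := ⊤) (Set.mem_univ z)
  haveI : IsNoetherianRing Γ(Z, V) := IsLocallyNoetherian.component_noetherian ⟨V, hV⟩
  letI := Z.presheaf.algebra_section_stalk ⟨z, hzV⟩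
  haveI := hV.isLocalization_stalk ⟨z, hzV⟩
  have hloc : ∀ a ∈ nilradical Γ(Z, V), ∃ m ∈ (hV.primeIdealOf ⟨z, hzV⟩).asIdeal.primeCompl, m * a = 0 :=
    fun a ha => by
      have h0 : algebraMap Γ(Z, V) (Z.presheaf.stalk z) a = 0 :=
        IsReduced.eq_zero _ ((mem_nilradical.1 ha).map _)
      obtain ⟨⟨m, hm⟩, hma⟩ := (IsLocalization.map_eq_zero_iff
        (hV.primeIdealOf ⟨z, hzV⟩).asIdeal.primeCompl _ _).1 h0
      exact ⟨m, hm, hma⟩
  obtain ⟨G, hG⟩ := (IsNoetherian.noetherian (nilradical Γ(Z, V)) : (nilradical Γ(Z, V)).FG)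
  choose m hm hma using fun a : ↥G => hloc a.1 (hG ▸ Ideal.subset_span a.2)
  let s := ∏ a, m a
  have hs : s ∈ (hV.primeIdealOf ⟨z, hzV⟩).asIdeal.primeCompl := Submonoid.prod_mem _ fun a _ => hm a
  have hsN : ∀ a ∈ nilradical Γ(Z, V), s * a = 0 := by
    intro a ha
    rw [← hG] at ha
    induction ha using Submodule.span_induction with
    | mem a ha =>
      obtain ⟨c, hc⟩ := Finset.dvd_prod_of_mem m (Finset.mem_univ (⟨a, ha⟩ : ↥G))
      have h1 := hma ⟨a, ha⟩
      linear_combination (norm := (simp only [s]; ring_nf)) a * hc + c * h1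
    | zero => simp
    | add u v _ _ hu hv => linear_combination hu + hv
    | smul r u _ hu => rw [smul_eq_mul]; linear_combination r * hu
  refine ⟨Z.basicOpen s, (Groth.FlatMor2.mem_basicOpen_iff_notMem_primeIdealOf hV ⟨z, hzV⟩ s).2 hs, fun w hw => ?_⟩
  have hwV : w ∈ V := Z.basicOpen_le s hw
  letI := Z.presheaf.algebra_section_stalk ⟨w, hwV⟩
  haveI := hV.isLocalization_stalk ⟨w, hwV⟩
  have hsw : s ∈ (hV.primeIdealOf ⟨w, hwV⟩).asIdeal.primeCompl :=
    (Groth.FlatMor2.mem_basicOpen_iff_notMem_primeIdealOf hV ⟨w, hwV⟩ s).1 hw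
  refine ⟨fun a ha => ?_⟩
  obtain ⟨r, t, rfl⟩ := IsLocalization.exists_mk'_eq (hV.primeIdealOf ⟨w, hwV⟩).asIdeal.primeCompl a
  obtain ⟨n, hn⟩ := ha
  rw [← IsLocalization.mk'_pow, IsLocalization.mk'_eq_zero_iff] at hn
  obtain ⟨⟨m', hm'⟩, hn⟩ := hn
  rw [IsLocalization.mk'_eq_zero_iff]
  refine ⟨⟨s * m', mul_mem hsw hm'⟩, ?_⟩
  show s * m' * r = 0
  rw [mul_assoc]
  refine hsN _ (mem_nilradical.2 ⟨n + 1, ?_⟩)
  rw [mul_pow]
  linear_combination (m' ^ n * r) * hn

end Groth.EGA43Topo.FlatUnivOpen
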