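import Groth.Agent.EGA43Topo.FlatUnivOpen

/-!
# The valuative criterion of flatness tested at the points over a given point (EGA IV 11.8.1)

Only discrete valuation rings whose residue field is integral over that of the base are needed, so
that every point of the special fibre above the point in question lies over it.
-/

set_option autoImplicit false
set_option linter.style.haveILetI false

universe u v w

open TensorProduct IsLocalRing

namespace Groth.EGA43Topo.FlatDVRPoint

/-- The residue field of the target is integral over that of the source. -/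
def IntegralResidue {C R : Type u} [CommRing C] [CommRing R] [IsLocalRing R] (φ : C →+* R) : Prop :=
  ∀ r : R, ∃ p : Polynomial C, p.Monic ∧ Polynomial.eval₂ φ r p ∈ maximalIdeal R

/-- A prime avoiding `x` with one-dimensional quotient. -/
theorem exists_prime_dim_one {C : Type u} [CommRing C] [IsLocalRing C] [IsNoetherianRing C]
    (P : Ideal C) [P.IsPrime] {x : C} (hxm : x ∈ maximalIdeal C) (hx : x ∉ P) :
    ∃ Q : Ideal C, Q.IsPrime ∧ x ∉ Q ∧ Ring.KrullDimLE 1 (C ⧸ Q) ∧ ¬ IsField (C ⧸ Q) := by
  classical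
  obtain ⟨Q, ⟨hQ, hxQ⟩, hmax⟩ := set_has_maximal_iff_noetherian.mpr (inferInstance : IsNoetherianRing C)
    {Q : Ideal C | Q.IsPrime ∧ x ∉ Q} ⟨P, inferInstance, hx⟩
  haveI := hQ
  haveI : IsLocalRing (C ⧸ Q) := .of_surjective' _ Ideal.Quotient.mk_surjective
  let xb := Ideal.Quotient.mk Q x
  have hxb : xb ≠ 0 := fun h => hxQ (Ideal.Quotient.eq_zero_iff_mem.mp h)
  have hall : ∀ J : Ideal (C ⧸ Q), J.IsPrime → J ≠ ⊥ → xb ∈ J := by
    intro J hJ hJ0
    by_contra hxJ
    refine hmax (J.comap (Ideal.Quotient.mk Q)) ⟨inferInstance, hxJ⟩ (lt_of_le_not_ge ?_ ?_)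
    · intro c hc
      show Ideal.Quotient.mk Q c ∈ J
      rw [Ideal.Quotient.eq_zero_iff_mem.mpr hc]
      exact J.zero_mem
    · intro hle
      refine hJ0 (eq_bot_iff.2 fun b hb => ?_)
      obtain ⟨c, rfl⟩ := Ideal.Quotient.mk_surjective b
      exact Ideal.Quotient.eq_zero_iff_mem.mpr (hle hb)
  have hxmb : xb ∈ maximalIdeal (C ⧸ Q) := by
    haveI : IsLocalHom (Ideal.Quotient.mk Q) := .of_surjective _ Ideal.Quotient.mk_surjective
    exact fun hu => hxm (isUnit_of_map_unit (Ideal.Quotient.mk Q) x hu)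
  have hfld : ¬ IsField (C ⧸ Q) := fun hf => hxb (by
    have := isField_iff_maximalIdeal_eq.1 hf
    rw [this] at hxmb
    exact hxmb)
  refine ⟨Q, hQ, hxQ, ?_, hfld⟩
  let S := ((Ideal.span {xb}).finite_minimalPrimes_of_isNoetherianRing).toFinset
  have hcov : (maximalIdeal (C ⧸ Q) : Set (C ⧸ Q)) ⊆ ⋃ i ∈ (↑S : Set (Ideal (C ⧸ Q))), (i : Set (C ⧸ Q)) := by
    intro b hb
    by_cases hb0 : b = 0
    · obtain ⟨J, hJ, -⟩ := Ideal.exists_minimalPrimes_le ((Ideal.span_singleton_le_iff_mem _).2 hxmb)
      exact Set.mem_biUnion (Set.Finite.mem_toFinset _ |>.2 hJ) (hb0 ▸ J.zero_mem)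
    obtain ⟨J, hJ, -⟩ := Ideal.exists_minimalPrimes_le ((Ideal.span_singleton_le_iff_mem _).2 hb)
    haveI := hJ.1.1
    have hbJ : b ∈ J := hJ.1.2 (Ideal.mem_span_singleton_self b)
    have hxJ : xb ∈ J := hall J hJ.1.1 fun h0 => hb0 (by rw [h0] at hbJ; exact hbJ)
    obtain ⟨J', hJ', hJ'J⟩ := Ideal.exists_minimalPrimes_le ((Ideal.span_singleton_le_iff_mem _).2 hxJ)
    haveI := hJ'.1.1
    have hJ'0 : J' ≠ ⊥ := fun h0 => hxb (by
      have := hJ'.1.2 (Ideal.mem_span_singleton_self xb)
      rw [h0] at this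
      exact this)
    rcases hJ'J.eq_or_lt with heq | hlt
    · exact Set.mem_biUnion (Set.Finite.mem_toFinset _ |>.2 hJ') (heq ▸ hbJ)
    · exfalso
      have h1 := Ideal.height_le_one_of_isPrincipal_of_mem_minimalPrimes (Ideal.span {b}) J hJ
      have h2 := Ideal.height_strict_mono_of_isPrime hlt
      have h3 : J'.height = 0 := ENat.lt_one_iff_eq_zero.1 (h2.trans_le h1)
      rw [Ideal.height_eq_zero_iff, IsDomain.minimalPrimes_eq_singleton_bot] at h3
      exact hJ'0 h3
  obtain ⟨i, hi, hmi⟩ := (Ideal.subset_union_prime ⊥ ⊥ fun i hi _ _ => ((Set.Finite.mem_toFinset _).1 hi).1.1).1 hcov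
  have him := (Set.Finite.mem_toFinset _).1 hi
  have hie : i = maximalIdeal (C ⧸ Q) := le_antisymm (le_maximalIdeal him.1.1.ne_top) hmi
  haveI := him.1.1
  have h1 := Ideal.height_le_one_of_isPrincipal_of_mem_minimalPrimes (Ideal.span {xb}) i him
  rw [hie] at h1
  rw [Ring.krullDimLE_iff, ← IsLocalRing.maximalIdeal_height_eq_ringKrullDim]
  exact_mod_cast h1

/-- Elements of the localisation at a maximal ideal of an integral algebra are integral modulo the maximal ideal. -/
theorem integralResidue_atPrime {D B : Type u} [CommRing D] [CommRing B] [Algebra D B] [Algebra.IsIntegral D B]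
    (M : Ideal B) [hM : M.IsMaximal] (A : Type u) [CommRing A] [Algebra B A] [IsLocalization.AtPrime A M]
    [IsLocalRing A] : IntegralResidue ((algebraMap B A).comp (algebraMap D B)) := by
  intro a
  obtain ⟨c, ⟨s, hs⟩, rfl⟩ := IsLocalization.exists_mk'_eq M.primeCompl a
  obtain ⟨t, i, hi, hti⟩ := hM.exists_inv hs
  obtain ⟨p, hp, hpe⟩ := Algebra.IsIntegral.isIntegral (R := D) (c * t)
  refine ⟨p, hp, ?_⟩
  let a := IsLocalization.mk' A c (⟨s, hs⟩ : M.primeCompl)
  have hdiff : a - algebraMap B A (c * t) ∈ maximalIdeal A := by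
    have h1 : (a - algebraMap B A (c * t)) * algebraMap B A s ∈ maximalIdeal A := by
      rw [sub_mul, IsLocalization.mk'_spec, ← map_mul, ← map_sub,
        IsLocalization.AtPrime.to_map_mem_maximal_iff A M]
      rw [show c - c * t * s = c * i by linear_combination -c * hti]
      exact M.mul_mem_left _ hi
    exact ((maximalIdeal.isMaximal A).isPrime.mem_or_mem h1).resolve_right fun h2 =>
      hs ((IsLocalization.AtPrime.to_map_mem_maximal_iff A M s).1 h2)
  have h2 : Polynomial.eval₂ ((algebraMap B A).comp (algebraMap D B)) (algebraMap B A (c * t)) p = 0 := by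
    rw [← Polynomial.hom_eval₂, hpe, map_zero]
  obtain ⟨q, hq⟩ := Polynomial.sub_dvd_eval_sub a (algebraMap B A (c * t))
    (p.map ((algebraMap B A).comp (algebraMap D B)))
  rw [Polynomial.eval_map, Polynomial.eval_map, h2, sub_zero] at hq
  rw [hq]
  exact (maximalIdeal A).mul_mem_right q hdiff

/-- A one-dimensional Noetherian local domain is dominated by a DVR with integral residue extension. -/
theorem exists_dvr_integralResidue (D : Type u) [CommRing D] [IsDomain D] [IsNoetherianRing D]
    [IsLocalRing D] [Ring.KrullDimLE 1 D] (hD : ¬ IsField D) :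
    ∃ (A : Type u) (_ : CommRing A) (_ : IsDomain A) (_ : IsDiscreteValuationRing A)
      (φ : D →+* A), Function.Injective φ ∧ IsLocalHom φ ∧ IntegralResidue φ := by
  let K := FractionRing D
  let B := integralClosure D K
  haveI : IsDedekindDomain B := Groth.EGA43Val.isDedekindDomain_integralClosure D K K
  haveI : IsFractionRing B K := integralClosure.isFractionRing_of_finite_extension K K
  have hinj : Function.Injective (algebraMap D B) := fun a b h =>
    IsFractionRing.injective D K (congrArg Subtype.val h)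
  obtain ⟨M, hM, hMD⟩ := Ideal.exists_ideal_over_maximal_of_isIntegral (S := B) (maximalIdeal D)
    (by rw [(RingHom.injective_iff_ker_eq_bot _).1 hinj]; exact bot_le)
  have hM0 : M ≠ ⊥ := by
    rintro rfl
    rw [Ideal.comap_bot_of_injective _ hinj] at hMD
    exact hD (isField_iff_maximalIdeal_eq.2 hMD.symm)
  haveI := hM
  let A := Localization.AtPrime M
  haveI : IsDiscreteValuationRing A := IsLocalization.AtPrime.isDiscreteValuationRing_of_dedekind_domain B hM0 _
  refine ⟨A, inferInstance, inferInstance, inferInstance, (algebraMap B A).comp (algebraMap D B),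
    (IsLocalization.injective A M.primeCompl_le_nonZeroDivisors).comp hinj, ⟨fun r hr => ?_⟩, fun a => ?_⟩
  · rw [← IsLocalRing.notMem_maximalIdeal, ← hMD, Ideal.mem_comap]
    exact (IsLocalization.AtPrime.isUnit_to_map_iff A M _).1 hr
  exact integralResidue_atPrime M A a

open Groth.FlatMorOne Groth.Flatmor4

section Complete

variable {C : Type u} [CommRing C] [IsLocalRing C] [IsNoetherianRing C]
  [IsAdicComplete (maximalIdeal C) C]
variable {X : Type u} [AddCommGroup X] [Module C X]

/-- Some open ideal with flat quotient is contained in the nilradical plus a power of the maximal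
ideal. -/
theorem flat_quotient_nilradical_sup_pow
    (h : ∀ (R : Type u) [CommRing R] [IsDomain R] [IsDiscreteValuationRing R] [Algebra C R]
      [IsLocalHom (algebraMap C R)], IntegralResidue (algebraMap C R) → Module.Flat R (R ⊗[C] X)) (k : ℕ) :
    Module.Flat (C ⧸ (nilradical C ⊔ maximalIdeal C ^ k))
      ((C ⧸ (nilradical C ⊔ maximalIdeal C ^ k)) ⊗[C] X) := by
  classical
  let m := maximalIdeal C
  let F : Set (Ideal C) :=
    {I | I ≤ m ∧ (∃ j, m ^ j ≤ I) ∧ Module.Flat (C ⧸ I) ((C ⧸ I) ⊗[C] X)}
  have hne : F.Nonempty :=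
    ⟨m, le_rfl, ⟨1, (pow_one m).le⟩, by letI := Ideal.Quotient.field m; infer_instance⟩
  have hdir : DirectedOn (fun a b : Ideal C => b ≤ a) F := by
    rintro I ⟨hI, ⟨a, ha⟩, hfI⟩ J ⟨hJ, ⟨b, hb⟩, hfJ⟩
    refine ⟨I ⊓ J, ⟨inf_le_left.trans hI, ⟨max a b, le_inf
      ((Ideal.pow_le_pow_right (le_max_left a b)).trans ha)
      ((Ideal.pow_le_pow_right (le_max_right a b)).trans hb)⟩, ?_⟩, inf_le_left, inf_le_right⟩
    let D : Bool → Type u := fun t => C ⧸ (bif t then I else J)
    haveI : ∀ t, Module.Flat (D t) (D t ⊗[C] X) := fun t => by cases t <;> assumption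
    refine flat_quotient_of_family (k := max a b) (le_inf
      ((Ideal.pow_le_pow_right (le_max_left a b)).trans ha)
      ((Ideal.pow_le_pow_right (le_max_right a b)).trans hb)) (inf_le_left.trans hI) D fun c => ?_
    constructor
    · rintro ⟨h1, h2⟩ (_ | _)
      · exact Ideal.Quotient.eq_zero_iff_mem.mpr h2
      · exact Ideal.Quotient.eq_zero_iff_mem.mpr h1
    · intro hc
      exact ⟨Ideal.Quotient.eq_zero_iff_mem.mp (hc true), Ideal.Quotient.eq_zero_iff_mem.mp (hc false)⟩
  have hN : sInf F ≤ nilradical C := by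
    intro x hx
    rw [nilradical_eq_sInf, Submodule.mem_sInf]
    intro P hP
    haveI : Ideal.IsPrime P := hP
    by_contra hxP
    have hxm : x ∈ m := Submodule.mem_sInf.mp hx m
      ⟨le_rfl, ⟨1, (pow_one m).le⟩, by letI := Ideal.Quotient.field m; infer_instance⟩
    obtain ⟨Q, hQ, hxQ, hdim, hfld⟩ := exists_prime_dim_one P hxm hxP
    haveI : IsLocalRing (C ⧸ Q) := .of_surjective' _ Ideal.Quotient.mk_surjective
    haveI := hdim
    obtain ⟨R, _, _, _, φ, hinj, hloc, hres⟩ := exists_dvr_integralResidue (C ⧸ Q) hfld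
    letI : Algebra C R := (φ.comp (Ideal.Quotient.mk Q)).toAlgebra
    haveI := hloc
    haveI : IsLocalHom (Ideal.Quotient.mk Q) := .of_surjective _ Ideal.Quotient.mk_surjective
    haveI : IsLocalHom (algebraMap C R) :=
      inferInstanceAs (IsLocalHom (φ.comp (Ideal.Quotient.mk Q)))
    haveI := h R fun r => by
      obtain ⟨p, hp, hpe⟩ := hres r
      obtain ⟨p', hp', hdeg, hp'm⟩ := Polynomial.lifts_and_degree_eq_and_monic
        (f := Ideal.Quotient.mk Q) ((Polynomial.lifts_iff_coeff_lifts p).2 fun n => Ideal.Quotient.mk_surjective _) hp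
      refine ⟨p', hp'm, ?_⟩
      rw [← hp', Polynomial.eval₂_map] at hpe
      exact hpe
    have hx0 : algebraMap C R x ≠ 0 := fun e =>
      hxQ (Ideal.Quotient.eq_zero_iff_mem.mp (hinj (e.trans (map_zero φ).symm)))
    obtain ⟨j, hj⟩ : ∃ j, algebraMap C R x ∉ maximalIdeal R ^ j := by
      by_contra hall
      push Not at hall
      have h0 : algebraMap C R x ∈ ⨅ j, maximalIdeal R ^ j := Ideal.mem_iInf.mpr hall
      rw [Ideal.iInf_pow_eq_bot_of_isLocalRing _ (maximalIdeal.isMaximal R).ne_top] at h0
      exact hx0 h0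
    let I : Ideal C := (maximalIdeal R ^ (j + 1)).comap (algebraMap C R)
    have hIm : I ≤ m := fun c hc =>
      (IsLocalRing.maximalIdeal_comap (algebraMap C R)).le
        (Ideal.comap_mono (Ideal.pow_le_self j.succ_ne_zero) hc)
    have hmI : m ^ (j + 1) ≤ I := by
      rw [← Ideal.map_le_iff_le_comap, Ideal.map_pow]
      exact Ideal.pow_right_mono (Ideal.map_le_iff_le_comap.mpr
        (IsLocalRing.maximalIdeal_comap (algebraMap C R)).ge) _
    have hIF : I ∈ F := by
      refine ⟨hIm, ⟨j + 1, hmI⟩, ?_⟩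
      haveI : Module.Flat (R ⧸ maximalIdeal R ^ (j + 1)) ((R ⧸ maximalIdeal R ^ (j + 1)) ⊗[C] X) :=
        Module.Flat.of_linearEquiv (AlgebraTensorModule.cancelBaseChange C R
          (R ⧸ maximalIdeal R ^ (j + 1)) (R ⧸ maximalIdeal R ^ (j + 1)) X).symm
      exact flat_quotient_of_single hmI hIm (R ⧸ maximalIdeal R ^ (j + 1))
        fun c => (Ideal.Quotient.eq_zero_iff_mem (I := maximalIdeal R ^ (j + 1))).symm
    exact hj (Ideal.pow_le_pow_right j.le_succ (Submodule.mem_sInf.mp hx I hIF))
  obtain ⟨I, ⟨-, -, hfl⟩, hI⟩ := exists_mem_le_sup_pow F hne hdir (fun I hI => hI.2.1) k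
  exact flat_quotient_of_le (hI.trans (sup_le_sup_right hN _))

/-- The valuative criterion over a complete Noetherian local ring. -/
theorem flat_localizedModule_of_dvr {S : Type u} [CommRing S] [IsNoetherianRing S] [Algebra C S]
    [Module S X] [IsScalarTower C S X] [Module.Finite S X]
    {ι : Type w} [Finite ι] (D : ι → Type u) [∀ i, CommRing (D i)] [∀ i, Algebra C (D i)]
    (hD : ∀ c : C, (∀ i, algebraMap C (D i) c = 0) → c = 0)
    [∀ i, Module.Flat (D i) (D i ⊗[C] X)]
    (q : Ideal S) [q.IsPrime] (hq : (maximalIdeal C).map (algebraMap C S) ≤ q)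
    (h : ∀ (R : Type u) [CommRing R] [IsDomain R] [IsDiscreteValuationRing R] [Algebra C R]
      [IsLocalHom (algebraMap C R)], IntegralResidue (algebraMap C R) →
        Module.Flat R (R ⊗[C] LocalizedModule q.primeCompl X)) :
    Module.Flat C (LocalizedModule q.primeCompl X) := by
  let T := Localization.AtPrime q
  let Y := LocalizedModule q.primeCompl X
  let N := nilradical C
  haveI : ∀ i, Module.Flat (D i) (D i ⊗[C] Y) := fun i =>
    flat_baseChange_localizedModule q.primeCompl (D i)
  let J : Ideal T := N.map (algebraMap C T)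
  let Z := Y ⧸ (J • ⊤ : Submodule T Y)
  letI : Algebra (C ⧸ N) (T ⧸ J) :=
    (Ideal.quotientMap J (algebraMap C T) Ideal.le_comap_map).toAlgebra
  haveI : IsScalarTower C (C ⧸ N) (T ⧸ J) := IsScalarTower.of_algebraMap_eq fun _ => rfl
  letI : Module (C ⧸ N) Z := Module.compHom Z (algebraMap (C ⧸ N) (T ⧸ J))
  haveI : IsScalarTower (C ⧸ N) (T ⧸ J) Z := IsScalarTower.of_algebraMap_smul fun _ _ => rfl
  haveI : IsScalarTower C (C ⧸ N) Z := IsScalarTower.of_algebraMap_smul fun c z => by
    show (Ideal.Quotient.mk J (algebraMap C T c)) • z = c • z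
    obtain ⟨y, rfl⟩ := Submodule.Quotient.mk_surjective _ z
    exact congrArg Submodule.Quotient.mk (algebraMap_smul T c y)
  let e : (C ⧸ N) ⊗[C] Y ≃ₗ[C] Z :=
    (TensorProduct.quotTensorEquivQuotSMul Y N).trans
      ((Submodule.quotEquivOfEq _ ((J • ⊤ : Submodule T Y).restrictScalars C)
        (by rw [Ideal.smul_restrictScalars, Submodule.restrictScalars_top])).trans
        (Submodule.Quotient.restrictScalarsEquiv C (J • ⊤ : Submodule T Y)))
  let e' : (C ⧸ N) ⊗[C] Y ≃ₗ[C ⧸ N] Z :=
    e.extendScalarsOfSurjective Ideal.Quotient.mk_surjective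
  haveI : Module.Finite (T ⧸ J) Z := Module.Finite.of_restrictScalars_finite T (T ⧸ J) Z
  haveI : Module.Flat (C ⧸ N) Z := by
    refine flat_of_forall_flat_mod_pow (S := T ⧸ J)
      ((maximalIdeal C).map (Ideal.Quotient.mk N)) ?_ fun k _ K _ => ?_
    · haveI : Nontrivial (T ⧸ J) := Ideal.Quotient.nontrivial_iff.mpr (fun hJ => by
        have : J ≤ maximalIdeal T := by
          refine (Ideal.map_mono ?_).trans (map_le_maximalIdeal_of_le q hq)
          exact le_maximalIdeal (by simp [N, nilradical, Ideal.radical_eq_top])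
        exact (maximalIdeal.isMaximal T).ne_top (top_unique (hJ ▸ this)))
      haveI : IsLocalRing (T ⧸ J) := .of_surjective' _ Ideal.Quotient.mk_surjective
      haveI : IsLocalHom (Ideal.Quotient.mk J) := .of_surjective _ Ideal.Quotient.mk_surjective
      rw [IsLocalRing.jacobson_eq_maximalIdeal _ bot_ne_top, Ideal.map_map, RingHom.algebraMap_toAlgebra,
        Ideal.quotientMap_comp_mk, ← Ideal.map_map, Ideal.map_le_iff_le_comap,
        IsLocalRing.maximalIdeal_comap]
      exact map_le_maximalIdeal_of_le q hq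
    · haveI hfl : Module.Flat (C ⧸ (N ⊔ maximalIdeal C ^ k))
          ((C ⧸ (N ⊔ maximalIdeal C ^ k)) ⊗[C] Y) := flat_quotient_nilradical_sup_pow h k
      haveI : Module.Flat ((C ⧸ N) ⧸ (maximalIdeal C).map (Ideal.Quotient.mk N) ^ k)
          (((C ⧸ N) ⧸ (maximalIdeal C).map (Ideal.Quotient.mk N) ^ k) ⊗[C ⧸ N] Z) := by
        have hflat := Groth.EGA43Flat.flat_quotient_quotient (M := Y) (N ⊔ maximalIdeal C ^ k) N
          inferInstance
        have hmap : (N ⊔ maximalIdeal C ^ k).map (Ideal.Quotient.mk N) =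
            (maximalIdeal C).map (Ideal.Quotient.mk N) ^ k := by
          rw [Ideal.map_sup, Ideal.map_quotient_self, bot_sup_eq, Ideal.map_pow]
        rw [hmap] at hflat
        exact Module.Flat.of_linearEquiv (TensorProduct.AlgebraTensorModule.congr
          (LinearEquiv.refl _ _) e').symm
      exact injective_lTensor_of_flat_quotient _ K
  haveI : Module.Flat (C ⧸ N) ((C ⧸ N) ⊗[C] Y) := Module.Flat.of_linearEquiv e'
  exact Groth.EGA43Flat.flat_of_flat_quotient_of_finite_family
    ((IsNoetherianRing.isNilpotent_nilradical C)) D hD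
where
  map_le_maximalIdeal_of_le {C S : Type u} [CommRing C] [CommRing S] [Algebra C S] {I : Ideal C}
      (q : Ideal S) [q.IsPrime] (hq : I.map (algebraMap C S) ≤ q) :
      I.map (algebraMap C (Localization.AtPrime q)) ≤ maximalIdeal (Localization.AtPrime q) := by
    rw [IsScalarTower.algebraMap_eq C S (Localization.AtPrime q), ← Ideal.map_map]
    refine (Ideal.map_mono hq).trans ?_
    rw [Localization.AtPrime.map_eq_maximalIdeal]

end Complete

/-- Maximal ideals over the closed point of `R` contract to maximal ideals. -/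
theorem isMaximal_comap_includeRight {C R T : Type u} [CommRing C] [CommRing R] [IsLocalRing R] [CommRing T]
    [Algebra C R] [Algebra C T] (hres : IntegralResidue (algebraMap C R))
    (P : Ideal (R ⊗[C] T)) [P.IsMaximal] (hPR : maximalIdeal R ≤ P.comap (algebraMap R (R ⊗[C] T))) :
    (P.comap (Algebra.TensorProduct.includeRight (R := C) (A := R) (B := T)).toRingHom).IsMaximal := by
  let iT : T →+* R ⊗[C] T := (Algebra.TensorProduct.includeRight (R := C) (A := R) (B := T)).toRingHom
  let ι : T →+* (R ⊗[C] T) ⧸ P := (Ideal.Quotient.mk P).comp iT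
  haveI : (⊥ : Ideal ((R ⊗[C] T) ⧸ P)).IsMaximal := by
    rw [← Ideal.map_quotient_self P]
    exact Ideal.IsMaximal.map_of_surjective_of_ker_le Ideal.Quotient.mk_surjective (by rw [Ideal.mk_ker])
  letI := ι.toAlgebra
  haveI : Algebra.IsIntegral T ((R ⊗[C] T) ⧸ P) := ⟨fun z => by
    obtain ⟨z, rfl⟩ := Ideal.Quotient.mk_surjective z
    induction z using TensorProduct.induction_on with
    | zero => rw [map_zero]; exact isIntegral_zero
    | add z₁ z₂ h₁ h₂ => rw [map_add]; exact h₁.add h₂
    | tmul r t =>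
      rw [show r ⊗ₜ[C] t = algebraMap R (R ⊗[C] T) r * iT t by
        show r ⊗ₜ[C] t = (r ⊗ₜ[C] (1 : T)) * ((1 : R) ⊗ₜ[C] t)
        rw [Algebra.TensorProduct.tmul_mul_tmul, mul_one, one_mul], map_mul]
      refine IsIntegral.mul ?_ (isIntegral_algebraMap (x := t))
      obtain ⟨p, hp, hpe⟩ := hres r
      refine ⟨p.map (algebraMap C T), hp.map _, ?_⟩
      have h0 : Ideal.Quotient.mk P (algebraMap R (R ⊗[C] T) (Polynomial.eval₂ (algebraMap C R) r p)) = 0 :=
        Ideal.Quotient.eq_zero_iff_mem.mpr (hPR hpe)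
      rw [Polynomial.hom_eval₂, Polynomial.hom_eval₂] at h0
      rw [Polynomial.eval₂_map]
      refine Eq.trans (congrArg (fun φ => Polynomial.eval₂ φ _ p) (RingHom.ext fun c => ?_)) h0
      refine congrArg (Ideal.Quotient.mk P) ?_
      show (1 : R) ⊗ₜ[C] algebraMap C T c = algebraMap C R c ⊗ₜ[C] (1 : T)
      rw [Algebra.algebraMap_eq_smul_one c (A := R), Algebra.algebraMap_eq_smul_one c (A := T),
        TensorProduct.smul_tmul]⟩
  have h1 := Ideal.isMaximal_comap_of_isIntegral_of_isMaximal (R := T) (⊥ : Ideal ((R ⊗[C] T) ⧸ P))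
  rw [← RingHom.ker_eq_comap_bot, RingHom.algebraMap_toAlgebra, ← RingHom.comap_ker, Ideal.mk_ker] at h1
  exact h1

/-- Flatness over the discrete valuation ring of the base change of the local ring at `q`. -/
theorem flat_tensor_localization {A C R L : Type u} [CommRing A] [CommRing C] [CommRing R] [IsDomain R]
    [IsDiscreteValuationRing R] [CommRing L] [IsLocalRing L] [Algebra A C] [Algebra A R] [Algebra C R]
    [IsScalarTower A C R] [Algebra A L] (hres : IntegralResidue (algebraMap C R))
    (q : Ideal (C ⊗[A] L)) [q.IsPrime]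
    (hq : q.comap (Algebra.TensorProduct.includeRight (R := A) (A := C) (B := L)).toRingHom = maximalIdeal L)
    (h : ∀ (P : Ideal (R ⊗[A] L)) [P.IsPrime],
      P.comap (algebraMap R (R ⊗[A] L)) = maximalIdeal R →
      P.comap (Algebra.TensorProduct.includeRight (R := A) (A := R) (B := L)).toRingHom = maximalIdeal L →
      Module.Flat R (Localization.AtPrime P)) :
    Module.Flat R (R ⊗[C] Localization.AtPrime q) := by
  let e2 : R ⊗[C] (C ⊗[A] L) ≃ₐ[R] R ⊗[A] L := Algebra.TensorProduct.cancelBaseChange A C R R L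
  let μ : R ⊗[C] (C ⊗[A] L) →ₐ[R] R ⊗[C] Localization.AtPrime q :=
    Algebra.TensorProduct.map (AlgHom.id R R) (IsScalarTower.toAlgHom C (C ⊗[A] L) (Localization.AtPrime q))
  let θ : R ⊗[A] L →+* R ⊗[C] Localization.AtPrime q := μ.toRingHom.comp e2.symm.toAlgHom.toRingHom
  have hg : (IsScalarTower.toAlgHom C (C ⊗[A] L) (Localization.AtPrime q)).toRingHom.Flat :=
    RingHom.flat_algebraMap_iff.2 (IsLocalization.flat (Localization.AtPrime q) q.primeCompl)
  have hμ : μ.toRingHom.Flat := RingHom.Flat.tensorProductMap (RingHom.Flat.id R) hg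
  have hθ : θ.Flat := RingHom.Flat.comp (RingHom.Flat.of_bijective e2.symm.bijective) hμ
  have hθR : θ.comp (algebraMap R (R ⊗[A] L)) = algebraMap R (R ⊗[C] Localization.AtPrime q) :=
    (μ.comp e2.symm.toAlgHom).comp_algebraMap
  have hθL : ∀ l : L, θ ((1 : R) ⊗ₜ[A] l) =
      (1 : R) ⊗ₜ[C] algebraMap (C ⊗[A] L) (Localization.AtPrime q) ((1 : C) ⊗ₜ[A] l) := fun l => by
    show μ (e2.symm ((1 : R) ⊗ₜ[A] l)) = _
    rw [show e2.symm ((1 : R) ⊗ₜ[A] l) = (1 : R) ⊗ₜ[C] ((1 : C) ⊗ₜ[A] l) from
      Algebra.TensorProduct.cancelBaseChange_symm_tmul A C R R L 1 l]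
    rfl
  refine Module.flat_of_isLocalized_maximal (R := R) (S := R ⊗[C] Localization.AtPrime q)
    (M := R ⊗[C] Localization.AtPrime q) (fun P _ => Localization.AtPrime P)
    (fun P _ => Algebra.linearMap _ (Localization.AtPrime P)) fun P hP => ?_
  obtain ⟨π, hπ⟩ := IsDiscreteValuationRing.exists_irreducible R
  show Module.Flat R (Localization.AtPrime P)
  refine (RingHom.flat_algebraMap_iff (R := R) (S := Localization.AtPrime P)).mp ?_
  by_cases hc : algebraMap R (R ⊗[C] Localization.AtPrime q) π ∈ P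
  · have hPR : maximalIdeal R ≤ P.comap (algebraMap R (R ⊗[C] Localization.AtPrime q)) := by
      rw [(IsDiscreteValuationRing.irreducible_iff_uniformizer π).1 hπ, Ideal.span_le,
        Set.singleton_subset_iff]
      exact hc
    haveI : (P.comap θ).IsPrime := Ideal.IsPrime.comap _
    have hP2R : (P.comap θ).comap (algebraMap R (R ⊗[A] L)) = maximalIdeal R := by
      rw [Ideal.comap_comap, hθR]
      exact ((maximalIdeal.isMaximal R).eq_of_le (Ideal.comap_ne_top _ hP.ne_top) hPR).symm
    let iT : Localization.AtPrime q →+* R ⊗[C] Localization.AtPrime q :=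
      (Algebra.TensorProduct.includeRight (R := C) (A := R) (B := Localization.AtPrime q)).toRingHom
    have hPT : P.comap iT = maximalIdeal (Localization.AtPrime q) :=
      IsLocalRing.eq_maximalIdeal (isMaximal_comap_includeRight hres P hPR)
    have hP2L : (P.comap θ).comap (Algebra.TensorProduct.includeRight (R := A) (A := R) (B := L)).toRingHom = maximalIdeal L := by
      rw [← hq]
      ext l
      show θ ((1 : R) ⊗ₜ[A] l) ∈ P ↔ _
      rw [hθL]
      show algebraMap (C ⊗[A] L) (Localization.AtPrime q) ((1 : C) ⊗ₜ[A] l) ∈ P.comap iT ↔ _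
      rw [hPT, IsLocalization.AtPrime.to_map_mem_maximal_iff (Localization.AtPrime q) q]
      rfl
    have h1 : (algebraMap R (Localization.AtPrime (P.comap θ))).Flat :=
      RingHom.flat_algebraMap_iff.2 (h (P.comap θ) hP2R hP2L)
    convert RingHom.Flat.comp h1 (RingHom.Flat.localRingHom hθ P (P.comap θ) rfl) using 1
    refine RingHom.ext fun r => ?_
    refine Eq.trans ?_ (Localization.localRingHom_to_map (P.comap θ) P θ rfl (algebraMap R (R ⊗[A] L) r)).symm
    rw [IsScalarTower.algebraMap_apply R (R ⊗[C] Localization.AtPrime q) (Localization.AtPrime P)]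
    exact congrArg _ (congr_fun (congrArg DFunLike.coe hθR) r).symm
  · refine Groth.Ega43DVR.flat_of_regular _ hπ fun b hb => ?_
    have hunit : IsUnit (algebraMap R (Localization.AtPrime P) π) := by
      rw [IsScalarTower.algebraMap_apply R (R ⊗[C] Localization.AtPrime q) (Localization.AtPrime P)]
      exact IsLocalization.map_units (M := P.primeCompl) (Localization.AtPrime P) ⟨algebraMap R _ π, hc⟩
    exact hunit.mul_right_eq_zero.1 hb

/-- Over a reduced Noetherian local ring, a local essentially finite type algebra is flat as soon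
as it becomes flat over every dominating discrete valuation ring at the points over both closed points. -/
theorem flat_of_dvr_at (A : Type u) [CommRing A] [IsLocalRing A] [IsNoetherianRing A] [IsReduced A]
    (L : Type u) [CommRing L] [IsLocalRing L] [Algebra A L] [Algebra.EssFiniteType A L]
    [IsLocalHom (algebraMap A L)]
    (h : ∀ (R : Type u) [CommRing R] [IsDomain R] [IsDiscreteValuationRing R] [Algebra A R]
      [IsLocalHom (algebraMap A R)] (P : Ideal (R ⊗[A] L)) [P.IsPrime],
      P.comap (algebraMap R (R ⊗[A] L)) = maximalIdeal R →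
      P.comap (Algebra.TensorProduct.includeRight (R := A) (A := R) (B := L)).toRingHom = maximalIdeal L →
      Module.Flat R (Localization.AtPrime P)) : Module.Flat A L := by
  classical
  let C := AdicCompletion (IsLocalRing.maximalIdeal A) A
  haveI : IsNoetherianRing C :=
    Groth.Calg1.isNoetherianRing_adicCompletion _ (IsNoetherian.noetherian (IsLocalRing.maximalIdeal A))
  haveI : Module.Flat A C := inferInstance
  let S := C ⊗[A] L
  haveI : IsNoetherianRing S := Algebra.EssFiniteType.isNoetherianRing C S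
  have hmC : ∀ r ∈ IsLocalRing.maximalIdeal A, algebraMap A C r ∈ IsLocalRing.maximalIdeal C := fun r hr => by
    rw [AdicCompletion.maximalIdeal_eq_map]
    exact Ideal.mem_map_of_mem _ hr
  let ι := {P : Ideal A // P ∈ minimalPrimes A}
  haveI : Finite ι := (minimalPrimes.finite_of_isNoetherianRing A).to_subtype
  haveI hι : ∀ i : ι, i.1.IsPrime := fun i => i.2.1.1
  let K : ι → Type u := fun i => i.1.ResidueField
  let D : ι → Type u := fun i => C ⊗[A] K i
  haveI hflatD : ∀ i : ι, Module.Flat (D i) (D i ⊗[C] S) := by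
    intro i
    letI : Algebra (K i) (D i) := Algebra.TensorProduct.rightAlgebra
    haveI : IsScalarTower A (K i) (D i) := by
      refine IsScalarTower.of_algebraMap_eq (R := A) (S := K i) (A := D i) fun r => ?_
      show algebraMap A C r ⊗ₜ[A] (1 : K i) = (1 : C) ⊗ₜ[A] algebraMap A (K i) r
      rw [Algebra.algebraMap_eq_smul_one r (A := C), Algebra.algebraMap_eq_smul_one r (A := K i),
        TensorProduct.smul_tmul]
    exact Groth.EGA43Flat.flat_baseChange_square (A := A) (M := L) (K i) (D i) C inferInstance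
  letI : ∀ i : ι, Semiring (D i) := fun i => inferInstanceAs (Semiring (C ⊗[A] K i))
  haveI := Fintype.ofFinite ι
  have hD : ∀ c : C, (∀ i : ι, algebraMap C (D i) c = 0) → c = 0 := by
    intro c hc
    let f : A →ₗ[A] ∀ i, K i := LinearMap.pi fun i => Algebra.linearMap A (K i)
    have hf : Function.Injective f := by
      rw [injective_iff_map_eq_zero]
      intro r hr
      have hnil : r ∈ nilradical A := by
        rw [nilradical, ← Ideal.sInf_minimalPrimes, Submodule.mem_sInf]
        intro P hP
        haveI : Ideal.IsPrime P := hP.1.1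
        exact Ideal.algebraMap_residueField_eq_zero.mp (congrFun hr (⟨P, hP⟩ : ι))
      rwa [nilradical_eq_zero, Submodule.zero_eq_bot, Ideal.mem_bot] at hnil
    have h1 : f.lTensor C (c ⊗ₜ 1) = 0 := by
      apply (TensorProduct.piRight A A C K).injective
      rw [map_zero]
      funext i
      simp only [LinearMap.lTensor_tmul, TensorProduct.piRight_apply, Pi.zero_apply]
      show c ⊗ₜ[A] f 1 i = 0
      rw [show f 1 i = 1 from map_one (algebraMap A (K i))]
      exact hc i
    have h2 := Module.Flat.lTensor_preserves_injective_linearMap (M := C) f hf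
      (h1.trans (map_zero _).symm)
    simpa using congrArg (TensorProduct.rid A C) h2
  let kA := IsLocalRing.ResidueField A
  let kL := IsLocalRing.ResidueField L
  let gC : C →ₐ[A] kL :=
    { (IsLocalRing.ResidueField.map (algebraMap A L)).comp
        (AdicCompletion.evalOneₐ (IsLocalRing.maximalIdeal A)).toRingHom with
      commutes' := fun a => by
        show IsLocalRing.ResidueField.map (algebraMap A L)
          (AdicCompletion.evalOneₐ (IsLocalRing.maximalIdeal A) (algebraMap A C a)) = _
        rw [(AdicCompletion.evalOneₐ (IsLocalRing.maximalIdeal A)).commutes]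
        rfl }
  let φ : S →ₐ[A] kL :=
    Algebra.TensorProduct.lift gC (IsScalarTower.toAlgHom A L kL) fun _ _ => .all _ _
  let q' : Ideal S := RingHom.ker φ
  haveI : q'.IsPrime := RingHom.ker_isPrime φ
  have hmq' : (IsLocalRing.maximalIdeal C).map (algebraMap C S) ≤ q' := by
    rw [Ideal.map_le_iff_le_comap, AdicCompletion.maximalIdeal_eq_map, Ideal.map_le_iff_le_comap]
    intro r hr
    show φ (algebraMap A C r ⊗ₜ 1) = 0
    refine (Algebra.TensorProduct.lift_tmul _ _ _ _ _).trans ?_
    refine mul_eq_zero_of_left ?_ _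
    rw [gC.commutes, IsScalarTower.algebraMap_apply A L kL]
    exact (IsLocalRing.residue_eq_zero_iff _).mpr fun hu => hr (isUnit_of_map_unit _ _ hu)
  haveI hY : Module.Flat C (LocalizedModule q'.primeCompl S) :=
    flat_localizedModule_of_dvr D hD q' hmq' (by
      intro R _ _ _ _ _ hres
      letI : Algebra A R := ((algebraMap C R).comp (algebraMap A C)).toAlgebra
      haveI : IsScalarTower A C R := IsScalarTower.of_algebraMap_eq fun _ => rfl
      haveI : IsLocalHom (algebraMap A R) := ⟨fun a ha => by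
        by_contra hna
        have h2 : algebraMap A C a ∈ IsLocalRing.maximalIdeal C := hmC a hna
        exact h2 (isUnit_of_map_unit (algebraMap C R) _ ha)⟩
      exact flat_tensor_localization (C := C) (L := L) hres q' (Ideal.ext fun l => by
        show φ ((1 : C) ⊗ₜ[A] l) = 0 ↔ _
        rw [Algebra.TensorProduct.lift_tmul, map_one, one_mul]
        exact IsLocalRing.residue_eq_zero_iff l) (fun P _ => h R P))
  let T := Localization.AtPrime q'
  haveI : Module.Flat C T := hY
  haveI : Module.Flat A T := Module.Flat.trans A C T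
  letI : Algebra L S := Algebra.TensorProduct.rightAlgebra
  haveI : IsScalarTower A L S := IsScalarTower.of_algebraMap_eq fun a => by
    show algebraMap A C a ⊗ₜ[A] (1 : L) = (1 : C) ⊗ₜ[A] algebraMap A L a
    rw [Algebra.algebraMap_eq_smul_one a (A := C), Algebra.algebraMap_eq_smul_one a (A := L),
      TensorProduct.smul_tmul]
  haveI : Module.Flat L S := Module.Flat.of_linearEquiv (M := L ⊗[A] C)
    ({ (TensorProduct.comm A C L).toAddEquiv with
        map_smul' := fun b z => by
          induction z using TensorProduct.induction_on with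
          | zero => simp
          | add u v hu hv => simp_all [smul_add]
          | tmul c b' =>
            show TensorProduct.comm A C L (b • (c ⊗ₜ b' : C ⊗[A] L)) = b • (b' ⊗ₜ c)
            rw [Algebra.smul_def, Algebra.TensorProduct.right_algebraMap_apply,
              Algebra.TensorProduct.tmul_mul_tmul, one_mul, TensorProduct.comm_tmul,
              TensorProduct.smul_tmul', smul_eq_mul] } : S ≃ₗ[L] L ⊗[A] C)
  haveI : Module.Flat L T := Module.Flat.trans L S T
  haveI : IsLocalHom (algebraMap L T) := ⟨fun b hb => by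
    by_contra hnb
    have h0 : algebraMap L S b ∈ q' := by
      show φ ((1 : C) ⊗ₜ b) = 0
      refine (Algebra.TensorProduct.lift_tmul _ _ _ _ _).trans ?_
      exact mul_eq_zero_of_right _ ((IsLocalRing.residue_eq_zero_iff _).mpr hnb)
    rw [IsScalarTower.algebraMap_apply L S T] at hb
    exact (IsLocalization.AtPrime.to_map_mem_maximal_iff T q' _).mpr h0 hb⟩
  haveI : Module.FaithfullyFlat L T := Module.FaithfullyFlat.of_flat_of_isLocalHom (A := L) (B := T)
  exact Groth.EtaleAlgebra.flat_of_faithfullyFlat_target A L T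

open CategoryTheory CategoryTheory.Limits AlgebraicGeometry in
/-- **EGA IV 11.8.1** at a point, for schemes. -/
theorem flat_stalkMap_of_forall_dvr {X Y : Scheme.{u}} (f : X ⟶ Y) [LocallyOfFiniteType f] (x : X)
    [IsNoetherianRing (Y.presheaf.stalk (f.base x))] [_root_.IsReduced (Y.presheaf.stalk (f.base x))]
    (h : ∀ (A' : Type u) [CommRing A'] [IsDomain A'] [IsDiscreteValuationRing A']
        (φ : (Y.presheaf.stalk (f.base x) : Type u) →+* A') [IsLocalHom φ],
        ∀ x' : ↥(pullback f (Spec.map (CommRingCat.ofHom φ) ≫ Y.fromSpecStalk (f.base x))),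
          (pullback.fst f _).base x' = x →
          (pullback.snd f _).base x' = IsLocalRing.closedPoint A' →
          ((pullback.snd f (Spec.map (CommRingCat.ofHom φ) ≫ Y.fromSpecStalk (f.base x))).stalkMap x').hom.Flat) :
    (f.stalkMap x).hom.Flat := by
  let A := Y.presheaf.stalk (f.base x)
  let L := X.presheaf.stalk x
  letI : Algebra A L := (f.stalkMap x).hom.toAlgebra
  haveI : IsLocalHom (algebraMap A L) := inferInstanceAs (IsLocalHom (f.stalkMap x).hom)
  haveI : Algebra.EssFiniteType A L := by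
    obtain ⟨U, hU, hyU, -⟩ := exists_isAffineOpen_mem_and_subset (U := ⊤) (Set.mem_univ (f.base x))
    obtain ⟨V, hV, hxV, hVU⟩ := exists_isAffineOpen_mem_and_subset (U := f ⁻¹ᵁ U) hyU
    have e : V ≤ f ⁻¹ᵁ U := hVU
    letI := (f.appLE U V e).hom.toAlgebra
    letI := Y.presheaf.algebra_section_stalk ⟨f.base x, hyU⟩
    letI := X.presheaf.algebra_section_stalk ⟨x, hxV⟩
    haveI := hV.isLocalization_stalk ⟨x, hxV⟩
    letI : Algebra Γ(Y, U) L := ((algebraMap A L).comp (algebraMap Γ(Y, U) A)).toAlgebra
    haveI : IsScalarTower Γ(Y, U) A L := IsScalarTower.of_algebraMap_eq fun _ => rfl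
    haveI : IsScalarTower Γ(Y, U) Γ(X, V) L := IsScalarTower.of_algebraMap_eq fun r => by
      show (f.stalkMap x).hom ((Y.presheaf.germ U (f.base x) hyU).hom r) =
        (X.presheaf.germ V x hxV).hom ((f.appLE U V e).hom r)
      rw [← CommRingCat.comp_apply, Scheme.Hom.germ_stalkMap, ← CommRingCat.comp_apply,
        Scheme.Hom.appLE, Category.assoc, X.presheaf.germ_res]
    haveI : Algebra.FiniteType Γ(Y, U) Γ(X, V) := f.finiteType_appLE hU hV e
    haveI : Algebra.EssFiniteType Γ(X, V) L :=
      Algebra.EssFiniteType.of_isLocalization L (hV.primeIdealOf ⟨x, hxV⟩).asIdeal.primeCompl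
    haveI : Algebra.EssFiniteType Γ(Y, U) L := Algebra.EssFiniteType.comp Γ(Y, U) Γ(X, V) L
    exact Algebra.EssFiniteType.of_comp Γ(Y, U) A L
  refine RingHom.flat_algebraMap_iff.2 (flat_of_dvr_at A L fun R _ _ _ _ _ P hP hPR hPL => ?_)
  let inR : CommRingCat.of R ⟶ CommRingCat.of (TensorProduct A R L) :=
    CommRingCat.ofHom Algebra.TensorProduct.includeLeftRingHom
  obtain ⟨j, hj, hjR, _, _⟩ := Groth.EGA43Topo.FlatUnivOpen.exists_chart f x R
  let P' : Spec (CommRingCat.of (TensorProduct A R L)) := ⟨P, hP⟩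
  have hR : Spec.map inR = j ≫ pullback.snd f _ := hjR.symm
  have hc : (pullback.snd f _).base (j.base P') = IsLocalRing.closedPoint R :=
    (congrArg (fun m => m.base P') hjR).trans (PrimeSpectrum.ext hPR)
  have hx' : (pullback.fst f _).base (j.base P') = x := by
    refine (congrArg (fun m => m.base P') hj).trans ?_
    refine (congrArg (X.fromSpecStalk x).base ?_).trans Scheme.fromSpecStalk_closedPoint
    exact PrimeSpectrum.ext hPL
  have h1 := h R (algebraMap A R) (j.base P') hx' hc
  have h2 : ((j ≫ pullback.snd f _).stalkMap P').hom.Flat := by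
    rw [Scheme.Hom.stalkMap_comp]
    show ((j.stalkMap P').hom.comp ((pullback.snd f _).stalkMap (j.base P')).hom).Flat
    exact RingHom.Flat.comp h1 (Flat.stalkMap j P')
  rw [← hR] at h2
  have h3 : (Localization.localRingHom _ P'.asIdeal inR.hom rfl).Flat :=
    (RingHom.Flat.respectsIso.arrow_mk_iso_iff (Scheme.arrowStalkMapSpecIso inR P')).1 h2
  rw [← RingHom.flat_algebraMap_iff]
  have h4 : (algebraMap R (Localization.AtPrime (P'.asIdeal.comap inR.hom))).Flat :=
    RingHom.flat_algebraMap_iff.2 (IsLocalization.flat _ (P'.asIdeal.comap inR.hom).primeCompl)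
  convert RingHom.Flat.comp h4 h3 using 1
  exact RingHom.ext fun r => (Localization.localRingHom_to_map (P'.asIdeal.comap inR.hom) P'.asIdeal inR.hom rfl r).symm

end Groth.EGA43Topo.FlatDVRPoint
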