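import Groth.Agent.EGA43Topo.UnibranchWrapper
import Groth.Agent.EGA43Topo.DVRCriterion
import Groth.Agent.FibreDim.OpenFibre
import Groth.Agent.FibreDim.Equidim
import Groth.Agent.FibreDim.DimensionFormulaScheme

/-!
# Chevalley's criterion of universal openness at a geometrically unibranch point (EGA IV 14.4.1)
-/

universe u

set_option linter.style.haveILetI false

open CategoryTheory CategoryTheory.Limits AlgebraicGeometry Topology TensorProduct

namespace Groth.EGA43Topo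

variable {X Y : Scheme.{u}} (f : X ⟶ Y)

lemma comap_appLE_primeIdealOf {W : Y.Opens} (hW : IsAffineOpen W) {U : X.Opens} (hU : IsAffineOpen U)
    (e : U ≤ f ⁻¹ᵁ W) {x : X} (hx : x ∈ U) :
    PrimeSpectrum.comap (f.appLE W U e).hom (hU.primeIdealOf ⟨x, hx⟩) =
      hW.primeIdealOf ⟨f.base x, e hx⟩ := by
  refine hW.fromSpec.isOpenEmbedding.injective ?_
  rw [hW.fromSpec_primeIdealOf]
  show hW.fromSpec.base ((Spec.map (f.appLE W U e)).base _) = _
  rw [← Scheme.Hom.comp_apply, hW.SpecMap_appLE_fromSpec f hU e, Scheme.Hom.comp_apply, hU.fromSpec_primeIdealOf]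

variable [LocallyOfFiniteType f]

/-- Chevalley's criterion, transcendence degree form. -/
theorem isUnivOpenAt_of_relTrdeg_le [IsLocallyNoetherian Y] {z ξ : X}
    (hz : ∀ z', f.base z' = f.base z → z' ⤳ z → z' = z)
    (hy : CAlg2.IsGeomUnibranch (Y.presheaf.stalk (f.base z))) (hξz : ξ ⤳ z) (hfξ : IsMax (f.base ξ))
    (hdim : Groth.Variety2.Dim.relTrdeg f z ≤ Groth.Variety2.Dim.relTrdeg f ξ) :
    EGA43.IsUnivOpenAt f z := by
  refine isUnivOpenAt_of_dvr f z fun V _ _ _ g hg x' hx' hx'c => ?_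
  obtain ⟨_, ⟨W, hW, rfl⟩, hyW, -⟩ :=
    Y.isBasis_affineOpens.exists_subset_of_mem_open (Set.mem_univ (f.base z)) isOpen_univ
  obtain ⟨_, ⟨U, hU, rfl⟩, hzU, e⟩ := X.isBasis_affineOpens.exists_subset_of_mem_open
    (show z ∈ f.base ⁻¹' W from hyW) (W.isOpen.preimage f.continuous)
  replace hW : IsAffineOpen W := hW
  replace hU : IsAffineOpen U := hU
  have hξU : ξ ∈ U := hξz.mem_open U.isOpen hzU
  have hgW : Set.range g.base ⊆ Set.range hW.fromSpec.base := by
    rintro _ ⟨v, rfl⟩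
    rw [hW.range_fromSpec]
    refine ((?_ : v ⤳ IsLocalRing.closedPoint V).map g.continuous).mem_open W.isOpen
      (show g.base (IsLocalRing.closedPoint V) ∈ W from hg ▸ hyW)
    exact (PrimeSpectrum.le_iff_specializes v _).1 (IsLocalRing.le_maximalIdeal v.2.ne_top)
  obtain ⟨φ, hφ⟩ := Spec.map_surjective (IsOpenImmersion.lift hW.fromSpec g hgW)
  have hφg : Spec.map φ ≫ hW.fromSpec = g := by rw [hφ, IsOpenImmersion.lift_fac]
  letI algV : Algebra Γ(Y, W) V := φ.hom.toAlgebra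
  obtain ⟨θ, hθ, hθ₁, hθ₂, hθr⟩ := exists_chart f g hW hU e V (𝟙 _)
    (by rw [Category.id_comp]; exact hφg.symm)
  letI := (f.appLE W U e).hom.toAlgebra
  haveI : Algebra.FiniteType Γ(Y, W) Γ(X, U) :=
    RingHom.finiteType_algebraMap.1 (f.finiteType_appLE hW hU e)
  obtain ⟨Q₀, rfl⟩ : x' ∈ Set.range θ.base := by
    rw [hθr]
    exact ⟨(show (pullback.fst f g).base x' ∈ U from hx'.symm ▸ hzU), ⟨_, rfl⟩⟩
  rw [hθ₁] at hx'
  rw [hθ₂] at hx'c
  haveI := Q₀.isPrime
  let p := hW.primeIdealOf ⟨f.base z, e hzU⟩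
  let n := hU.primeIdealOf ⟨z, hzU⟩
  let q := hW.primeIdealOf ⟨f.base ξ, e hξU⟩
  let P := hU.primeIdealOf ⟨ξ, hξU⟩
  haveI hnp : n.asIdeal.LiesOver p.asIdeal :=
    ⟨(congrArg PrimeSpectrum.asIdeal (comap_appLE_primeIdealOf f hW hU e hzU)).symm⟩
  haveI hPq : P.asIdeal.LiesOver q.asIdeal :=
    ⟨(congrArg PrimeSpectrum.asIdeal (comap_appLE_primeIdealOf f hW hU e hξU)).symm⟩
  have hPn : P.asIdeal ≤ n.asIdeal := (PrimeSpectrum.le_iff_specializes P n).2
    (hU.fromSpec.isOpenEmbedding.toIsInducing.specializes_iff.1 (by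
      rw [hU.fromSpec_primeIdealOf, hU.fromSpec_primeIdealOf]; exact hξz))
  have hmax : ∀ n' : Ideal Γ(X, U), n'.IsPrime → n' ≤ n.asIdeal →
      n'.comap (algebraMap Γ(Y, W) Γ(X, U)) = p.asIdeal → n' = n.asIdeal := fun n' hn' hle he => by
    let w : X := hU.fromSpec.base ⟨n', hn'⟩
    have hwz : w ⤳ z := by
      have := ((PrimeSpectrum.le_iff_specializes ⟨n', hn'⟩ n).1 hle).map hU.fromSpec.continuous
      rwa [hU.fromSpec_primeIdealOf] at this
    have hfw : f.base w = f.base z := by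
      rw [← Scheme.Hom.comp_apply, ← hW.SpecMap_appLE_fromSpec f hU e, Scheme.Hom.comp_apply]
      exact (congrArg _ (PrimeSpectrum.ext he : _ = p)).trans (hW.fromSpec_primeIdealOf ⟨f.base z, e hzU⟩)
    exact congrArg PrimeSpectrum.asIdeal (hU.fromSpec.isOpenEmbedding.injective
      ((hz w hfw hwz).trans (hU.fromSpec_primeIdealOf ⟨z, hzU⟩).symm))
  have hq : q.asIdeal ∈ minimalPrimes Γ(Y, W) := by
    refine ⟨⟨q.isPrime, bot_le⟩, fun q' hq' hle => ?_⟩
    have hwξ : hW.fromSpec.base ⟨q', hq'.1⟩ ⤳ f.base ξ := by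
      have := ((PrimeSpectrum.le_iff_specializes ⟨q', hq'.1⟩ q).1 hle).map hW.fromSpec.continuous
      rwa [hW.fromSpec_primeIdealOf] at this
    have h2 : (⟨q', hq'.1⟩ : PrimeSpectrum _) = q := hW.fromSpec.isOpenEmbedding.injective
      ((hwξ.antisymm (hfξ hwξ)).eq.trans (hW.fromSpec_primeIdealOf ⟨f.base ξ, e hξU⟩).symm)
    exact (congrArg PrimeSpectrum.asIdeal h2).ge
  obtain ⟨d, hd, -⟩ := Groth.FibreDim.exists_relTrdeg_eq_height f z
  letI : Algebra Γ(Y, W) (Y.presheaf.stalk (f.base z)) :=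
    Y.presheaf.algebra_section_stalk (⟨f.base z, e hzU⟩ : W)
  haveI : IsLocalization.AtPrime (Y.presheaf.stalk (f.base z)) p.asIdeal :=
    hW.isLocalization_stalk ⟨f.base z, e hzU⟩
  have hV : (IsLocalRing.maximalIdeal V).comap (algebraMap Γ(Y, W) V) = p.asIdeal := by
    refine congrArg PrimeSpectrum.asIdeal (hW.fromSpec.isOpenEmbedding.injective
      (a₁ := (Spec.map φ).base (IsLocalRing.closedPoint V)) (a₂ := p) ?_)
    rw [← Scheme.Hom.comp_apply, hφg, hg, hW.fromSpec_primeIdealOf]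
  obtain ⟨Q', hQ', hle, hbot⟩ := exists_generalizing_over_prime p.asIdeal (Y.presheaf.stalk (f.base z)) hy
    n.asIdeal hmax q.asIdeal hq P.asIdeal hPn d
    ((Groth.FibreDim.relTrdeg_eq_trdeg_quotient f hW hU e hzU).trans hd)
    (by rw [Groth.FibreDim.relTrdeg_eq_trdeg_quotient f hW hU e hξU, ← hd]; exact hdim)
    hV Q₀.asIdeal (congrArg PrimeSpectrum.asIdeal hx'c)
    (congrArg PrimeSpectrum.asIdeal (hU.fromSpec.isOpenEmbedding.injective
      (hx'.trans (hU.fromSpec_primeIdealOf ⟨z, hzU⟩).symm)))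
  refine ⟨θ.base ⟨Q', hQ'⟩,
    ((PrimeSpectrum.le_iff_specializes ⟨Q', hQ'⟩ Q₀).1 hle).map θ.continuous, fun hc => ?_⟩
  rw [hθ₂] at hc
  exact IsDiscreteValuationRing.not_a_field V
    ((congrArg PrimeSpectrum.asIdeal hc).symm.trans hbot)

/-- **Chevalley's criterion** (EGA IV 14.4.1): if some component through a point `z`, maximal in its
fibre, dominates a component of `Y` with at least the same dimension of generic fibre, and `f z` is
geometrically unibranch, then `f` is universally open at `z`. -/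
theorem isUnivOpenAt_of_component [IsLocallyNoetherian Y] {z ξ : X}
    (hz : ∀ z', f.base z' = f.base z → z' ⤳ z → z' = z)
    (hy : CAlg2.IsGeomUnibranch (Y.presheaf.stalk (f.base z))) (hξz : ξ ⤳ z) (hfξ : IsMax (f.base ξ))
    (hξ : ∀ w, f.base w = f.base ξ → w ⤳ ξ → w = ξ)
    (hdim : FlatMor.fibreDimAt f z ≤ FlatMor.fibreDimAt f ξ) :
    EGA43.IsUnivOpenAt f z := by
  refine isUnivOpenAt_of_relTrdeg_le f hz hy hξz hfξ ?_
  obtain ⟨a, ha, ha'⟩ := Groth.FibreDim.exists_relTrdeg_eq_height f z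
  obtain ⟨b, hb, hb'⟩ := Groth.FibreDim.exists_relTrdeg_eq_height f ξ
  rw [(Groth.FibreDim.fibreDimAt_eq_height_of_max f hz).1, ha',
    (Groth.FibreDim.fibreDimAt_eq_height_of_max f hξ).1, hb'] at hdim
  rw [ha, hb]
  exact_mod_cast hdim

end Groth.EGA43Topo
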