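import Groth.Agent.EGA43Topo.QuasiSectionAlg
import Groth.Agent.EGA43Topo.UnibranchScheme
import Groth.Agent.EGA43Topo.UnivOpenFibre
import Groth.Agent.DescentBase.UnivOpenField

/-!
# Quasi-sections (EGA IV 14.5.3) and universal openness at closed points of fibres
-/

universe u

set_option linter.style.haveILetI false

open CategoryTheory CategoryTheory.Limits AlgebraicGeometry TopologicalSpace Topology

namespace Groth.EGA43Topo

open Groth.FibreDim

variable {X Y : Scheme.{u}} (f : X ⟶ Y) [LocallyOfFiniteType f]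

/-- An affine chart inside the locus of fibre dimension `≤ D` has fibre rings of dimension `≤ D`. -/
lemma ringKrullDim_fiber_le_of_fibreDimAt_le {W : Y.Opens} (hW : IsAffineOpen W) {U : X.Opens}
    (hU : IsAffineOpen U) (e : U ≤ f ⁻¹ᵁ W) (D : ℕ) (h : ∀ x ∈ U, FlatMor.fibreDimAt f x ≤ D)
    (p : PrimeSpectrum Γ(Y, W)) :
    letI := (f.appLE W U e).hom.toAlgebra
    ringKrullDim (p.asIdeal.Fiber Γ(X, U)) ≤ D := by
  refine (ringKrullDim_fiber_le f hW hU e p).trans ?_
  let y := hW.fromSpec.base p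
  letI : (f.fiber y).Over (Spec (Y.residueField y)) := ⟨f.fiberToSpecResidueField y⟩
  haveI : LocallyOfFiniteType (f.fiber y ↘ Spec (CommRingCat.of (Y.residueField y))) :=
    inferInstanceAs (LocallyOfFiniteType (pullback.snd f (Y.fromSpecResidueField y)))
  haveI : LocallyOfFiniteType (f.fiberToSpecResidueField y) :=
    inferInstanceAs (LocallyOfFiniteType (pullback.snd f (Y.fromSpecResidueField y)))
  refine le_of_eq_of_le (Groth.VarietyBC.dim_opens_eq_iSup (Y.residueField y) ((f.fiberι y) ⁻¹ᵁ U))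
    (iSup_le fun z => ?_)
  refine le_trans ?_ (h ((f.fiberι y).base z.1) z.2)
  rw [fibreDimAt_fiberι]
  exact height_le_localDim (k := Y.residueField y) (f.fiberToSpecResidueField y) z.1

/-- **Quasi-sections** (EGA IV 14.5.3): a point closed in its fibre, at which some point maximal in
its fibre and generizing it reaches the fibre dimension, lies on a quasi-finite irreducible
subscheme meeting that fibre. -/
theorem exists_quasiSection [IsLocallyNoetherian Y] {x ξ : X}
    (hclosed : ∀ x', f.base x' = f.base x → x ⤳ x' → x' = x) (hξx : ξ ⤳ x)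
    (hξ : ∀ w, f.base w = f.base ξ → w ⤳ ξ → w = ξ)
    (hdim : FlatMor.fibreDimAt f x ≤ FlatMor.fibreDimAt f ξ) :
    ∃ (T : Scheme.{u}) (i : T ⟶ X), IsImmersion i ∧ IsIntegral T ∧ x ∈ Set.range i.base ∧
      LocallyOfFiniteType (i ≫ f) ∧ LocallyQuasiFinite (i ≫ f) ∧ QuasiCompact (i ≫ f) ∧
      f.base ξ ∈ Set.range (i ≫ f).base := by
  obtain ⟨D, hD₁, hD₂⟩ := exists_relTrdeg_eq_height f ξ
  rw [(fibreDimAt_eq_height_of_max f hξ).1, hD₂] at hdim
  obtain ⟨W, hW, hyW, -⟩ := exists_isAffineOpen_mem_and_subset (U := ⊤) (Set.mem_univ (f.base x))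
  let O : X.Opens := ⟨{a | FlatMor.fibreDimAt f a ≤ (D : WithBot ℕ∞)}, isOpen_fibreDimAt_le f D⟩
  obtain ⟨U, hU, hxU, hUO⟩ := exists_isAffineOpen_mem_and_subset (U := f ⁻¹ᵁ W ⊓ O) (x := x)
    ⟨hyW, hdim⟩
  have e : U ≤ f ⁻¹ᵁ W := fun a ha => (hUO ha).1
  have hξU : ξ ∈ U := hξx.mem_open U.isOpen hxU
  letI := (f.appLE W U e).hom.toAlgebra
  haveI : Algebra.FiniteType Γ(Y, W) Γ(X, U) :=
    RingHom.finiteType_algebraMap.1 (f.finiteType_appLE hW hU e)
  let p := hW.primeIdealOf ⟨f.base x, e hxU⟩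
  let n := hU.primeIdealOf ⟨x, hxU⟩
  let q := hW.primeIdealOf ⟨f.base ξ, e hξU⟩
  let P := hU.primeIdealOf ⟨ξ, hξU⟩
  haveI : n.asIdeal.LiesOver p.asIdeal :=
    ⟨(congrArg PrimeSpectrum.asIdeal (comap_appLE_primeIdealOf f hW hU e hxU)).symm⟩
  haveI : P.asIdeal.LiesOver q.asIdeal :=
    ⟨(congrArg PrimeSpectrum.asIdeal (comap_appLE_primeIdealOf f hW hU e hξU)).symm⟩
  have hPn : P.asIdeal ≤ n.asIdeal := (PrimeSpectrum.le_iff_specializes P n).2
    (hU.fromSpec.isOpenEmbedding.toIsInducing.specializes_iff.1 (by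
      rw [hU.fromSpec_primeIdealOf, hU.fromSpec_primeIdealOf]; exact hξx))
  have hfrom : ∀ a, f.base (hU.fromSpec.base a) =
      hW.fromSpec.base (PrimeSpectrum.comap (algebraMap Γ(Y, W) Γ(X, U)) a) := fun a => by
    rw [← Scheme.Hom.comp_apply, ← hW.SpecMap_appLE_fromSpec f hU e]
    rfl
  have hcl : ∀ n' : Ideal Γ(X, U), n'.IsPrime → n.asIdeal ≤ n' →
      n'.comap (algebraMap Γ(Y, W) Γ(X, U)) = p.asIdeal → n' = n.asIdeal := fun n' hn' hle he => by
    have h1 : x ⤳ hU.fromSpec.base ⟨n', hn'⟩ := by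
      have := ((PrimeSpectrum.le_iff_specializes n ⟨n', hn'⟩).1 hle).map hU.fromSpec.continuous
      rwa [hU.fromSpec_primeIdealOf] at this
    have h2 : f.base (hU.fromSpec.base ⟨n', hn'⟩) = f.base x := by
      rw [hfrom, show PrimeSpectrum.comap (algebraMap Γ(Y, W) Γ(X, U)) ⟨n', hn'⟩ = p from PrimeSpectrum.ext he,
        hW.fromSpec_primeIdealOf]
    exact congrArg PrimeSpectrum.asIdeal (hU.fromSpec.isOpenEmbedding.injective
      ((hclosed _ h2 h1).trans (hU.fromSpec_primeIdealOf ⟨x, hxU⟩).symm))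
  obtain ⟨s, t, hs, ht, hqf⟩ := exists_params_of_closed_point p.asIdeal n.asIdeal hcl D
    (ringKrullDim_fiber_le_of_fibreDimAt_le f hW hU e D (fun a ha => (hUO ha).2) p)
  let R := Γ(Y, W)
  let T := MvPolynomial (Fin s) R
  letI algTS : Algebra T Γ(X, U) := (MvPolynomial.aeval (R := R) t).toRingHom.toAlgebra
  haveI : IsScalarTower R T Γ(X, U) :=
    IsScalarTower.of_algebraMap_eq fun a => ((MvPolynomial.aeval t).commutes a).symm
  haveI : Algebra.FiniteType T Γ(X, U) := .of_restrictScalars_finiteType R _ _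
  haveI : Algebra.QuasiFiniteAt T n.asIdeal := hqf
  obtain ⟨_, ⟨r, rfl⟩, hnr, hr⟩ := PrimeSpectrum.isTopologicalBasis_basic_opens.exists_subset_of_mem_open
    (hqf : n ∈ {q : PrimeSpectrum Γ(X, U) | Algebra.QuasiFiniteAt T q.asIdeal})
    (Groth.FibreDim.isOpen_setOf_quasiFiniteAt T _)
  replace hnr : r ∉ n.asIdeal := hnr
  have hind : ∀ g : T, MvPolynomial.aeval t g ∈ P.asIdeal ↔ ∀ m, g.coeff m ∈ q.asIdeal := by
    refine mem_iff_of_algebraicIndependent q.asIdeal P.asIdeal t
      (algebraicIndependent_of_quasiFiniteAt q.asIdeal P.asIdeal t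
        (Algebra.QuasiFiniteAt.of_le hPn) ?_)
    rw [Groth.FibreDim.relTrdeg_eq_trdeg_quotient f hW hU e hξU, hD₁]
    exact Nat.cast_le.2 hs
  obtain ⟨Q, hQ, hPQ, hQn, htQ, hQq⟩ :=
    exists_prime_over_params q.asIdeal P.asIdeal t hind n.asIdeal hPn ht r hnr fun m hm => hr (a := m) hm
  let B := Localization.Away r
  haveI : Algebra.FiniteType Γ(X, U) B := IsLocalization.finiteType_of_monoid_fg (Submonoid.powers r) _
  have hdis : Disjoint (Submonoid.powers r : Set Γ(X, U)) Q := Set.disjoint_left.2 fun a ha h => by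
    obtain ⟨k, rfl⟩ := ha
    exact hnr (hQn (hQ.mem_of_pow_mem k h))
  haveI : (Q.map (algebraMap Γ(X, U) B)).IsPrime :=
    IsLocalization.isPrime_of_isPrime_disjoint (Submonoid.powers r) B _ hQ hdis
  have hQc : (Q.map (algebraMap Γ(X, U) B)).comap (algebraMap Γ(X, U) B) = Q :=
    IsLocalization.under_map_of_isPrime_disjoint (Submonoid.powers r) B hQ hdis
  let A := B ⧸ Q.map (algebraMap Γ(X, U) B)
  let π : Γ(X, U) →+* A := (Ideal.Quotient.mk _).comp (algebraMap Γ(X, U) B)
  let i₁ : Spec (CommRingCat.of A) ⟶ Spec (CommRingCat.of B) := Spec.map (CommRingCat.ofHom (Ideal.Quotient.mk _))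
  let i₂ : Spec (CommRingCat.of B) ⟶ Spec Γ(X, U) := Spec.map (CommRingCat.ofHom (algebraMap Γ(X, U) B))
  haveI : IsClosedImmersion i₁ := IsClosedImmersion.spec_of_surjective _ Ideal.Quotient.mk_surjective
  haveI : IsOpenImmersion i₂ := IsOpenImmersion.of_isLocalization r
  let i := i₁ ≫ i₂ ≫ hU.fromSpec
  have hker : RingHom.ker π = Q := by rw [← RingHom.comap_ker, Ideal.mk_ker, hQc]
  have hpre : ∀ (a : PrimeSpectrum Γ(X, U)), Q ≤ a.asIdeal → r ∉ a.asIdeal →
      hU.fromSpec.base a ∈ Set.range i.base := fun a ha hra => by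
    obtain ⟨b, hb⟩ : a ∈ Set.range (PrimeSpectrum.comap (algebraMap Γ(X, U) B)) :=
      (PrimeSpectrum.localization_away_comap_range B r).ge hra
    have hb' : Q.map (algebraMap Γ(X, U) B) ≤ b.asIdeal := by
      rw [Ideal.map_le_iff_le_comap]
      exact ha.trans (congrArg PrimeSpectrum.asIdeal hb).ge
    obtain ⟨c, hc⟩ : b ∈ Set.range (PrimeSpectrum.comap (Ideal.Quotient.mk (Q.map (algebraMap Γ(X, U) B)))) := by
      rw [range_comap_of_surjective _ _ Ideal.Quotient.mk_surjective, Ideal.mk_ker]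
      exact hb'
    refine ⟨c, ?_⟩
    exact congrArg hU.fromSpec.base ((congrArg (PrimeSpectrum.comap (algebraMap Γ(X, U) B)) hc).trans hb)
  refine ⟨_, i, inferInstance, inferInstance, ?_, ?_, ?_, ?_, ?_⟩
  · have h1 := hpre n hQn hnr
    rwa [hU.fromSpec_primeIdealOf ⟨x, hxU⟩] at h1
  · infer_instance
  · have heq : i ≫ f = Spec.map (CommRingCat.ofHom (π.comp (algebraMap Γ(Y, W) Γ(X, U)))) ≫ hW.fromSpec := by
      simp only [i, Category.assoc, ← hW.SpecMap_appLE_fromSpec f hU e, i₁, i₂, ← Spec.map_comp_assoc]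
      rfl
    rw [heq]
    have hQF : (π.comp (algebraMap Γ(Y, W) Γ(X, U))).QuasiFinite := by
      letI algTA : Algebra T A := (π.comp (algebraMap T Γ(X, U))).toAlgebra
      letI algRA : Algebra R A := (π.comp (algebraMap R Γ(X, U))).toAlgebra
      show Algebra.QuasiFinite R A
      let φ : Γ(X, U) →ₐ[T] A := { π with commutes' := fun _ => rfl }
      haveI : Algebra.FiniteType T A := by
        refine RingHom.finiteType_algebraMap.1 (RingHom.FiniteType.comp ?_ (RingHom.finiteType_algebraMap.2 ‹_›))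
        exact RingHom.FiniteType.comp (RingHom.FiniteType.of_surjective _ Ideal.Quotient.mk_surjective)
          (RingHom.finiteType_algebraMap.2 ‹_›)
      haveI : Algebra.FiniteType R A := by
        refine RingHom.finiteType_algebraMap.1 (RingHom.FiniteType.comp ?_ (RingHom.finiteType_algebraMap.2 ‹_›))
        exact RingHom.FiniteType.comp (RingHom.FiniteType.of_surjective _ Ideal.Quotient.mk_surjective)
          (RingHom.finiteType_algebraMap.2 ‹_›)
      haveI : Algebra.QuasiFinite T A := by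
        refine Groth.Calg4.quasiFinite_of_forall_quasiFiniteAt A fun a => ?_
        haveI : Algebra.QuasiFiniteAt T (a.asIdeal.comap π) :=
          hr (a := a.comap π) fun h => a.isPrime.ne_top (Ideal.eq_top_of_isUnit_mem _ h
            (show IsUnit (π r) from (IsLocalization.Away.algebraMap_isUnit (S := B) r).map (Ideal.Quotient.mk _)))
        exact Algebra.QuasiFiniteAt.of_surjectiveOnStalks (a.asIdeal.comap π) φ
          ((RingHom.surjectiveOnStalks_of_surjective Ideal.Quotient.mk_surjective).comp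
            (RingHom.surjectiveOnStalks_of_isLocalization (M := Submonoid.powers r) (S := B))) _ rfl
      refine Algebra.QuasiFinite.iff_finite_primesOver.2 fun J hJ => ?_
      let J' : Ideal T := J.comap (MvPolynomial.constantCoeff : T →+* R)
      haveI : J'.IsPrime := Ideal.comap_isPrime _ _
      refine (Algebra.QuasiFinite.iff_finite_primesOver.1 ‹Algebra.QuasiFinite T A› J' inferInstance).subset ?_
      rintro I ⟨hI, hIo⟩
      refine ⟨hI, ⟨?_⟩⟩
      have key : ∀ g : T, algebraMap T A g = algebraMap R A (MvPolynomial.constantCoeff g) := fun g => by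
        show π (MvPolynomial.aeval t g) = π (algebraMap R Γ(X, U) (MvPolynomial.constantCoeff g))
        induction g using MvPolynomial.induction_on with
        | C a => rw [MvPolynomial.aeval_C, MvPolynomial.constantCoeff_C]
        | add a b ha hb => rw [map_add, map_add, map_add, map_add, map_add, ha, hb]
        | mul_X a j ha =>
          rw [map_mul, MvPolynomial.aeval_X, map_mul π, RingHom.mem_ker.1 (hker.ge (htQ j)), mul_zero, map_mul,
            MvPolynomial.constantCoeff_X, mul_zero, map_zero, map_zero]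
      ext g
      rw [Ideal.mem_comap, hIo.over, Ideal.under_def, Ideal.mem_comap, Ideal.under_def, Ideal.mem_comap, key]
    haveI : LocallyQuasiFinite (Spec.map (CommRingCat.ofHom (π.comp (algebraMap Γ(Y, W) Γ(X, U))))) :=
      (HasRingHomProperty.Spec_iff (P := @LocallyQuasiFinite)).2 hQF
    infer_instance
  · haveI : QuasiCompact hW.fromSpec :=
      quasiCompact_of_compactSpace hW.fromSpec
    have heq : i ≫ f = Spec.map (CommRingCat.ofHom (π.comp (algebraMap Γ(Y, W) Γ(X, U)))) ≫ hW.fromSpec := by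
      simp only [i, Category.assoc, ← hW.SpecMap_appLE_fromSpec f hU e, i₁, i₂, ← Spec.map_comp_assoc]
      rfl
    rw [heq]
    infer_instance
  · obtain ⟨c, hc⟩ := hpre ⟨Q, hQ⟩ le_rfl fun h => hnr (hQn h)
    refine ⟨c, ?_⟩
    rw [Scheme.Hom.comp_apply, hc, hfrom,
      show PrimeSpectrum.comap (algebraMap Γ(Y, W) Γ(X, U)) ⟨Q, hQ⟩ = q from PrimeSpectrum.ext hQq,
      hW.fromSpec_primeIdealOf]

/-- It suffices to check universal openness at the points closed in their fibre. -/
theorem isUnivOpenAt_of_closed_points {x : X}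
    (h : ∀ z, f.base z = f.base x → (∀ z', f.base z' = f.base z → z ⤳ z' → z' = z) →
      EGA43.IsUnivOpenAt f z) : EGA43.IsUnivOpenAt f x := by
  intro Y' g z' hz' U hU
  obtain ⟨U', hU'U, hU', hzU'⟩ := mem_nhds_iff.1 hU
  let y' := (pullback.snd f g).base z'
  let k := g.residueFieldMap y'
  let j := f.fiberToSpecResidueField (g.base y')
  have hy0 : g.base y' = f.base x := by
    rw [← hz', ← Scheme.Hom.comp_apply, ← Scheme.Hom.comp_apply, pullback.condition]
  haveI : UniversallyOpen (Spec.map k) :=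
    Groth.DescentBase.universallyOpen_of_field (Y.residueField (g.base y')) (Spec.map k)
  let pr := pullback.fst j (Spec.map k)
  let pr' := pullback.snd j (Spec.map k)
  have hbig : IsPullback (pr ≫ f.fiberι (g.base y')) pr' f (Spec.map k ≫ Y.fromSpecResidueField (g.base y')) :=
    (IsPullback.of_hasPullback j (Spec.map k)).paste_horiz (IsPullback.of_hasPullback f _)
  have hk : Spec.map k ≫ Y.fromSpecResidueField (g.base y') = Y'.fromSpecResidueField y' ≫ g :=
    g.SpecMap_residueFieldMap_fromSpecResidueField y'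
  rw [hk] at hbig
  let m := pullback.lift (f := f) (g := g) (pr ≫ f.fiberι (g.base y')) (pr' ≫ Y'.fromSpecResidueField y')
    (by rw [Category.assoc pr']; exact hbig.w)
  have hm₁ : m ≫ pullback.fst f g = pr ≫ f.fiberι (g.base y') := pullback.lift_fst ..
  have hm₂ : m ≫ pullback.snd f g = pr' ≫ Y'.fromSpecResidueField y' := pullback.lift_snd ..
  have sq : IsPullback pr' m (Y'.fromSpecResidueField y') (pullback.snd f g) :=
    (IsPullback.of_right (hm₁.symm ▸ hbig) hm₂ (IsPullback.of_hasPullback f g)).flip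
  obtain ⟨p, -, hp⟩ := Scheme.exists_preimage_of_isPullback sq
    (IsLocalRing.closedPoint (Y'.residueField y')) z'
    (Scheme.fromSpecResidueField_apply _ _)
  have hopen : IsOpen (pr.base '' (m.base ⁻¹' U')) := pr.isOpenMap _ (hU'.preimage m.continuous)
  obtain ⟨c, ⟨w, hw, hwc⟩, hc⟩ := nonempty_inter_closedPoints
    (Set.Nonempty.image _ ⟨p, show m.base p ∈ U' from hp ▸ hzU'⟩) hopen.isLocallyClosed
  have hfst : (pullback.fst f g).base (m.base w) = (f.fiberι (g.base y')).base c := by
    rw [← Scheme.Hom.comp_apply, hm₁, Scheme.Hom.comp_apply, hwc]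
  have hsnd : (pullback.snd f g).base (m.base w) = y' := by
    rw [← Scheme.Hom.comp_apply, hm₂, Scheme.Hom.comp_apply, Scheme.fromSpecResidueField_apply]
  have hx₁ := h ((f.fiberι (g.base y')).base c) (by rw [apply_fiberι, hy0]) fun z'' h1 h2 => by
    obtain ⟨c', rfl⟩ : z'' ∈ Set.range (f.fiberι (g.base y')).base :=
      (f.range_fiberι _).ge (h1.trans (apply_fiberι f _ c))
    exact congrArg _ ((mem_closedPoints_iff.1 hc).closure_eq.le
      (specializes_iff_mem_closure.1 ((f.fiberι _).isEmbedding.toIsInducing.specializes_iff.1 h2)))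
  have := hx₁ Y' g (m.base w) hfst U' (hU'.mem_nhds hw)
  rw [hsnd] at this
  exact Filter.mem_of_superset this (Set.image_mono hU'U)

end Groth.EGA43Topo
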