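import Groth.Agent.EGA43Topo.QuasiSection
import Groth.Agent.Misc6.Equidim2

/-!
# Dimension of closures of images in fibres (EGA IV 14.2)
-/

universe u

set_option linter.style.haveILetI false

open CategoryTheory CategoryTheory.Limits AlgebraicGeometry TopologicalSpace Topology

namespace Groth.EGA43Topo

open Groth.FibreDim Groth.Misc6.Equidim

variable {X S : Scheme.{u}}

/-- The dimension of the trace of a closed set on a fibre as a supremum of heights. -/
theorem dim_inter_closeds_eq (f : X ⟶ S) [LocallyOfFiniteType f] (W : Closeds X) (t : S) :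
    topologicalKrullDim ↥(f.base ⁻¹' {t} ∩ (W : Set X)) =
      ⨆ x : ↥(f.base ⁻¹' {t} ∩ (W : Set X)), ((fh f x.1 : ℕ∞) : WithBot ℕ∞) := by
  let ι := (Scheme.IdealSheafData.vanishingIdeal W).subschemeι
  let g := ι ≫ f
  have hr : Set.range ι.base = W := Groth.Misc6.Equidim.range_sub W
  let e : ↥(g.fiber t) → X := fun z => ι.base ((g.fiberι t).base z)
  have he : IsEmbedding e := ι.isEmbedding.comp (g.fiberι t).isEmbedding
  have hre : Set.range e = f.base ⁻¹' {t} ∩ (W : Set X) := by
    show Set.range (ι.base ∘ (g.fiberι t).base) = _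
    rw [Set.range_comp, g.range_fiberι, show (g.base : _ → S) = f.base ∘ ι.base from rfl, Set.preimage_comp,
      Set.image_preimage_eq_inter_range, hr]
  let h := he.toHomeomorph.trans (Homeomorph.setCongr hre)
  haveI : LocallyOfFiniteType (g.fiberToSpecResidueField t) :=
    inferInstanceAs (LocallyOfFiniteType (pullback.snd g (S.fromSpecResidueField t)))
  rw [← h.isHomeomorph.topologicalKrullDim_eq, Groth.Variety2.Dim.dim_eq_iSup_height (g.fiber t)]
  exact Equiv.iSup_congr h.toEquiv fun z => by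
    show ((fh f (e z) : ℕ∞) : WithBot ℕ∞) = _
    rw [← fh_comp_preimmersion f ι, fh_fiberι]

/-- Traces on fibres of closed sets have dimension invariant under base change. -/
theorem dim_inter_closeds_baseChange (f : X ⟶ S) [LocallyOfFiniteType f] {S' : Scheme.{u}} (g : S' ⟶ S)
    (W : Closeds X) (t' : S') :
    topologicalKrullDim ↥((pullback.snd f g).base ⁻¹' {t'} ∩ (pullback.fst f g).base ⁻¹' (W : Set X)) =
      topologicalKrullDim ↥(f.base ⁻¹' {g.base t'} ∩ (W : Set X)) := by
  let ι := (Scheme.IdealSheafData.vanishingIdeal W).subschemeι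
  have hr : Set.range ι.base = W := Groth.Misc6.Equidim.range_sub W
  let ι' := pullback.snd ι (pullback.fst f g)
  have hc : IsPullback (pullback.fst ι (pullback.fst f g)) (ι' ≫ pullback.snd f g) (ι ≫ f) g :=
    ((IsPullback.of_hasPullback ι (pullback.fst f g)).paste_vert (IsPullback.of_hasPullback f g))
  have hr' : Set.range ι'.base = (pullback.fst f g).base ⁻¹' (W : Set X) := by
    rw [Scheme.Pullback.range_snd, hr]
  have key : ∀ {Z T P : Scheme.{u}} (j : Z ⟶ P) [IsPreimmersion j] (p : P ⟶ T) (t : T) (A : Set P),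
      Set.range j.base = A →
        topologicalKrullDim ↥(p.base ⁻¹' {t} ∩ A) = topologicalKrullDim ↥((j ≫ p).fiber t) := by
    intro Z T P j _ p t A hA
    let e : ↥((j ≫ p).fiber t) → P := fun z => j.base (((j ≫ p).fiberι t).base z)
    have he : IsEmbedding e := j.isEmbedding.comp ((j ≫ p).fiberι t).isEmbedding
    have hre : Set.range e = p.base ⁻¹' {t} ∩ A := by
      show Set.range (j.base ∘ ((j ≫ p).fiberι t).base) = _
      rw [Set.range_comp, (j ≫ p).range_fiberι, show ((j ≫ p).base : _ → T) = p.base ∘ j.base from rfl,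
        Set.preimage_comp, Set.image_preimage_eq_inter_range, hA]
    exact ((he.toHomeomorph.trans (Homeomorph.setCongr hre)).isHomeomorph.topologicalKrullDim_eq).symm
  rw [key ι' (pullback.snd f g) t' _ hr', key ι f (g.base t') _ hr]
  exact dim_fiber_baseChange (ι ≫ f) g (ι' ≫ pullback.snd f g) (pullback.fst ι (pullback.fst f g)) hc t'

/-- Closures in fibres commute with base change. -/
theorem mem_closure_fibre_of_fst_mem (f : X ⟶ S) {S' : Scheme.{u}} (g : S' ⟶ S) (E : Set X)
    {z : ↥(pullback f g)}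
    (hz : (pullback.fst f g).base z ∈ closure (E ∩ f.base ⁻¹' {g.base ((pullback.snd f g).base z)})) :
    z ∈ closure ((pullback.fst f g).base ⁻¹' E ∩ (pullback.snd f g).base ⁻¹' {(pullback.snd f g).base z}) := by
  rw [mem_closure_iff_nhds]
  intro U hU
  obtain ⟨U', hU'U, hU', hzU'⟩ := mem_nhds_iff.1 hU
  let t' := (pullback.snd f g).base z
  let j := f.fiberToSpecResidueField (g.base t')
  let k := g.residueFieldMap t'
  haveI : UniversallyOpen (Spec.map k) :=
    Groth.DescentBase.universallyOpen_of_field (S.residueField (g.base t')) (Spec.map k)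
  let pr := pullback.fst j (Spec.map k)
  let pr' := pullback.snd j (Spec.map k)
  have hbig : IsPullback (pr ≫ f.fiberι (g.base t')) pr' f (Spec.map k ≫ S.fromSpecResidueField (g.base t')) :=
    (IsPullback.of_hasPullback j (Spec.map k)).paste_horiz (IsPullback.of_hasPullback f _)
  rw [g.SpecMap_residueFieldMap_fromSpecResidueField t'] at hbig
  let m := pullback.lift (f := f) (g := g) (pr ≫ f.fiberι (g.base t')) (pr' ≫ S'.fromSpecResidueField t')
    (by rw [Category.assoc pr']; exact hbig.w)
  have hm₁ : m ≫ pullback.fst f g = pr ≫ f.fiberι (g.base t') := pullback.lift_fst ..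
  have hm₂ : m ≫ pullback.snd f g = pr' ≫ S'.fromSpecResidueField t' := pullback.lift_snd ..
  have sq : IsPullback pr' m (S'.fromSpecResidueField t') (pullback.snd f g) :=
    (IsPullback.of_right (hm₁.symm ▸ hbig) hm₂ (IsPullback.of_hasPullback f g)).flip
  obtain ⟨p, -, hp⟩ := Scheme.exists_preimage_of_isPullback sq
    (IsLocalRing.closedPoint (S'.residueField t')) z (Scheme.fromSpecResidueField_apply _ _)
  have hopen : IsOpen (pr.base '' (m.base ⁻¹' U')) := pr.isOpenMap _ (hU'.preimage m.continuous)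
  obtain ⟨O, hO, hOeq⟩ := (f.fiberι (g.base t')).isEmbedding.toIsInducing.isOpen_iff.1 hopen
  have hfz : (pullback.fst f g).base z ∈ O := by
    have h1 : pr.base p ∈ (f.fiberι (g.base t')).base ⁻¹' O :=
      hOeq.ge ⟨p, show m.base p ∈ U' from hp ▸ hzU', rfl⟩
    rw [← hp, ← Scheme.Hom.comp_apply, hm₁, Scheme.Hom.comp_apply]
    exact h1
  obtain ⟨a, haO, haE, hat⟩ := mem_closure_iff.1 hz O hO hfz
  obtain ⟨a', rfl⟩ : a ∈ Set.range (f.fiberι (g.base t')).base := (f.range_fiberι _).ge hat
  obtain ⟨w, hw, hwa⟩ := hOeq.le haO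
  refine ⟨m.base w, hU'U hw, ?_, ?_⟩
  · show (pullback.fst f g).base (m.base w) ∈ E
    rw [← Scheme.Hom.comp_apply, hm₁, Scheme.Hom.comp_apply, hwa]
    exact haE
  · show (pullback.snd f g).base (m.base w) = t'
    rw [← Scheme.Hom.comp_apply, hm₂, Scheme.Hom.comp_apply, Scheme.fromSpecResidueField_apply]

/-- A point in the closure of a subset of a fibre of a quasi-compact morphism locally of finite type
has a generization in that fibre and closure. -/
theorem exists_generization_of_mem_closure (p : X ⟶ S) [LocallyOfFiniteType p] [QuasiCompact p] (b : S)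
    {A : Set X} (hA : A ⊆ p.base ⁻¹' {b}) {z : X} (hz : z ∈ closure A) :
    ∃ z', z' ⤳ z ∧ p.base z' = b ∧ z' ∈ closure A := by
  classical
  haveI : LocallyOfFiniteType (p.fiberToSpecResidueField b) :=
    inferInstanceAs (LocallyOfFiniteType (pullback.snd p (S.fromSpecResidueField b)))
  haveI : IsLocallyNoetherian (p.fiber b) := LocallyOfFiniteType.isLocallyNoetherian (p.fiberToSpecResidueField b)
  haveI : CompactSpace ↥(p.fiber b) :=
    QuasiCompact.compactSpace_of_compactSpace (p.fiberToSpecResidueField b)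
  haveI : IsNoetherian (p.fiber b) := {}
  let e := (p.fiberι b).base
  let C := closure (e ⁻¹' A)
  obtain ⟨s, hs, hcls, hirr, hC⟩ :=
    NoetherianSpace.exists_finite_set_isClosed_irreducible (isClosed_closure (s := e ⁻¹' A))
  have hsub : A ⊆ ⋃ t ∈ s, closure (e '' t) := fun a ha => by
    obtain ⟨a', rfl⟩ : a ∈ Set.range e := (p.range_fiberι b).ge (hA ha)
    obtain ⟨t, hts, hat⟩ := Set.mem_sUnion.1 (hC.le (subset_closure (show a' ∈ e ⁻¹' A from ha)))
    exact Set.mem_iUnion₂.2 ⟨t, hts, subset_closure ⟨a', hat, rfl⟩⟩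
  obtain ⟨t, hts, hzt⟩ := Set.mem_iUnion₂.1
    (closure_minimal hsub (hs.isClosed_biUnion fun t _ => isClosed_closure) hz)
  have htcl : IsClosed t := hcls t hts
  have hti : IsIrreducible t := hirr t hts
  have hgen := hti.isGenericPoint_genericPoint htcl
  refine ⟨e hti.genericPoint, ?_, apply_fiberι p b _, ?_⟩
  · refine specializes_iff_mem_closure.2 (closure_minimal ?_ isClosed_closure hzt)
    rintro _ ⟨a, ha, rfl⟩
    exact specializes_iff_mem_closure.1 ((hgen.specializes ha).map (p.fiberι b).continuous)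
  · have h1 : hti.genericPoint ∈ C := hC.ge ⟨t, hts, hgen.mem⟩
    exact closure_mono (Set.image_preimage_subset e A)
      (image_closure_subset_closure_image (p.fiberι b).continuous ⟨_, h1, rfl⟩)

/-- **Dimension of closures of images in fibres**: lower semicontinuity along generizations. -/
theorem dim_closure_images_le (f : X ⟶ S) [LocallyOfFiniteType f] [QuasiCompact f] {ι : Type u}
    (Y : ι → Scheme.{u}) (g : ∀ i, Y i ⟶ S) [∀ i, UniversallyOpen (g i)] (v : ∀ i, Y i ⟶ X)
    (hv : ∀ i, v i ≫ f = g i) {s s' : S} (hs : s' ⤳ s) :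
    topologicalKrullDim ↥(f.base ⁻¹' {s} ∩ closure ((⋃ i, Set.range (v i).base) ∩ f.base ⁻¹' {s})) ≤
      topologicalKrullDim ↥(f.base ⁻¹' {s'} ∩ closure ((⋃ i, Set.range (v i).base) ∩ f.base ⁻¹' {s'})) := by
  set E : Set X := ⋃ i, Set.range (v i).base
  obtain ⟨V, _, _, _, h, hh, hh'⟩ := exists_valuation_lift hs
  let p := pullback.snd f h
  let q := pullback.fst f h
  haveI : LocallyOfFiniteType p := inferInstanceAs (LocallyOfFiniteType (pullback.snd f h))
  haveI : QuasiCompact p := inferInstanceAs (QuasiCompact (pullback.snd f h))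
  let b : ↥(Spec (CommRingCat.of V)) := (⟨⊥, Ideal.isPrime_bot⟩ : PrimeSpectrum V)
  let c : ↥(Spec (CommRingCat.of V)) := IsLocalRing.closedPoint V
  let T : Closeds ↥(pullback f h) := ⟨closure (q.base ⁻¹' E ∩ p.base ⁻¹' {b}), isClosed_closure⟩
  let W : S → Closeds X := fun t => ⟨closure (E ∩ f.base ⁻¹' {t}), isClosed_closure⟩
  show topologicalKrullDim ↥(f.base ⁻¹' {s} ∩ (W s : Set X)) ≤ topologicalKrullDim ↥(f.base ⁻¹' {s'} ∩ (W s' : Set X))
  have hlift : p.base ⁻¹' {c} ∩ q.base ⁻¹' E ⊆ (T : Set ↥(pullback f h)) := by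
    rintro w ⟨hwc, hwE⟩
    obtain ⟨i, a, ha⟩ := Set.mem_iUnion.1 hwE
    let vi : pullback (g i) h ⟶ pullback f h :=
      pullback.lift (pullback.fst _ _ ≫ v i) (pullback.snd _ _) (by rw [Category.assoc, hv, pullback.condition])
    have h1 : vi ≫ pullback.fst f h = pullback.fst (g i) h ≫ v i := pullback.lift_fst ..
    have h2 : vi ≫ pullback.snd f h = pullback.snd (g i) h := pullback.lift_snd ..
    have sq : IsPullback (pullback.fst (g i) h) vi (v i) (pullback.fst f h) :=
      IsPullback.of_bot (by rw [h2, hv]; exact IsPullback.of_hasPullback (g i) h) h1.symm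
        (IsPullback.of_hasPullback f h)
    obtain ⟨a', -, ha'w⟩ := Scheme.exists_preimage_of_isPullback sq a w ha
    obtain ⟨a'', hsp, hb⟩ := exists_specializes_of_isOpenAt (p := pullback.snd (g i) h) (x := a')
      (fun U hU => (pullback.snd (g i) h).isOpenMap.image_mem_nhds hU) (z := b)
      ((PrimeSpectrum.le_iff_specializes _ _).1 bot_le)
    have hmem : vi.base a'' ∈ q.base ⁻¹' E ∩ p.base ⁻¹' {b} := by
      refine ⟨Set.mem_iUnion.2 ⟨i, (pullback.fst (g i) h).base a'', ?_⟩, ?_⟩
      · rw [← Scheme.Hom.comp_apply, ← h1]; rfl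
      · show (pullback.snd f h).base (vi.base a'') = b
        rw [← Scheme.Hom.comp_apply, h2, hb]
    exact (ha'w ▸ hsp.map vi.continuous).mem_closed isClosed_closure (subset_closure hmem)
  have hT₁ : p.base ⁻¹' {c} ∩ q.base ⁻¹' (W s : Set X) ⊆ p.base ⁻¹' {c} ∩ (T : Set ↥(pullback f h)) := by
    rintro w ⟨hwc, hw⟩
    refine ⟨hwc, closure_minimal ?_ T.isClosed (mem_closure_fibre_of_fst_mem f h E (z := w) ?_)⟩
    · rintro a ⟨haE, hac⟩
      exact hlift ⟨hac.trans hwc, haE⟩
    · rw [show (pullback.snd f h).base w = c from hwc, hh]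
      exact hw
  have hT₂ : p.base ⁻¹' {b} ∩ (T : Set ↥(pullback f h)) ⊆ p.base ⁻¹' {b} ∩ q.base ⁻¹' (W s' : Set X) := by
    refine Set.inter_subset_inter_right _ (closure_minimal ?_ ((W s').isClosed.preimage q.continuous))
    rintro a ⟨haE, hab⟩
    refine subset_closure ⟨haE, ?_⟩
    show f.base (q.base a) = s'
    rw [← Scheme.Hom.comp_apply, pullback.condition, Scheme.Hom.comp_apply, show (pullback.snd f h).base a = b from hab]
    exact hh'
  calc topologicalKrullDim ↥(f.base ⁻¹' {s} ∩ (W s : Set X))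
      = topologicalKrullDim ↥(p.base ⁻¹' {c} ∩ q.base ⁻¹' (W s : Set X)) := by
        rw [dim_inter_closeds_baseChange f h (W s) c, hh]
    _ ≤ topologicalKrullDim ↥(p.base ⁻¹' {c} ∩ (T : Set ↥(pullback f h))) :=
        (IsEmbedding.inclusion hT₁).toIsInducing.topologicalKrullDim_le
    _ ≤ topologicalKrullDim ↥(p.base ⁻¹' {b} ∩ (T : Set ↥(pullback f h))) := by
        rw [dim_inter_closeds_eq, dim_inter_closeds_eq]
        refine iSup_le fun z => ?_
        obtain ⟨z', hz'z, hz'b, hz'T⟩ :=
          exists_generization_of_mem_closure p b Set.inter_subset_right z.2.2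
        obtain ⟨n, hn, hn'⟩ := exists_relTrdeg_eq_height p z.1
        obtain ⟨m, hm, hm'⟩ := exists_relTrdeg_eq_height p z'
        have hle := relTrdeg_le_of_valuation p hz'z hz'b z.2.1
        rw [hn, hm, Nat.cast_le] at hle
        refine le_trans ?_ (le_iSup _ ⟨z', hz'b, hz'T⟩)
        refine WithBot.coe_le_coe.2 ?_
        show Order.height _ ≤ Order.height _
        rw [hn', hm']
        exact Nat.cast_le.2 hle
    _ ≤ topologicalKrullDim ↥(p.base ⁻¹' {b} ∩ q.base ⁻¹' (W s' : Set X)) :=
        (IsEmbedding.inclusion hT₂).toIsInducing.topologicalKrullDim_le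
    _ = topologicalKrullDim ↥(f.base ⁻¹' {s'} ∩ (W s' : Set X)) := by
        rw [dim_inter_closeds_baseChange f h (W s') b, hh']

end Groth.EGA43Topo
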