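import Groth.Agent.FibreDim.OpenFibreConst

/-!
# Local constancy of the dimensions of the components of fibres (EGA IV 14.2.7)
-/

set_option autoImplicit false
universe u

open CategoryTheory CategoryTheory.Limits AlgebraicGeometry TopologicalSpace Topology

namespace Groth.EGA43Topo

open Groth.FibreDim

variable {X Y : Scheme.{u}} (f : X ⟶ Y)

/-- The open subscheme of points with fibre dimension at most `d`. -/
abbrev fibreDimOpen [LocallyOfFiniteType f] (d : ℕ) : X.Opens :=
  ⟨{x : X | FlatMor.fibreDimAt f x ≤ d}, isOpen_fibreDimAt_le f d⟩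

theorem mem_component_dims_iff [LocallyOfFiniteType f] (d : ℕ) (z : Y) :
    ((d : WithBot ℕ∞)) ∈ (fun Z : Set ↥(f.fiber z) => topologicalKrullDim ↥Z) '' irreducibleComponents ↥(f.fiber z) ↔
      topologicalKrullDim ↥(((fibreDimOpen f d).ι ≫ f).fiber z) = d := by
  set U := fibreDimOpen f d
  haveI : LocallyOfFiniteType (U.ι ≫ f) := inferInstance
  rw [component_dims_eq, dim_fiber_eq_iSup_max (U.ι ≫ f) z]
  constructor
  · rintro ⟨w, ⟨hw, hmax⟩, hwd⟩
    refine le_antisymm (iSup₂_le fun v hv => ?_) ?_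
    · rw [fibreDimAt_openImmersion_comp]
      exact v.2
    · let v : U := ⟨w, hwd.le⟩
      refine le_trans ?_ (le_iSup₂ (f := fun v _ => FlatMor.fibreDimAt (U.ι ≫ f) v) v
        ⟨hw, fun v' hv' hsp => Subtype.ext (hmax _ hv' (hsp.map U.ι.continuous))⟩)
      rw [fibreDimAt_openImmersion_comp]
      exact hwd.ge
  · intro h
    by_contra hne
    have hlt : ∀ v : U, (U.ι ≫ f).base v = z → (∀ v', (U.ι ≫ f).base v' = z → v' ⤳ v → v' = v) →
        FlatMor.fibreDimAt (U.ι ≫ f) v < d := fun v hv hmax => by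
      rw [fibreDimAt_openImmersion_comp]
      refine lt_of_le_of_ne v.2 fun he => hne ⟨v.1, ⟨hv, fun w hw hsp => ?_⟩, he⟩
      exact congrArg Subtype.val (hmax ⟨w, Specializes.mem_open hsp U.isOpen v.2⟩ hw
        (U.ι.isEmbedding.toIsInducing.specializes_iff.1 hsp))
    rcases d.eq_zero_or_pos with rfl | hd
    · have : (⨆ v ∈ {v : U | (U.ι ≫ f).base v = z ∧ ∀ v', (U.ι ≫ f).base v' = z → v' ⤳ v → v' = v},
          FlatMor.fibreDimAt (U.ι ≫ f) v) ≤ ⊥ := iSup₂_le fun v hv => by
        have := hlt v hv.1 hv.2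
        generalize FlatMor.fibreDimAt (U.ι ≫ f) v = a at this ⊢
        cases a with
        | bot => exact le_rfl
        | coe a => exact absurd this (not_lt.2 (WithBot.coe_le_coe.2 (by simp)))
      exact absurd (h.symm.le.trans this) (by simp)
    · obtain ⟨m, rfl⟩ : ∃ m, d = m + 1 := ⟨d - 1, by omega⟩
      have : (⨆ v ∈ {v : U | (U.ι ≫ f).base v = z ∧ ∀ v', (U.ι ≫ f).base v' = z → v' ⤳ v → v' = v},
          FlatMor.fibreDimAt (U.ι ≫ f) v) ≤ (m : WithBot ℕ∞) := iSup₂_le fun v hv => by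
        have := hlt v hv.1 hv.2
        generalize FlatMor.fibreDimAt (U.ι ≫ f) v = a at this ⊢
        cases a with
        | bot => exact bot_le
        | coe a =>
          have h' : a < ((m + 1 : ℕ) : ℕ∞) := WithBot.coe_lt_coe.1 this
          refine WithBot.coe_le_coe.2 (ENat.lt_coe_add_one_iff.1 ?_)
          exact_mod_cast h'
      exact absurd (h.symm.le.trans this) (by norm_cast; omega)

/-- EGA IV 14.2.7. -/
theorem component_dims_locally_const [IsLocallyNoetherian Y] [LocallyOfFiniteType f] [QuasiCompact f]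
    (hf : IsOpenMap f.base) (y : Y)
    (h : ∀ η : Y, y ∈ closure {η} → closure {η} ∈ irreducibleComponents (Y : Type u) →
      (fun Z : Set ↥(f.fiber y) => topologicalKrullDim ↥Z) '' irreducibleComponents ↥(f.fiber y) =
      (fun Z : Set ↥(f.fiber η) => topologicalKrullDim ↥Z) '' irreducibleComponents ↥(f.fiber η)) :
    ∃ V ∈ 𝓝 y, ∀ z ∈ V, (fun Z : Set ↥(f.fiber z) => topologicalKrullDim ↥Z) '' irreducibleComponents ↥(f.fiber z) =
      (fun Z : Set ↥(f.fiber y) => topologicalKrullDim ↥Z) '' irreducibleComponents ↥(f.fiber y) := by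
  haveI : IsLocallyNoetherian X := LocallyOfFiniteType.isLocallyNoetherian f
  haveI : LocallyOfFinitePresentation f :=
    LocallyOfFinitePresentation.iff_locallyOfFiniteType.mpr inferInstance
  have hop : ∀ w : Y, ∀ x : X, f.base x = w → EGA43.IsOpenAt f.base x :=
    fun _ x _ U hU => hf.image_mem_nhds hU
  set E := fun z : Y => (fun Z : Set ↥(f.fiber z) => topologicalKrullDim ↥Z) '' irreducibleComponents ↥(f.fiber z) with hE
  have hgen : ∀ z : Y, z ⤳ y → E z = E y := fun z hz => by
    obtain ⟨η, hηz, hη⟩ := exists_genericPoint_specializes' z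
    refine Set.Subset.antisymm ?_ (component_dims_subset_of_specializes f hz (hop y))
    rw [hE]
    simp only
    rw [h η (specializes_iff_mem_closure.1 (hηz.trans hz)) hη]
    exact component_dims_subset_of_specializes f hηz (hop z)
  have hdimE : ∀ z, ∀ c ∈ E z, c ≤ topologicalKrullDim ↥(f.fiber z) := fun z c hc => by
    obtain ⟨Z, -, rfl⟩ := hc
    exact (topologicalKrullDim_subspace_le _ Z)
  have hnat : ∀ z, ∀ c ∈ E z, ∃ d : ℕ, c = d := fun z c hc => by
    have hle := hdimE z c hc
    obtain ⟨Z, hZ, rfl⟩ := hc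
    haveI : Nonempty Z := hZ.1.nonempty.to_subtype
    have h0 : (0 : WithBot ℕ∞) ≤ topologicalKrullDim Z := by
      haveI : Nonempty (IrreducibleCloseds Z) :=
        ⟨⟨closure {Classical.arbitrary Z}, isIrreducible_singleton.closure, isClosed_closure⟩⟩
      exact Order.krullDim_nonneg
    have hne := ne_top_of_le_ne_top (dim_fiber_ne_top f z) hle
    simp only at hle hne
    generalize hcc : topologicalKrullDim Z = c at hle h0 hne
    show ∃ d : ℕ, topologicalKrullDim Z = d
    rw [hcc]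
    cases c with
    | bot => simp at h0
    | coe c => cases c with
      | top => exact absurd rfl hne
      | coe c => exact ⟨c, rfl⟩
  have hdim : ∀ z : Y, z ⤳ y → topologicalKrullDim ↥(f.fiber z) ≤ topologicalKrullDim ↥(f.fiber y) := fun z hz => by
    rw [dim_fiber_eq_iSup_max]
    refine iSup₂_le fun w hw => ?_
    have h1 : FlatMor.fibreDimAt f w ∈ E z := by
      rw [hE]; simp only
      rw [component_dims_eq]
      exact ⟨w, hw, rfl⟩
    rw [hgen z hz] at h1
    exact hdimE y _ h1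
  obtain ⟨N, hN⟩ : ∃ N : ℕ, topologicalKrullDim ↥(f.fiber y) ≤ (N : WithBot ℕ∞) := by
    have hne := dim_fiber_ne_top f y
    generalize topologicalKrullDim ↥(f.fiber y) = c at hne ⊢
    cases c with
    | bot => exact ⟨0, bot_le⟩
    | coe c => cases c with
      | top => exact absurd rfl hne
      | coe c => exact ⟨c, le_rfl⟩
  have hd : ∀ d : ℕ, {z : Y | ((d : WithBot ℕ∞)) ∈ E z ↔ ((d : WithBot ℕ∞)) ∈ E y} ∈ 𝓝 y := fun d => by
    refine mem_nhds_of_isLocallyConstructible ?_ fun z hz => by simp [hgen z hz]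
    have hc := isLocallyConstructible_dim_fiber_eq ((fibreDimOpen f d).ι ≫ f) (d : WithBot ℕ∞)
    simp only [hE, mem_component_dims_iff]
    by_cases hy : topologicalKrullDim ↥(((fibreDimOpen f d).ι ≫ f).fiber y) = (d : WithBot ℕ∞)
    · simpa [hy] using hc
    · simp only [hy, iff_false]
      exact Groth.EGA41Two.isLocallyConstructible_compl hc
  refine ⟨{z | topologicalKrullDim ↥(f.fiber z) = topologicalKrullDim ↥(f.fiber y)} ∩
    ⋂ d ∈ Finset.range (N + 1), {z : Y | ((d : WithBot ℕ∞)) ∈ E z ↔ ((d : WithBot ℕ∞)) ∈ E y},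
    Filter.inter_mem (eventually_dim_fiber_eq f y (hop y) hdim)
      ((Filter.biInter_finset_mem _).2 fun d _ => hd d), fun z hz => ?_⟩
  obtain ⟨hz1, hz2⟩ := hz
  have key : ∀ d : ℕ, (d : WithBot ℕ∞) ≤ topologicalKrullDim ↥(f.fiber y) →
      (((d : WithBot ℕ∞)) ∈ E z ↔ ((d : WithBot ℕ∞)) ∈ E y) := fun d hd' => by
    have : d ≤ N := by exact_mod_cast hd'.trans hN
    exact Set.mem_iInter₂.1 hz2 d (Finset.mem_range.2 (by omega))
  ext c
  constructor
  · intro hc
    obtain ⟨d, rfl⟩ := hnat z c hc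
    exact (key d ((hdimE z _ hc).trans (le_of_eq hz1))).1 hc
  · intro hc
    obtain ⟨d, rfl⟩ := hnat y c hc
    exact (key d (hdimE y _ hc)).2 hc

end Groth.EGA43Topo
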