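import Groth.Agent.EGA43Topo.GoodFibreEquidim
import Groth.Agent.EGA43Topo.UnivOpenFibre
import Groth.Agent.EGA43Valuative.DominatingDVR
import Groth.Agent.VarietyBC.Reduced
import Groth.Agent.VarietyBC.ReducedCharP
import Groth.Agent.PRedWeil.Insep
import Groth.Agent.Misc6.Equidim2
import Groth.Prelude.Def_CAlg2

/-!
# Uniqueness of the component through a geometrically reduced maximal point of a fibre
(EGA IV 15.3)
-/

set_option autoImplicit false
set_option linter.style.haveILetI false
universe u

open CategoryTheory CategoryTheory.Limits AlgebraicGeometry TopologicalSpace Topology Groth.FibreDim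

namespace Groth.EGA43Topo.CompUnique

variable {X Y : Scheme.{u}} (f : X ⟶ Y)

/-- The fibre through `z` is geometrically reduced at `z`. -/
def GRF (z : X) : Prop :=
  FBase.IsGeomReducedAt (f.fiberToSpecResidueField (f.base z)) (f.asFiber z)

/-- A maximal point of its fibre. -/
def FMax (z : X) : Prop := ∀ z', f.base z' = f.base z → z' ⤳ z → z' = z

theorem grf_fiberι_iff (y : Y) (a : f.fiber y) :
    GRF f ((f.fiberι y).base a) ↔ FBase.IsGeomReducedAt (f.fiberToSpecResidueField y) a := by
  suffices key : ∀ (z : X) (y : Y), f.base z = y → ∀ a : f.fiber y, (f.fiberι y).base a = z →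
      (GRF f z ↔ FBase.IsGeomReducedAt (f.fiberToSpecResidueField y) a) from
    key _ y (apply_fiberι f y a) a rfl
  rintro z y rfl a ha
  rw [show a = f.asFiber z from (f.fiberι _).isEmbedding.injective (ha.trans (f.fiberι_asFiber z).symm)]
  rfl

theorem fmax_fiberι {y : Y} {a : f.fiber y}
    (ha : ∀ a' : f.fiber y, a ∈ closure {a'} → a' = a) : FMax f ((f.fiberι y).base a) := by
  intro z' hz' hsp
  obtain ⟨a', rfl⟩ : z' ∈ Set.range (f.fiberι y).base :=
    (f.range_fiberι y).ge (hz'.trans (apply_fiberι f y a))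
  rw [ha a' (specializes_iff_mem_closure.1 ((f.fiberι y).isEmbedding.toIsInducing.specializes_iff.1 hsp))]

/-- A point at which a scheme over a field is geometrically reduced has a reduced local ring. -/
theorem isReduced_stalk_of_isGeomReducedAt {k : Type u} [Field k] {Z : Scheme.{u}}
    (g : Z ⟶ Spec (CommRingCat.of k)) {x : Z} (h : FBase.IsGeomReducedAt g x) :
    _root_.IsReduced (Z.presheaf.stalk x) := by
  obtain ⟨u, hu⟩ : ∃ u : ↥(FBase.bc g k), (FBase.bcπ g k).base u = x := by
    obtain ⟨u, hu, -⟩ := Scheme.Pullback.exists_preimage_pullback (f := g)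
      (g := Spec.map (CommRingCat.ofHom (algebraMap k k))) x (g.base x) (by
        rw [show Spec.map (CommRingCat.ofHom (algebraMap k k)) = 𝟙 _ from Spec.map_id _]
        rfl)
    exact ⟨u, hu⟩
  haveI : Flat (Spec.map (CommRingCat.ofHom (algebraMap k k))) := by
    rw [show Spec.map (CommRingCat.ofHom (algebraMap k k)) = 𝟙 _ from Spec.map_id _]
    infer_instance
  haveI : Flat (FBase.bcπ g k) := MorphismProperty.pullback_fst _ _ inferInstance
  haveI := h k u hu
  exact Groth.VarietyBC.isReduced_stalk_of_flat (FBase.bcπ g k) u hu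

variable [LocallyOfFiniteType f]

/-- Geometric reducedness gives reduced fibre stalks after any base change. -/
theorem isReduced_fiberStalk_baseChange {z : X} (hz : GRF f z) {Y' : Scheme.{u}} (h : Y' ⟶ Y)
    (z' : ↥(pullback f h)) (hzz : (pullback.fst f h).base z' = z) :
    _root_.IsReduced (CInt.fiberStalk (pullback.snd f h) z') := by
  suffices key : ∀ (s : Y') (w : (pullback.snd f h).fiber s), ((pullback.snd f h).fiberι s).base w = z' →
      _root_.IsReduced (CInt.fiberStalk (pullback.snd f h) z') from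
    key _ ((pullback.snd f h).asFiber z') ((pullback.snd f h).fiberι_asFiber z')
  intro s w hw
  obtain ⟨q, hq, hsq⟩ := FlatUnivOpen.exists_fibre_isPullback f h s
  have hqw : (f.fiberι _).base (q.base w) = z := by
    rw [← Scheme.Hom.comp_apply, hq, Scheme.Hom.comp_apply, hw, hzz]
  have hred := (grf_fiberι_iff f _ (q.base w)).1 (hqw.symm ▸ hz)
  have hg := FlatUnivOpen.isGeomReducedAt_fibre_baseChange f h s q hsq w hred
  have h1 : _root_.IsReduced (((pullback.snd f h).fiber s).presheaf.stalk w) :=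
    isReduced_stalk_of_isGeomReducedAt _ hg
  obtain ⟨e₁⟩ := Groth.Ega4b.nonempty_fiber_stalk_equiv (pullback.snd f h) s w z' hw
  obtain ⟨e₂⟩ := Groth.Ega4b.nonempty_fiberStalk_equiv (pullback.snd f h) z'
  exact isReduced_of_injective (e₂.symm.trans e₁) (e₂.symm.trans e₁).injective

/-- Maximal points of fibres of a base change go to maximal points of fibres. -/
theorem fmax_fst {Y' : Scheme.{u}} (h : Y' ⟶ Y) {a : ↥(pullback f h)}
    (ha : FMax (pullback.snd f h) a) : FMax f ((pullback.fst f h).base a) := by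
  intro v hv hsp
  obtain ⟨q, hq, hsq⟩ := FlatUnivOpen.exists_fibre_isPullback f h ((pullback.snd f h).base a)
  haveI : Flat (Spec.map (h.residueFieldMap ((pullback.snd f h).base a))) := by
    rw [HasRingHomProperty.Spec_iff (P := @Flat)]
    letI := (h.residueFieldMap ((pullback.snd f h).base a)).hom.toAlgebra
    exact RingHom.flat_algebraMap_iff.2 (inferInstance : Module.Flat (Y.residueField _) (Y'.residueField _))
  haveI : Flat q := MorphismProperty.of_isPullback hsq.flip inferInstance
  have hy : h.base ((pullback.snd f h).base a) = f.base ((pullback.fst f h).base a) := by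
    rw [← Scheme.Hom.comp_apply, ← pullback.condition, Scheme.Hom.comp_apply]
  obtain ⟨v₀, rfl⟩ : v ∈ Set.range (f.fiberι _).base :=
    (f.range_fiberι (h.base ((pullback.snd f h).base a))).ge (hv.trans hy.symm)
  let a₀ := (pullback.snd f h).asFiber a
  have hqa : (f.fiberι _).base (q.base a₀) = (pullback.fst f h).base a := by
    rw [← Scheme.Hom.comp_apply, hq, Scheme.Hom.comp_apply, (pullback.snd f h).fiberι_asFiber]
  rw [← hqa, (f.fiberι _).isEmbedding.toIsInducing.specializes_iff] at hsp
  obtain ⟨w, hw, hqw⟩ := Groth.FibreDim.generalizing_of_flat_stalkMap q a₀ (Flat.stalkMap q a₀) a₀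
    specializes_rfl v₀ hsp
  have hwa : ((pullback.snd f h).fiberι _).base w = a := ha _ (apply_fiberι _ _ w) (by
    have := hw.map ((pullback.snd f h).fiberι _).continuous
    rwa [(pullback.snd f h).fiberι_asFiber] at this)
  rw [← hqw, ← Scheme.Hom.comp_apply, hq, Scheme.Hom.comp_apply, hwa]

/-- A point maximal in the closed fibre over a discrete valuation ring with reduced fibre stalk:
at most one point of the generic fibre specializes to it, and its local ring is reduced. -/
theorem generic_unique_of_max {R : Type u} [CommRing R] [IsDomain R] [IsDiscreteValuationRing R]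
    {P : Scheme.{u}} (p : P ⟶ Spec (CommRingCat.of R)) [LocallyOfFiniteType p] {z' : P}
    (hc : p.base z' = IsLocalRing.closedPoint R) (hmax : FMax p z')
    (hred : _root_.IsReduced (CInt.fiberStalk p z')) {a : P} (ha : a ⤳ z')
    (hpa : p.base a ≠ IsLocalRing.closedPoint R) :
    _root_.IsReduced (P.presheaf.stalk a) ∧
      ∀ b : P, b ⤳ z' → p.base b ≠ IsLocalRing.closedPoint R → b = a := by
  haveI : IsLocallyNoetherian P := LocallyOfFiniteType.isLocallyNoetherian p
  obtain ⟨hd, hdvr⟩ := Groth.Ega43DVR.stalk_isDVR R (p.base z') hc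
  obtain ⟨π, hπ⟩ := IsDiscreteValuationRing.exists_irreducible ((Spec (CommRingCat.of R)).presheaf.stalk (p.base z'))
  let φ := (p.stalkMap z').hom
  let O := P.presheaf.stalk z'
  have hm : IsLocalRing.maximalIdeal _ = Ideal.span {π} := (IsDiscreteValuationRing.irreducible_iff_uniformizer π).1 hπ
  let pt : PrimeSpectrum O → P := fun q => (P.fromSpecStalk z').base q
  have hcl : ∀ q, φ π ∈ q.asIdeal ↔ p.base (pt q) = p.base z' := by
    intro q
    have h1 : p.base (pt q) = ((Spec (CommRingCat.of R)).fromSpecStalk (p.base z')).base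
        (PrimeSpectrum.comap φ q) :=
      (congrArg (fun m : Spec (P.presheaf.stalk z') ⟶ Spec (CommRingCat.of R) => m.base q)
        (Scheme.SpecMap_stalkMap_fromSpecStalk p (x := z'))).symm
    constructor
    · intro hq
      have hle : IsLocalRing.maximalIdeal _ ≤ (PrimeSpectrum.comap φ q).asIdeal := by
        rw [hm, Ideal.span_le, Set.singleton_subset_iff]
        exact hq
      rw [h1, show PrimeSpectrum.comap φ q = IsLocalRing.closedPoint _ from
        PrimeSpectrum.ext ((IsLocalRing.maximalIdeal.isMaximal _).eq_of_le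
          (PrimeSpectrum.comap φ q).isPrime.ne_top hle).symm]
      exact Scheme.fromSpecStalk_closedPoint
    · intro hq
      have h2 : PrimeSpectrum.comap φ q = IsLocalRing.closedPoint _ :=
        ((Spec (CommRingCat.of R)).fromSpecStalk (p.base z')).isEmbedding.injective
          ((h1.symm.trans hq).trans Scheme.fromSpecStalk_closedPoint.symm)
      show π ∈ (PrimeSpectrum.comap φ q).asIdeal
      rw [h2]
      exact hm.ge (Ideal.subset_span rfl)
  have hradt : (Ideal.span {φ π}).IsRadical := by
    rw [Ideal.isRadical_iff_quotient_reduced]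
    obtain ⟨e'⟩ := Groth.Ega4b.nonempty_fiberStalk_equiv p z'
    haveI := hred
    haveI : _root_.IsReduced (O ⧸ Ideal.map φ (IsLocalRing.maximalIdeal _)) :=
      isReduced_of_injective e'.toRingHom e'.injective
    rw [show Ideal.span {φ π} = Ideal.map φ (IsLocalRing.maximalIdeal _) by
      rw [hm, Ideal.map_span, Set.image_singleton]]
    assumption
  have hmO : IsLocalRing.maximalIdeal O = Ideal.span {φ π} := by
    rw [← hradt.radical, Ideal.radical_eq_sInf]
    refine le_antisymm (le_sInf fun J hJ => ?_) (sInf_le ⟨Ideal.span_le.2 (Set.singleton_subset_iff.2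
      fun hu => hπ.not_isUnit (isUnit_of_map_unit φ π hu)), inferInstance⟩)
    have hJt : φ π ∈ J := hJ.1 (Ideal.subset_span rfl)
    have h1 : pt ⟨J, hJ.2⟩ = z' := hmax _ ((hcl _).1 hJt) (Scheme.range_fromSpecStalk.le ⟨_, rfl⟩)
    have h2 : (⟨J, hJ.2⟩ : PrimeSpectrum O) = IsLocalRing.closedPoint O :=
      (P.fromSpecStalk z').isEmbedding.injective (h1.trans Scheme.fromSpecStalk_closedPoint.symm)
    exact (congrArg PrimeSpectrum.asIdeal h2).ge
  have hbot : ∀ q : PrimeSpectrum O, φ π ∉ q.asIdeal → q.asIdeal = ⊥ := by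
    intro q hq
    refine Submodule.eq_bot_of_le_smul_of_le_jacobson_bot (Ideal.span {φ π}) q.asIdeal
      (IsNoetherian.noetherian _) (fun r hr => ?_) ?_
    · have hrm : r ∈ Ideal.span {φ π} := hmO ▸ IsLocalRing.le_maximalIdeal q.isPrime.ne_top hr
      obtain ⟨c, rfl⟩ := Ideal.mem_span_singleton'.1 hrm
      rw [mul_comm c]
      exact Ideal.mul_mem_mul (Ideal.subset_span rfl) ((q.isPrime.mem_or_mem hr).resolve_right hq)
    · rw [IsLocalRing.jacobson_eq_maximalIdeal ⊥ bot_ne_top, ← hmO]
  obtain ⟨A, hA⟩ := Scheme.range_fromSpecStalk.ge ha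
  have hAt : φ π ∉ A.asIdeal := fun hh => hpa (by
    rw [← hA]
    exact ((hcl A).1 hh).trans hc)
  haveI : (⊥ : Ideal O).IsPrime := hbot A hAt ▸ A.isPrime
  haveI : IsDomain O := IsDomain.of_bot_isPrime O
  refine ⟨?_, fun b hb hpb => ?_⟩
  · rw [← hA]
    haveI := Groth.VarietyBC.flat_fromSpecStalk P z'
    haveI := Groth.VarietyBC.isIso_stalkMap_of_flat_preimmersion (P.fromSpecStalk z') A
    exact isReduced_of_injective (asIso ((P.fromSpecStalk z').stalkMap A)).commRingCatIsoToRingEquiv
      (asIso ((P.fromSpecStalk z').stalkMap A)).commRingCatIsoToRingEquiv.injective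
  · obtain ⟨B, hB⟩ := Scheme.range_fromSpecStalk.ge hb
    have hBt : φ π ∉ B.asIdeal := fun hh => hpb (by
      rw [← hB]
      exact ((hcl B).1 hh).trans hc)
    rw [← hA, ← hB, show B = A from PrimeSpectrum.ext ((hbot B hBt).trans (hbot A hAt).symm)]

/-- A point over `z` and the closed point which is maximal in its fibre. -/
theorem exists_max_lift {z : X} (hz : FMax f z) {R : Type u} [CommRing R] [IsLocalRing R]
    (h : Spec (CommRingCat.of R) ⟶ Y) (hc : h.base (IsLocalRing.closedPoint R) = f.base z) :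
    ∃ z' : ↥(pullback f h), (pullback.fst f h).base z' = z ∧
      (pullback.snd f h).base z' = IsLocalRing.closedPoint R ∧ FMax (pullback.snd f h) z' := by
  haveI : LocallyOfFiniteType (pullback.snd f h) := inferInstance
  obtain ⟨z₀, hz₀, hz₀'⟩ := Scheme.Pullback.exists_preimage_pullback (f := f) (g := h) z
    (IsLocalRing.closedPoint R) hc.symm
  obtain ⟨z', hfz', hsp, h0, -⟩ := Groth.FibreDim.exists_maximal_fibre_point (pullback.snd f h) z₀
  have hc' : (pullback.snd f h).base z' = IsLocalRing.closedPoint R := hfz'.trans hz₀'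
  refine ⟨z', hz _ ?_ (hz₀ ▸ hsp.map (pullback.fst f h).continuous), hc',
    (Groth.FibreDim.isMax_asFiber_iff _ _).1 (Order.coheight_eq_zero.1 h0)⟩
  rw [← Scheme.Hom.comp_apply, pullback.condition, Scheme.Hom.comp_apply, hc', hc]

/-- If the restriction of `f` to `closure {ξ}` is universally open at `z`, the point `ξ` lifts to a
generization of any maximal point over `z` of the closed fibre. -/
theorem exists_generic_lift {R : Type u} [CommRing R] [IsDomain R] [IsLocalRing R]
    (h : Spec (CommRingCat.of R) ⟶ Y) (z' : ↥(pullback f h))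
    (hc : (pullback.snd f h).base z' = IsLocalRing.closedPoint R) (hmax : FMax (pullback.snd f h) z')
    {ξ : X} {T : Closeds X} (hT : (T : Set X) = closure {ξ})
    (hξ : f.base ξ = h.base (⟨⊥, Ideal.isPrime_bot⟩ : PrimeSpectrum R))
    {w : ↥(Scheme.IdealSheafData.vanishingIdeal T).subscheme}
    (hw : (Scheme.IdealSheafData.vanishingIdeal T).subschemeι.base w = (pullback.fst f h).base z')
    (hopen : EGA43.IsUnivOpenAt ((Scheme.IdealSheafData.vanishingIdeal T).subschemeι ≫ f) w) :
    ∃ a : ↥(pullback f h), a ⤳ z' ∧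
      (pullback.snd f h).base a = (⟨⊥, Ideal.isPrime_bot⟩ : PrimeSpectrum R) ∧
      (pullback.fst f h).base a = ξ := by
  let i := (Scheme.IdealSheafData.vanishingIdeal T).subschemeι
  have hi : Set.range i.base = (T : Set X) := Groth.PropsBasic2.range_vanishingIdeal_subschemeι T
  let fst' := pullback.fst (i ≫ f) h
  let p' := pullback.snd (i ≫ f) h
  let j : pullback (i ≫ f) h ⟶ pullback f h :=
    pullback.lift (fst' ≫ i) p' (by rw [Category.assoc, pullback.condition])
  have hj1 : j ≫ pullback.fst f h = fst' ≫ i := pullback.lift_fst ..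
  have hj2 : j ≫ pullback.snd f h = p' := pullback.lift_snd ..
  have sq : IsPullback fst' j i (pullback.fst f h) :=
    IsPullback.of_bot (hj2.symm ▸ IsPullback.of_hasPullback (i ≫ f) h) hj1.symm
      (IsPullback.of_hasPullback f h)
  haveI : IsClosedImmersion j := MorphismProperty.of_isPullback sq inferInstance
  obtain ⟨w', hw'1, hw'2⟩ := Scheme.exists_preimage_of_isPullback sq w z' hw
  have hpw : p'.base w' = IsLocalRing.closedPoint R := by
    rw [← hj2, Scheme.Hom.comp_apply, hw'2, hc]
  have hmax' : FMax p' w' := fun v hv hsp => j.isEmbedding.injective (by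
    rw [hw'2]
    refine hmax _ ?_ (hw'2 ▸ hsp.map j.continuous)
    rw [← Scheme.Hom.comp_apply, hj2, hv, hpw, hc])
  haveI : LocallyOfFiniteType (i ≫ f) := inferInstance
  haveI : LocallyOfFiniteType p' := inferInstanceAs (LocallyOfFiniteType (pullback.snd _ _))
  obtain ⟨a, ha, hpa, hamax, -⟩ := exists_generization_of_isUnivOpenAt
    (isUnivOpenAt_baseChange hopen (IsPullback.of_hasPullback (i ≫ f) h) w' hw'1) hmax'
    (η := (⟨⊥, Ideal.isPrime_bot⟩ : PrimeSpectrum R)) (by
      rw [hpw]; exact IsLocalRing.specializes_closedPoint _)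
  obtain ⟨ξ₀, hξ₀⟩ : ξ ∈ Set.range i.base := by rw [hi, hT]; exact subset_closure rfl
  have hfa : (i ≫ f).base (fst'.base a) = f.base ξ := by
    rw [hξ, ← hpa, ← Scheme.Hom.comp_apply, pullback.condition, Scheme.Hom.comp_apply]
  have hsp : ξ₀ ⤳ fst'.base a := by
    rw [← i.isEmbedding.toIsInducing.specializes_iff, hξ₀, specializes_iff_mem_closure, ← hT, ← hi]
    exact ⟨_, rfl⟩
  have heq : ξ₀ = fst'.base a := fmax_fst (i ≫ f) h (fun v hv hvsp => hamax v (hv.trans hpa) hvsp)
    ξ₀ (by rw [hfa, Scheme.Hom.comp_apply, hξ₀]) hsp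
  refine ⟨j.base a, hw'2 ▸ ha.map j.continuous, ?_, ?_⟩
  · rw [← Scheme.Hom.comp_apply, hj2, hpa]
  · rw [← Scheme.Hom.comp_apply, hj1, Scheme.Hom.comp_apply, ← heq, hξ₀]

/-- A discrete valuation ring with fraction field a finite extension of `κ(η)`, dominating a
specialization `y` of `η`. -/
theorem exists_dvr_hom [IsLocallyNoetherian Y] {y η : Y} (hη : η ⤳ y) (hne : η ≠ y) (F : Type u) [Field F]
    [Algebra (Y.residueField η) F] [FiniteDimensional (Y.residueField η) F] :
    ∃ (R : Type u) (_ : CommRing R) (_ : IsDomain R) (_ : IsDiscreteValuationRing R) (ρ : R →+* F)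
      (h : Spec (CommRingCat.of R) ⟶ Y),
      h.base (IsLocalRing.closedPoint R) = y ∧
      h.base (⟨⊥, Ideal.isPrime_bot⟩ : PrimeSpectrum R) = η ∧
      Spec.map (CommRingCat.ofHom ρ) ≫ h =
        Spec.map (CommRingCat.ofHom (algebraMap (Y.residueField η) F)) ≫ Y.fromSpecResidueField η ∧
      IsPreimmersion (Spec.map (CommRingCat.ofHom ρ)) ∧ Flat (Spec.map (CommRingCat.ofHom ρ)) ∧
      ∀ q : ↥(Spec (CommRingCat.of F)),
        (Spec.map (CommRingCat.ofHom ρ)).base q = (⟨⊥, Ideal.isPrime_bot⟩ : PrimeSpectrum R) := by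
  let ψ : Y.presheaf.stalk y ⟶ Y.residueField η := Y.presheaf.stalkSpecializes hη ≫ Y.residue η
  have hψ : Spec.map ψ ≫ Y.fromSpecStalk y = Y.fromSpecResidueField η := by
    rw [Spec.map_comp, Category.assoc, Scheme.SpecMap_stalkSpecializes_fromSpecStalk]
    rfl
  haveI : (RingHom.ker ψ.hom).IsPrime := RingHom.ker_isPrime _
  let A := Y.presheaf.stalk y ⧸ RingHom.ker ψ.hom
  haveI : IsDomain A := Ideal.Quotient.isDomain _
  haveI : IsLocalRing A := .of_surjective' _ Ideal.Quotient.mk_surjective
  letI algA : Algebra A (Y.residueField η) := (RingHom.kerLift ψ.hom).toAlgebra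
  haveI : FaithfulSMul A (Y.residueField η) :=
    (faithfulSMul_iff_algebraMap_injective _ _).2 (RingHom.kerLift_injective ψ.hom)
  haveI : IsFractionRing A (Y.residueField η) := by
    refine IsFractionRing.of_field _ _ fun z => ?_
    obtain ⟨_, ⟨U, hU, rfl⟩, hyU, -⟩ :=
      Y.isBasis_affineOpens.exists_subset_of_mem_open (Set.mem_univ y) isOpen_univ
    replace hU : IsAffineOpen U := hU
    have hηU : η ∈ U := hη.mem_open U.isOpen hyU
    obtain ⟨t, rfl⟩ := Y.residue_surjective η z
    letI := (Y.presheaf.germ U η hηU).hom.toAlgebra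
    haveI := hU.isLocalization_stalk ⟨η, hηU⟩
    obtain ⟨a, s, rfl⟩ := IsLocalization.exists_mk'_eq (hU.primeIdealOf ⟨η, hηU⟩).asIdeal.primeCompl t
    refine ⟨Ideal.Quotient.mk _ (Y.presheaf.germ U y hyU a),
      Ideal.Quotient.mk _ (Y.presheaf.germ U y hyU s.1), ?_⟩
    have hcomp : ∀ r, ψ (Y.presheaf.germ U y hyU r) =
        Y.residue η (algebraMap Γ(Y, U) (Y.presheaf.stalk η) r) := fun r => by
      show Y.residue η (Y.presheaf.stalkSpecializes hη (Y.presheaf.germ U y hyU r)) = _
      rw [Y.presheaf.germ_stalkSpecializes_apply hyU hη]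
      rfl
    change _ = ψ (Y.presheaf.germ U y hyU a) / ψ (Y.presheaf.germ U y hyU s.1)
    rw [hcomp, hcomp, eq_div_iff]
    · rw [← map_mul, IsLocalization.mk'_spec]
    · exact ((IsLocalization.map_units (Y.presheaf.stalk η) s).map (Y.residue η).hom).ne_zero
  have hA : ¬ IsField A := fun hA => hne (by
    have hmk : RingHom.ker ψ.hom = IsLocalRing.maximalIdeal _ :=
      IsLocalRing.eq_maximalIdeal (Ideal.Quotient.maximal_of_isField _ hA)
    have hpt : (Spec.map ψ).base (IsLocalRing.closedPoint (Y.residueField η)) =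
        IsLocalRing.closedPoint (Y.presheaf.stalk y) := PrimeSpectrum.ext (by
      show (IsLocalRing.maximalIdeal (Y.residueField η)).comap ψ.hom = IsLocalRing.maximalIdeal _
      rw [IsLocalRing.maximalIdeal_eq_bot, ← hmk]
      rfl)
    have := congrArg (fun m : Spec (Y.residueField η) ⟶ Y => m.base (IsLocalRing.closedPoint (Y.residueField η))) hψ
    simp only [Scheme.Hom.comp_apply, hpt, Scheme.fromSpecResidueField_apply] at this
    rw [← this]
    exact Scheme.fromSpecStalk_closedPoint)
  letI algF : Algebra A F := ((algebraMap (Y.residueField η) F).comp (algebraMap A (Y.residueField η))).toAlgebra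
  haveI : IsScalarTower A (Y.residueField η) F := IsScalarTower.of_algebraMap_eq fun _ => rfl
  obtain ⟨C, M, hC, hCF, hM, hM0, hMA⟩ :=
    EGA43Val.exists_dvr_dominating_of_finite A (Y.residueField η) hA F
  haveI := hC
  haveI := hM
  let R := Localization.AtPrime M
  haveI : IsDiscreteValuationRing R :=
    IsLocalization.AtPrime.isDiscreteValuationRing_of_dedekind_domain C hM0 _
  let ρ : R →+* F := IsLocalization.lift (M := M.primeCompl) (g := algebraMap C F) fun s =>
    isUnit_iff_ne_zero.2 fun h0 => s.2 (by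
      rw [(IsFractionRing.injective C F) (h0.trans (map_zero _).symm)]
      exact M.zero_mem)
  letI algR : Algebra R F := ρ.toAlgebra
  haveI : IsScalarTower C R F := IsScalarTower.of_algebraMap_eq fun c => (IsLocalization.lift_eq _ c).symm
  haveI : IsFractionRing R F := IsFractionRing.isFractionRing_of_isDomain_of_isLocalization M.primeCompl R F
  let θ : Y.presheaf.stalk y ⟶ CommRingCat.of R :=
    CommRingCat.ofHom (((algebraMap C R).comp (algebraMap A C)).comp (Ideal.Quotient.mk _))
  let h := Spec.map θ ≫ Y.fromSpecStalk y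
  have hgen : ∀ q : ↥(Spec (CommRingCat.of F)),
      (Spec.map (CommRingCat.ofHom (R := R) ρ)).base q = (⟨⊥, Ideal.isPrime_bot⟩ : PrimeSpectrum R) := by
    intro q
    refine PrimeSpectrum.ext ?_
    show q.asIdeal.comap ρ = ⊥
    rw [((Ideal.eq_bot_or_top q.asIdeal).resolve_right q.isPrime.ne_top)]
    exact Ideal.comap_bot_of_injective _ (IsFractionRing.injective R F)
  have hfac : Spec.map (CommRingCat.ofHom (R := R) ρ) ≫ h =
      Spec.map (CommRingCat.ofHom (algebraMap (Y.residueField η) F)) ≫ Y.fromSpecResidueField η := by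
    rw [← hψ, ← Category.assoc, ← Category.assoc, ← Spec.map_comp, ← Spec.map_comp]
    refine congrArg (fun m => Spec.map m ≫ _) (CommRingCat.hom_ext (RingHom.ext fun r => ?_))
    show ρ (algebraMap C R (algebraMap A C (Ideal.Quotient.mk _ r))) = algebraMap (Y.residueField η) F (ψ r)
    rw [IsLocalization.lift_eq]
    rfl
  refine ⟨R, inferInstance, inferInstance, inferInstance, ρ, h, ?_, ?_, hfac,
    IsPreimmersion.of_isLocalization (R := R) (S := F) (nonZeroDivisors R), ?_, hgen⟩
  · show (Spec.map θ ≫ Y.fromSpecStalk y).base _ = y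
    rw [Scheme.Hom.comp_apply, show (Spec.map θ).base (IsLocalRing.closedPoint R) =
        IsLocalRing.closedPoint (Y.presheaf.stalk y) from PrimeSpectrum.ext (by
      show (IsLocalRing.maximalIdeal R).comap θ.hom = IsLocalRing.maximalIdeal _
      show (IsLocalRing.maximalIdeal R).comap (((algebraMap C R).comp (algebraMap A C)).comp (Ideal.Quotient.mk _)) = _
      have hMR : (IsLocalRing.maximalIdeal R).comap (algebraMap C R) = M :=
        IsLocalization.AtPrime.under_maximalIdeal R M
      rw [← Ideal.comap_comap, ← Ideal.comap_comap, hMR, hMA]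
      exact IsLocalRing.eq_maximalIdeal (Ideal.comap_isMaximal_of_surjective _ Ideal.Quotient.mk_surjective))]
    exact Scheme.fromSpecStalk_closedPoint
  · rw [← hgen (IsLocalRing.closedPoint F), ← Scheme.Hom.comp_apply, hfac, Scheme.Hom.comp_apply,
      Scheme.fromSpecResidueField_apply]
  · rw [HasRingHomProperty.Spec_iff (P := @Flat)]
    exact RingHom.flat_algebraMap_iff.2 (IsLocalization.flat F (nonZeroDivisors R))

variable [IsLocallyNoetherian Y]

/-- **EGA IV 15.3**: at most one component over `η`, universally open at `z`, passes through a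
geometrically reduced maximal point `z` of a fibre. -/
theorem eq_of_isUnivOpenAt {z : X} (hz : FMax f z) (hred : GRF f z) {η : Y} (hη : η ⤳ f.base z)
    (hne : η ≠ f.base z) {ξ₁ ξ₂ : X} (h₁ : f.base ξ₁ = η) (h₂ : f.base ξ₂ = η) {T₁ T₂ : Closeds X}
    (hT₁ : (T₁ : Set X) = closure {ξ₁}) (hT₂ : (T₂ : Set X) = closure {ξ₂})
    {w₁ : ↥(Scheme.IdealSheafData.vanishingIdeal T₁).subscheme}
    {w₂ : ↥(Scheme.IdealSheafData.vanishingIdeal T₂).subscheme}
    (hw₁ : (Scheme.IdealSheafData.vanishingIdeal T₁).subschemeι.base w₁ = z)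
    (hw₂ : (Scheme.IdealSheafData.vanishingIdeal T₂).subschemeι.base w₂ = z)
    (ho₁ : EGA43.IsUnivOpenAt ((Scheme.IdealSheafData.vanishingIdeal T₁).subschemeι ≫ f) w₁)
    (ho₂ : EGA43.IsUnivOpenAt ((Scheme.IdealSheafData.vanishingIdeal T₂).subschemeι ≫ f) w₂) :
    ξ₁ = ξ₂ := by
  obtain ⟨R, _, _, _, ρ, h, hc, hg, -, -, -, -⟩ := exists_dvr_hom hη hne (Y.residueField η)
  obtain ⟨z', hz', hcz', hmax'⟩ := exists_max_lift f hz h hc
  haveI : LocallyOfFiniteType (pullback.snd f h) := inferInstance
  obtain ⟨a₁, ha₁, hp₁, hf₁⟩ := exists_generic_lift f h z' hcz' hmax' hT₁ (h₁.trans hg.symm)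
    (hw₁.trans hz'.symm) ho₁
  obtain ⟨a₂, ha₂, hp₂, hf₂⟩ := exists_generic_lift f h z' hcz' hmax' hT₂ (h₂.trans hg.symm)
    (hw₂.trans hz'.symm) ho₂
  have hne' : ∀ a : ↥(pullback f h), (pullback.snd f h).base a = (⟨⊥, Ideal.isPrime_bot⟩ : PrimeSpectrum R) →
      (pullback.snd f h).base a ≠ IsLocalRing.closedPoint R := fun a ha he =>
    IsDiscreteValuationRing.not_a_field R (congrArg PrimeSpectrum.asIdeal (he.symm.trans ha))
  obtain ⟨-, hu⟩ := generic_unique_of_max (pullback.snd f h) hcz' hmax'
    (isReduced_fiberStalk_baseChange f hred h z' hz') ha₁ (hne' _ hp₁)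
  rw [← hf₁, ← hf₂, hu a₂ ha₂ (hne' _ hp₂)]

/-- **EGA IV 15.3**: the generic fibre is geometrically reduced along a component universally open
at a geometrically reduced maximal point of a fibre. -/
theorem isGeomReducedAt_generic {z : X} (hz : FMax f z) (hred : GRF f z) {η : Y} (hη : η ⤳ f.base z)
    (hne : η ≠ f.base z) (ζ : f.fiber η) {T : Closeds X}
    (hT : (T : Set X) = closure {(f.fiberι η).base ζ})
    {w : ↥(Scheme.IdealSheafData.vanishingIdeal T).subscheme}
    (hw : (Scheme.IdealSheafData.vanishingIdeal T).subschemeι.base w = z)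
    (ho : EGA43.IsUnivOpenAt ((Scheme.IdealSheafData.vanishingIdeal T).subschemeι ≫ f) w) :
    FBase.IsGeomReducedAt (f.fiberToSpecResidueField η) ζ := by
  letI : (f.fiber η).Over (Spec (CommRingCat.of (Y.residueField η))) := ⟨f.fiberToSpecResidueField η⟩
  refine (Groth.VarietyBC.isGeomReducedAt_iff (k := Y.residueField η) (X := f.fiber η) ζ).mpr ?_
  letI := Curv2.stalkAlgebra (Y.residueField η) (f.fiber η) ζ
  refine Groth.VarietyBC.isGeometricallyReduced_of_purelyInseparable fun F _ _ _ _ =>
    Groth.VarietyBC.isReduced_tensor_of_stalks F ζ fun u hu => ?_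
  obtain ⟨R, _, _, _, ρ, h, hc, hg, hfac, hpre, hflat, hgen⟩ := exists_dvr_hom hη hne F
  obtain ⟨z', hz', hcz', hmax'⟩ := exists_max_lift f hz h hc
  haveI : LocallyOfFiniteType (pullback.snd f h) := inferInstance
  obtain ⟨a, ha, hpa, hfsta⟩ := exists_generic_lift f h z' hcz' hmax' hT
    ((apply_fiberι f η ζ).trans hg.symm) (hw.trans hz'.symm) ho
  obtain ⟨hreda, -⟩ := generic_unique_of_max (pullback.snd f h) hcz' hmax'
    (isReduced_fiberStalk_baseChange f hred h z' hz') ha
    (fun he => IsDiscreteValuationRing.not_a_field R (congrArg PrimeSpectrum.asIdeal (he.symm.trans hpa)))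
  let g := f.fiberToSpecResidueField η
  let s := Spec.map (CommRingCat.ofHom (algebraMap (Y.residueField η) F))
  let j := Spec.map (CommRingCat.ofHom ρ)
  have hbig : IsPullback (pullback.fst g s ≫ f.fiberι η) (pullback.snd g s) f (j ≫ h) := by
    rw [hfac]
    exact (IsPullback.of_hasPullback g s).paste_horiz (IsPullback.of_hasPullback f (Y.fromSpecResidueField η))
  let m : pullback g s ⟶ pullback f h := pullback.lift (pullback.fst g s ≫ f.fiberι η) (pullback.snd g s ≫ j)
    (by rw [hbig.w, Category.assoc])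
  have hm1 : m ≫ pullback.fst f h = pullback.fst g s ≫ f.fiberι η := pullback.lift_fst ..
  have hm2 : m ≫ pullback.snd f h = pullback.snd g s ≫ j := pullback.lift_snd ..
  have sq : IsPullback m (pullback.snd g s) (pullback.snd f h) j :=
    IsPullback.of_right (hm1.symm ▸ hbig) hm2 (IsPullback.of_hasPullback f h)
  haveI : IsPreimmersion m := MorphismProperty.of_isPullback sq.flip hpre
  haveI : Flat m := MorphismProperty.of_isPullback sq.flip hflat
  obtain ⟨u₂, hu₂, -⟩ := Scheme.exists_preimage_of_isPullback sq a (IsLocalRing.closedPoint F)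
    (hpa.trans (hgen _).symm)
  have hu₂ζ : (pullback.fst g s).base u₂ = ζ := (f.fiberι η).isEmbedding.injective (by
    rw [← Scheme.Hom.comp_apply, ← hm1, Scheme.Hom.comp_apply, hu₂, hfsta])
  haveI : UniversallyInjective (pullback.fst g s) :=
    MorphismProperty.pullback_fst g s (Groth.PRedWeil.universallyInjective_φ (Y.residueField η) F)
  have huu : u₂ = u := (pullback.fst g s).injective (hu₂ζ.trans hu.symm)
  subst huu
  haveI := Groth.VarietyBC.isIso_stalkMap_of_flat_preimmersion m u₂
  haveI : _root_.IsReduced ((pullback f h).presheaf.stalk (m.base u₂)) := hu₂ ▸ hreda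
  exact isReduced_of_injective (asIso (m.stalkMap u₂)).commRingCatIsoToRingEquiv.symm
    (asIso (m.stalkMap u₂)).commRingCatIsoToRingEquiv.symm.injective

omit [IsLocallyNoetherian Y] in
/-- A closed subset of full fibre dimension at `x` contains the generic point of the only component
of the fibre through `x`. -/
theorem exists_sub_point_of_dim {x z : X} (hz : FMax f z) (hzy : f.base z = f.base x) (hzx : z ⤳ x)
    (hfib : ∀ v : X, v ⤳ x → f.base v = f.base x → z ⤳ v) (T : Closeds X)
    (w₀ : ↥(Scheme.IdealSheafData.vanishingIdeal T).subscheme)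
    (hw₀ : (Scheme.IdealSheafData.vanishingIdeal T).subschemeι.base w₀ = x)
    (hd : FlatMor.fibreDimAt f x ≤
      FlatMor.fibreDimAt ((Scheme.IdealSheafData.vanishingIdeal T).subschemeι ≫ f) w₀) :
    ∃ w, (Scheme.IdealSheafData.vanishingIdeal T).subschemeι.base w = z := by
  let i := (Scheme.IdealSheafData.vanishingIdeal T).subschemeι
  haveI : LocallyOfFiniteType (i ≫ f) := inferInstance
  obtain ⟨v, hv, hfv, hvd⟩ := Groth.Misc6.Equidim.exists_fh_eq (i ≫ f) w₀
  rw [Groth.Misc6.Equidim.fh_comp_preimmersion] at hvd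
  have hvx : i.base v ⤳ x := hw₀ ▸ hv.map i.continuous
  have hfv' : f.base (i.base v) = f.base x := hfv.trans (congrArg f.base hw₀)
  have hzv := hfib _ hvx hfv'
  refine ⟨v, ?_⟩
  by_contra hne
  obtain ⟨v₀, hv₀⟩ : i.base v ∈ Set.range (f.fiberι (f.base x)).base := (f.range_fiberι _).ge hfv'
  obtain ⟨z₀, hz₀⟩ : z ∈ Set.range (f.fiberι (f.base x)).base := (f.range_fiberι _).ge hzy
  have hlt : v₀ < z₀ := lt_of_le_not_ge (Scheme.le_iff_specializes.2
    ((f.fiberι _).isEmbedding.toIsInducing.specializes_iff.1 (hv₀.symm ▸ hz₀.symm ▸ hzv)))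
    (fun hle => hne (hz _ (hfv'.trans hzy.symm) (by
      rw [← hv₀, ← hz₀]
      exact (Scheme.le_iff_specializes.1 hle).map (f.fiberι _).continuous)))
  have hd' := hd.trans hvd.ge
  rw [← hv₀, Groth.Misc6.Equidim.fh_fiberι] at hd'
  have hzd := ((Groth.Misc6.Equidim.fh_le_fibreDimAt f z).trans (Groth.Misc6.Equidim.fibreDimAt_mono f hzx)).trans hd'
  rw [← hz₀, Groth.Misc6.Equidim.fh_fiberι] at hzd
  obtain ⟨n, hn⟩ := Groth.Misc6.Equidim.exists_fh_nat f ((f.fiberι (f.base x)).base v₀)
  rw [Groth.Misc6.Equidim.fh_fiberι] at hn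
  exact absurd (WithBot.coe_le_coe.1 hzd)
    (not_le.2 (Order.height_strictMono hlt (by rw [hn]; exact ENat.natCast_lt_top n)))

/-- At a geometrically unibranch point, exactly one maximal point generizes. -/
theorem max_unique_of_isUnibranch {Z : Scheme.{u}} {y : Z}
    (hy : CAlg2.IsUnibranch (Z.presheaf.stalk y)) {a b : Z} (ha : IsMax a) (hay : a ⤳ y) (hb : IsMax b)
    (hby : b ⤳ y) : a = b := by
  obtain ⟨p, rfl⟩ := Scheme.range_fromSpecStalk.ge hay
  obtain ⟨q, rfl⟩ := Scheme.range_fromSpecStalk.ge hby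
  haveI : IsDomain (CAlg2.red (Z.presheaf.stalk y)) := hy.1
  have hN : (nilradical (Z.presheaf.stalk y)).IsPrime := (Ideal.Quotient.isDomain_iff_prime _).1 hy.1
  have key : ∀ t : PrimeSpectrum (Z.presheaf.stalk y), IsMax ((Z.fromSpecStalk y).base t) →
      t.asIdeal = nilradical (Z.presheaf.stalk y) := fun t ht =>
    le_antisymm (((Groth.FibreDim.isMax_fromSpecStalk_iff t).1 ht).2 ⟨hN, bot_le⟩ (nilradical_le_prime _))
      (nilradical_le_prime _)
  rw [show p = q from PrimeSpectrum.ext ((key p ha).trans (key q hb).symm)]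

/-- A point at which a scheme over a field is geometrically pointwise integral has an integral local
ring. -/
theorem isDomain_stalk_of_isGeomPtIntegralAt {k : Type u} [Field k] {Z : Scheme.{u}}
    (g : Z ⟶ Spec (CommRingCat.of k)) {x : Z} (h : FBase.IsGeomPtIntegralAt g x) :
    IsDomain (Z.presheaf.stalk x) := by
  obtain ⟨u, hu⟩ : ∃ u : ↥(FBase.bc g k), (FBase.bcπ g k).base u = x := by
    obtain ⟨u, hu, -⟩ := Scheme.Pullback.exists_preimage_pullback (f := g)
      (g := Spec.map (CommRingCat.ofHom (algebraMap k k))) x (g.base x) (by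
        rw [show Spec.map (CommRingCat.ofHom (algebraMap k k)) = 𝟙 _ from Spec.map_id _]
        rfl)
    exact ⟨u, hu⟩
  haveI : Flat (Spec.map (CommRingCat.ofHom (algebraMap k k))) := by
    rw [show Spec.map (CommRingCat.ofHom (algebraMap k k)) = 𝟙 _ from Spec.map_id _]
    infer_instance
  haveI : Flat (FBase.bcπ g k) := MorphismProperty.pullback_fst _ _ inferInstance
  haveI := h k u hu
  have h' := Function.Injective.isDomain ((FBase.bcπ g k).stalkMap u).hom
    (Groth.VarietyBC.injective_stalkMap_of_flat (FBase.bcπ g k) u)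
  subst hu
  exact h'

omit [LocallyOfFiniteType f] [IsLocallyNoetherian Y] in
/-- At a point where a fibre has an integral local ring there is a largest generization in the fibre. -/
theorem exists_generic_of_isGeomPtIntegralAt (x : X)
    (hint : FBase.IsGeomPtIntegralAt (f.fiberToSpecResidueField (f.base x)) (f.asFiber x)) :
    ∃ z₀ : ↥(f.fiber (f.base x)), z₀ ⤳ f.asFiber x ∧
      ∀ v : ↥(f.fiber (f.base x)), v ⤳ f.asFiber x → z₀ ⤳ v := by
  haveI : IsDomain ((f.fiber (f.base x)).presheaf.stalk (f.asFiber x)) :=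
    isDomain_stalk_of_isGeomPtIntegralAt _ hint
  refine ⟨((f.fiber (f.base x)).fromSpecStalk (f.asFiber x)).base (⟨⊥, Ideal.isPrime_bot⟩ : PrimeSpectrum _),
    Scheme.range_fromSpecStalk.le ⟨_, rfl⟩, fun v hv => ?_⟩
  obtain ⟨q, rfl⟩ := Scheme.range_fromSpecStalk.ge hv
  exact ((PrimeSpectrum.le_iff_specializes (⟨⊥, Ideal.isPrime_bot⟩ : PrimeSpectrum _) q).1 bot_le).map
    ((f.fiber (f.base x)).fromSpecStalk (f.asFiber x)).continuous

/-- A reduced local ring with a single minimal prime is a domain. -/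
theorem isDomain_of_subsingleton_minimalPrimes {R : Type u} [CommRing R] [Nontrivial R] [_root_.IsReduced R]
    (h : ∀ P ∈ minimalPrimes R, ∀ Q ∈ minimalPrimes R, P = Q) : IsDomain R := by
  obtain ⟨M, hM⟩ := Ideal.exists_maximal R
  haveI := hM.isPrime
  obtain ⟨P, hP, -⟩ := Ideal.exists_minimalPrimes_le (bot_le : (⊥ : Ideal R) ≤ M)
  haveI := hP.1.1
  have hb : P = ⊥ := eq_bot_iff.2 fun r hr => by
    have : r ∈ nilradical R := by
      rw [nilradical_eq_sInf, Submodule.mem_sInf]
      intro q hq
      haveI : Ideal.IsPrime q := hq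
      obtain ⟨Q, hQ, hQq⟩ := Ideal.exists_minimalPrimes_le (bot_le : (⊥ : Ideal R) ≤ q)
      exact hQq (h P hP Q hQ ▸ hr)
    rwa [nilradical_eq_zero] at this
  haveI : (⊥ : Ideal R).IsPrime := hb ▸ hP.1.1
  exact IsDomain.of_bot_isPrime R

end Groth.EGA43Topo.CompUnique
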