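import Groth.Agent.S1363
import Groth.Agent.VarietyBC.Components
import Groth.Prelude.Def_MoreMor

/-!
# Geometric connectedness of the fibres of a proper flat morphism from the generic fibre
-/

set_option autoImplicit false
set_option linter.style.haveILetI false
universe u

open CategoryTheory CategoryTheory.Limits AlgebraicGeometry TopologicalSpace Topology

namespace Groth.EGA43Topo.ProperConn

variable {X S : Scheme.{u}} (f : X ⟶ S)

/-- A geometrically connected fibre has one geometric connected component. -/
theorem nGeomConnComp_eq_one (η : S) [GeometricallyConnected (f.fiberToSpecResidueField η)] :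
    MoreMor.nGeomConnComp f η = 1 := by
  haveI : ConnectedSpace ↥(MoreMor.geomFiber f η) :=
    GeometricallyConnected.geometrically_connectedSpace (f := f.fiberToSpecResidueField η) _ _ _
      (IsPullback.of_hasPullback _ _)
  haveI : Nonempty (_root_.ConnectedComponents ↥(MoreMor.geomFiber f η)) :=
    ⟨_root_.ConnectedComponents.mk (Classical.arbitrary _)⟩
  haveI : Subsingleton (_root_.ConnectedComponents ↥(MoreMor.geomFiber f η)) :=
    ⟨fun a b => Quotient.inductionOn₂' a b fun x y => Quotient.sound' (by
      show connectedComponent x = connectedComponent y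
      rw [PreconnectedSpace.connectedComponent_eq_univ, PreconnectedSpace.connectedComponent_eq_univ])⟩
  exact le_antisymm ((ENat.card_le_one_iff_subsingleton _).2 inferInstance) ((ENat.one_le_card_iff_nonempty _).2 inferInstance)

/-- A nonempty fibre with at most one geometric connected component is geometrically connected. -/
theorem geometricallyConnected_of_nGeomConnComp_le_one (s : S) (hne : Nonempty ↥(f.fiber s))
    (h : MoreMor.nGeomConnComp f s ≤ 1) : GeometricallyConnected (f.fiberToSpecResidueField s) := by
  letI : (f.fiber s).Over (Spec (CommRingCat.of (S.residueField s))) := ⟨f.fiberToSpecResidueField s⟩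
  haveI : Subsingleton (_root_.ConnectedComponents ↥(MoreMor.geomFiber f s)) := (ENat.card_le_one_iff_subsingleton _).1 h
  haveI : Nonempty ↥(MoreMor.geomFiber f s) := by
    obtain ⟨x⟩ := hne
    obtain ⟨z, -⟩ := Scheme.Pullback.exists_preimage_pullback (f := f.fiberToSpecResidueField s)
      (g := Spec.map (CommRingCat.ofHom (algebraMap (S.residueField s) (SeparableClosure (S.residueField s)))))
      x (IsLocalRing.closedPoint _) (Subsingleton.elim _ _)
    exact ⟨z⟩
  haveI : ConnectedSpace ↥(MoreMor.geomFiber f s) := connectedSpace_iff_connectedComponent.2
    ⟨Classical.arbitrary _, Set.eq_univ_of_forall fun y =>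
      _root_.ConnectedComponents.coe_eq_coe'.1 (Subsingleton.elim (α := _root_.ConnectedComponents _) _ _)⟩
  haveI : ConnectedSpace ↥(Curv2.bc (S.residueField s) (f.fiber s) (SeparableClosure (S.residueField s))) :=
    ‹ConnectedSpace ↥(MoreMor.geomFiber f s)›
  exact Groth.VarietyBC.geometricallyConnected_of_connectedSpace_bc (k := S.residueField s) (X := f.fiber s)
    (SeparableClosure (S.residueField s))

/-- For a proper flat morphism of finite presentation, geometric connectedness of a fibre passes to
the nonempty fibres over specializations. -/
theorem geometricallyConnected_fibre_of_specializes [IsProper f] [Flat f] [LocallyOfFinitePresentation f]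
    {η s : S} (hη : η ⤳ s) [GeometricallyConnected (f.fiberToSpecResidueField η)]
    (hne : Nonempty ↥(f.fiber s)) : GeometricallyConnected (f.fiberToSpecResidueField s) := by
  refine geometricallyConnected_of_nGeomConnComp_le_one f s hne (not_lt.1 fun hlt => ?_)
  obtain ⟨V, hV, hVo, hsV⟩ := mem_nhds_iff.1 (Groth.Agent.S1363.result f s 1 hlt)
  have := hV (hη.mem_open hVo hsV)
  exact this.ne' (nGeomConnComp_eq_one f η)

end Groth.EGA43Topo.ProperConn
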