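import Groth.Agent.EGA43Topo.UnibranchScheme
import Groth.Agent.EGA43Topo.UnivOpenFibre
import Groth.Agent.Misc6.Equidim2

/-!
# Applications of Chevalley's criterion (EGA IV 14.4)
-/

universe u

set_option linter.style.haveILetI false

open CategoryTheory CategoryTheory.Limits AlgebraicGeometry TopologicalSpace Topology

namespace Groth.EGA43Topo

open Groth.FibreDim

variable {X Y : Scheme.{u}}

/-- A unibranch point lies on only one component. -/
lemma eq_of_isMax_of_isUnibranch {y a b : Y} (hy : CAlg2.IsUnibranch (Y.presheaf.stalk y))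
    (ha : IsMax a) (hay : a ⤳ y) (hb : IsMax b) (hby : b ⤳ y) : a = b := by
  obtain ⟨p, rfl⟩ : a ∈ Set.range (Y.fromSpecStalk y).base := Scheme.range_fromSpecStalk.ge hay
  obtain ⟨q, rfl⟩ : b ∈ Set.range (Y.fromSpecStalk y).base := Scheme.range_fromSpecStalk.ge hby
  rw [isMax_fromSpecStalk_iff] at ha hb
  haveI hn : (nilradical (Y.presheaf.stalk y)).IsPrime := (Ideal.Quotient.isDomain_iff_prime _).1 hy.1
  have key : ∀ r : PrimeSpectrum (Y.presheaf.stalk y), r.asIdeal ∈ minimalPrimes _ →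
      r = ⟨nilradical _, hn⟩ := fun r hr => PrimeSpectrum.ext
    (le_antisymm (hr.2 ⟨hn, bot_le⟩ (nilradical_le_prime r.asIdeal)) (nilradical_le_prime r.asIdeal))
  rw [key p ha, key q hb]

/-- A unibranch local ring is equidimensional. -/
lemma isEquidim_of_isUnibranch {A : Type u} [CommRing A] [IsLocalRing A] (h : CAlg2.IsUnibranch A) :
    EGA4.IsEquidim A := fun p hp => by
  haveI hn : (nilradical A).IsPrime := (Ideal.Quotient.isDomain_iff_prime _).1 h.1
  haveI := hp.1.1
  rw [show p = nilradical A from le_antisymm (hp.2 ⟨hn, bot_le⟩ (nilradical_le_prime p)) (nilradical_le_prime p)]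
  refine le_antisymm (ringKrullDim_quotient_le _) ?_
  exact (Order.krullDim_le_of_strictMono
    (fun r : PrimeSpectrum A => (⟨r.asIdeal.map (Ideal.Quotient.mk _),
      Ideal.map_isPrime_of_surjective Ideal.Quotient.mk_surjective
        (by rw [Ideal.mk_ker]; exact nilradical_le_prime r.asIdeal)⟩ : PrimeSpectrum (A ⧸ nilradical A)))
    fun a b hab => by
      refine lt_of_le_of_ne (Ideal.map_mono hab.le) fun he => hab.ne (PrimeSpectrum.ext ?_)
      have := congrArg (Ideal.comap (Ideal.Quotient.mk (nilradical A))) (congrArg PrimeSpectrum.asIdeal he)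
      rwa [Ideal.comap_map_mk (nilradical_le_prime a.asIdeal),
        Ideal.comap_map_mk (nilradical_le_prime b.asIdeal)] at this)

variable (f : X ⟶ Y) [LocallyOfFiniteType f]

/-- At a maximal point of a fibre over a geometrically unibranch point, open is universally open. -/
theorem isUnivOpenAt_of_isOpenAt_of_isMax [IsLocallyNoetherian Y] {z : X}
    (hy : CAlg2.IsGeomUnibranch (Y.presheaf.stalk (f.base z)))
    (hz : ∀ z', f.base z' = f.base z → z' ⤳ z → z' = z) (h : EGA43.IsOpenAt f.base z) :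
    EGA43.IsUnivOpenAt f z := by
  obtain ⟨ξ, hξmax, hξz, hfξ, hdim⟩ := exists_component_of_isOpenAt f hz h
  exact isUnivOpenAt_of_component f hz hy hξz hfξ (fun w _ hw => (hw.antisymm (hξmax hw)).eq) hdim.ge

/-- Equidimensionality with geometrically unibranch image gives universal openness at maximal
points of the fibre. -/
theorem isUnivOpenAt_of_equidim_nhd [IsLocallyNoetherian Y] {U : X.Opens} {e : ℕ}
    (h1 : ∀ η ∈ U, IsMax η → IsMax (f.base η)) (h2 : ∀ x' ∈ U, FlatMor.fibreDimAt f x' = e)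
    {z : X} (hzU : z ∈ U) (hy : CAlg2.IsGeomUnibranch (Y.presheaf.stalk (f.base z)))
    (hz : ∀ z', f.base z' = f.base z → z' ⤳ z → z' = z) : EGA43.IsUnivOpenAt f z := by
  obtain ⟨ξ, hξmax, hξz⟩ := exists_max_specializes (X := X) z
  have hξU : ξ ∈ U := hξz.mem_open U.isOpen hzU
  exact isUnivOpenAt_of_component f hz hy hξz (h1 ξ hξU hξmax) (fun w _ hw => (hw.antisymm (hξmax hw)).eq)
    (by rw [h2 z hzU, h2 ξ hξU])

omit [LocallyOfFiniteType f] in
/-- Generic points of maximal fibres over maximal points are maximal. -/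
lemma isMax_of_isMax_fibre {ξ : X} (hfξ : IsMax (f.base ξ))
    (hξ : ∀ w, f.base w = f.base ξ → w ⤳ ξ → w = ξ) : IsMax ξ := fun w hw => by
  have hw' : w ⤳ ξ := hw
  have h1 := hw'.map f.continuous
  exact le_of_eq (hξ w ((h1.antisymm (hfξ h1)).eq) hw')

/-- The component of `ξ` satisfies the dimension condition at `x`. -/
theorem component_condition {x z ξ : X} (hzx : z ⤳ x)
    (hz : ∀ z', f.base z' = f.base z → z' ⤳ z → z' = z) (hd : FlatMor.fibreDimAt f x ≤ FlatMor.fibreDimAt f z)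
    (hξz : ξ ⤳ z) (hξ : IsMax ξ)
    (hdim : FlatMor.fibreDimAt f z ≤ FlatMor.fibreDimAt f ξ)
    {η : Y} (hη : η = f.base ξ) (hx : x ∈ closure ({ξ} : Set X)) :
    FlatMor.fibreDimAt f x = FlatMor.localDim ↥(closure ({ξ} : Set X) ∩ f.base ⁻¹' {f.base x}) ⟨x, ⟨hx, rfl⟩⟩ ∧
      FlatMor.localDim ↥(closure ({ξ} : Set X) ∩ f.base ⁻¹' {f.base x}) ⟨x, ⟨hx, rfl⟩⟩ =
        topologicalKrullDim ↥(closure ({ξ} : Set X) ∩ f.base ⁻¹' {η}) := by
  subst hη
  let W : Closeds X := ⟨closure {ξ}, isClosed_closure⟩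
  obtain ⟨a, -, ha, -, had⟩ := Groth.Misc6.Equidim.exists_fh_eq_inter f W (x := x) ⟨hx, rfl⟩
  have hle : FlatMor.localDim ↥(closure ({ξ} : Set X) ∩ f.base ⁻¹' {f.base x}) ⟨x, ⟨hx, rfl⟩⟩ ≤
      FlatMor.fibreDimAt f x :=
    had.ge.trans ((Groth.Misc6.Equidim.fh_le_fibreDimAt f a).trans (fibreDimAt_le_of_specializes f ha))
  have hge : FlatMor.fibreDimAt f z ≤
      FlatMor.localDim ↥(closure ({ξ} : Set X) ∩ f.base ⁻¹' {f.base x}) ⟨x, ⟨hx, rfl⟩⟩ := by
    rw [(fibreDimAt_eq_height_of_max f hz).1]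
    exact Groth.Misc6.Equidim.fh_le_localDim_inter f W ⟨hx, rfl⟩
      (show z ∈ (W : Set X) from specializes_iff_mem_closure.1 hξz) hzx
  refine ⟨le_antisymm (hd.trans hge) hle, le_antisymm ?_ ?_⟩
  · rw [dim_closure_inter_fibre, ← (fibreDimAt_eq_height_of_max f (z := ξ)
      fun w _ hw => (hw.antisymm (hξ hw)).eq).1]
    exact hle.trans (hd.trans hdim)
  · rw [dim_closure_inter_fibre, ← (fibreDimAt_eq_height_of_max f (z := ξ)
      fun w _ hw => (hw.antisymm (hξ hw)).eq).1]
    exact (fibreDimAt_le_of_specializes f hξz).trans hge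

lemma eq_of_closure_eq {η η' : Y} (h : closure ({η} : Set Y) = closure {η'}) : η = η' :=
  ((specializes_iff_mem_closure.2 (h.ge (subset_closure rfl))).antisymm
    (specializes_iff_mem_closure.2 (h.le (subset_closure rfl)))).eq

omit [LocallyOfFiniteType f] in
/-- The closure of the image of `closure {ξ}`. -/
lemma closure_image_closure_singleton (ξ : X) :
    closure (f.base '' closure {ξ}) = closure {f.base ξ} := by
  refine le_antisymm (closure_minimal ?_ isClosed_closure)
    (closure_mono (Set.singleton_subset_iff.2 ⟨ξ, subset_closure rfl, rfl⟩))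
  refine (image_closure_subset_closure_image f.continuous).trans ?_
  rw [Set.image_singleton]

/-- The data for Chevalley's criterion extracted from a component dominating a component of `Y`. -/
theorem exists_data_of_component {z : X} (hz : ∀ z', f.base z' = f.base z → z' ⤳ z → z' = z)
    {Y₀ : Set Y} (hY₀ : Y₀ ∈ irreducibleComponents (Y : Type u)) {Z : Set X}
    (hZ : Z ∈ irreducibleComponents (X : Type u)) (hx : z ∈ Z) (hcl : closure (f.base '' Z) = Y₀)
    (hdim : ∀ η : Y, closure ({η} : Set Y) = Y₀ →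
      FlatMor.localDim ↥(Z ∩ f.base ⁻¹' {f.base z}) ⟨z, ⟨hx, rfl⟩⟩ = topologicalKrullDim ↥(Z ∩ f.base ⁻¹' {η})) :
    ∃ ξ : X, IsMax ξ ∧ ξ ⤳ z ∧ IsMax (f.base ξ) ∧ FlatMor.fibreDimAt f z = FlatMor.fibreDimAt f ξ := by
  have hg := hZ.1.isGenericPoint_genericPoint (isClosed_of_mem_irreducibleComponents Z hZ)
  generalize hZ.1.genericPoint = ξ at hg
  obtain rfl := hg.def
  rw [closure_image_closure_singleton] at hcl
  have hξ : IsMax ξ := isMax_of_mem_genericPoints hZ
  have hfξ : IsMax (f.base ξ) := isMax_of_mem_genericPoints (hcl ▸ hY₀)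
  have hξz : ξ ⤳ z := specializes_iff_mem_closure.2 hx
  refine ⟨ξ, hξ, hξz, hfξ, ?_⟩
  have h2 := hdim _ hcl
  rw [localDim_closure_inter_fibre f hξz hz, dim_closure_inter_fibre] at h2
  rw [(fibreDimAt_eq_height_of_max f hz).1,
    (fibreDimAt_eq_height_of_max f (z := ξ) fun w _ hw => (hw.antisymm (hξ hw)).eq).1]
  exact h2

/-- Universal openness at a point of a component criterion. -/
theorem isUnivOpenAt_of_exists_component [IsLocallyNoetherian Y] {z : X}
    (hy : CAlg2.IsGeomUnibranch (Y.presheaf.stalk (f.base z)))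
    (hz : ∀ z', f.base z' = f.base z → z' ⤳ z → z' = z)
    (h : ∀ Y₀ ∈ irreducibleComponents (Y : Type u), f.base z ∈ Y₀ →
      ∃ Z ∈ irreducibleComponents (X : Type u), ∃ hx : z ∈ Z, closure (f.base '' Z) = Y₀ ∧
        ∀ η : Y, closure ({η} : Set Y) = Y₀ →
          FlatMor.localDim ↥(Z ∩ f.base ⁻¹' {f.base z}) ⟨z, ⟨hx, rfl⟩⟩ = topologicalKrullDim ↥(Z ∩ f.base ⁻¹' {η})) :
    EGA43.IsUnivOpenAt f z := by
  have hY₀ := irreducibleComponent_mem_irreducibleComponents (f.base z)
  obtain ⟨Z, hZ, hx, hcl, hdim⟩ := h _ hY₀ mem_irreducibleComponent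
  obtain ⟨ξ, hξ, hξz, hfξ, hd⟩ := exists_data_of_component f hz hY₀ hZ hx hcl hdim
  exact isUnivOpenAt_of_component f hz hy hξz hfξ (fun w _ hw => (hw.antisymm (hξ hw)).eq) hd.le

/-- Maximal point of the fibre over the generic point with big dimension gives the component. -/
theorem exists_component_of_dim_inter {x : X} {η : Y} (hη : η ⤳ f.base x) (hηmax : IsMax η)
    (h : ∀ U : X.Opens, x ∈ U →
      FlatMor.fibreDimAt f x ≤ topologicalKrullDim ↥((U : Set X) ∩ f.base ⁻¹' {η})) :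
    ∃ ξ : X, f.base ξ = η ∧ IsMax ξ ∧ ξ ⤳ x ∧ FlatMor.fibreDimAt f x = FlatMor.fibreDimAt f ξ := by
  obtain ⟨d, hd⟩ := fibreDimAt_ne_top f x
  obtain ⟨ξ, hfξ, hξx, hmax, hξd⟩ := exists_specializing_max_point x hη d fun U hU => hd.ge.trans (h U hU)
  subst hfξ
  exact ⟨ξ, rfl, isMax_of_isMax_fibre f hηmax hmax, hξx,
    le_antisymm (hd.le.trans hξd) (fibreDimAt_le_of_specializes f hξx)⟩

/-- Openness gives the dimension condition on every component. -/
theorem exists_component_condition_of_isOpenAt [IsLocallyNoetherian Y] {x : X}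
    (hy : CAlg2.IsUnibranch (Y.presheaf.stalk (f.base x)))
    (h : ∀ z, f.base z = f.base x → z ⤳ x → (∀ z', f.base z' = f.base z → z' ⤳ z → z' = z) →
      EGA43.IsOpenAt f.base z)
    {Y₀ : Set Y} (hY₀ : Y₀ ∈ irreducibleComponents (Y : Type u)) (hxY₀ : f.base x ∈ Y₀) :
    ∃ Z ∈ irreducibleComponents (X : Type u), ∃ hx : x ∈ Z, closure (f.base '' Z) = Y₀ ∧
      ∀ η : Y, closure ({η} : Set Y) = Y₀ →
        FlatMor.fibreDimAt f x = FlatMor.localDim ↥(Z ∩ f.base ⁻¹' {f.base x}) ⟨x, ⟨hx, rfl⟩⟩ ∧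
        FlatMor.localDim ↥(Z ∩ f.base ⁻¹' {f.base x}) ⟨x, ⟨hx, rfl⟩⟩ =
          topologicalKrullDim ↥(Z ∩ f.base ⁻¹' {η}) := by
  obtain ⟨z, hfz, hzx, h0, hzd⟩ := exists_maximal_fibre_point f x
  have hz := (isMax_asFiber_iff f z).1 (Order.coheight_eq_zero.1 h0)
  obtain ⟨ξ, hξ, hξz, hfξ, hdim⟩ := exists_component_of_isOpenAt f hz (h z hfz hzx hz)
  have hg := hY₀.1.isGenericPoint_genericPoint (isClosed_of_mem_irreducibleComponents _ hY₀)
  generalize hY₀.1.genericPoint = η₀ at hg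
  obtain rfl := hg.def
  have hηeq : η₀ = f.base ξ := eq_of_isMax_of_isUnibranch hy (isMax_of_mem_genericPoints hY₀)
    (specializes_iff_mem_closure.2 hxY₀) hfξ ((hξz.map f.continuous).trans (hfz ▸ specializes_rfl))
  refine ⟨_, mem_irreducibleComponents_of_isMax hξ, specializes_iff_mem_closure.1 (hξz.trans hzx),
    by rw [closure_image_closure_singleton, hηeq], fun η hη => ?_⟩
  exact component_condition f hzx hz (by rw [(fibreDimAt_eq_height_of_max f hz).1, hzd]) hξz hξ
    hdim.ge ((eq_of_closure_eq hη).trans hηeq) (specializes_iff_mem_closure.1 (hξz.trans hzx))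

end Groth.EGA43Topo
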