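import Groth.Agent.EGA43Topo.DVRInflate
import Groth.Agent.EGA43Topo.QuasiSection
import Groth.Agent.EGA43Topo.UnibranchApps
import Groth.Agent.EtaleAlgebra.HensDomain
import Groth.Agent.Calg2.CompleteNagata
import Groth.Agent.Calg1.NagataIntegralClosure

/-!
# Universal openness tested on finite extensions of complete discrete valuation rings
-/

universe u

set_option linter.style.haveILetI false

open CategoryTheory CategoryTheory.Limits AlgebraicGeometry TopologicalSpace Topology IsLocalRing

namespace Groth.EGA43Topo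

open Groth.FibreDim

theorem henselianLocalRing_of_complete (C : Type u) [CommRing C] [IsLocalRing C]
    [IsAdicComplete (maximalIdeal C) C] : HenselianLocalRing C where
  is_henselian f hf a₀ h₁ h₂ :=
    HenselianRing.is_henselian (I := maximalIdeal C) f hf a₀ h₁
      (h₂.map (Ideal.Quotient.mk (maximalIdeal C)))

/-- Field valued points at a point with trivial residue field extension are determined by their
image. -/
theorem eq_of_residueFieldMap_surjective {K : Type u} [Field K] {P S : Scheme.{u}} (π : P ⟶ S) {x : P}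
    (a b : Spec (CommRingCat.of K) ⟶ P) (ha : a.base (closedPoint K) = x) (hb : b.base (closedPoint K) = x)
    (hs : Function.Surjective (π.residueFieldMap x)) (h : a ≫ π = b ≫ π) : a = b := by
  have key : ∀ c : Spec (CommRingCat.of K) ⟶ P, c.base (closedPoint K) = x →
      ∃ d : P.residueField x ⟶ CommRingCat.of K, Spec.map d ≫ P.fromSpecResidueField x = c := by
    rintro c rfl
    exact ⟨_, Scheme.descResidueField_stalkClosedPointTo_fromSpecResidueField K P c⟩
  obtain ⟨da, rfl⟩ := key a ha
  obtain ⟨db, rfl⟩ := key b hb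
  rw [Category.assoc, Category.assoc, ← π.SpecMap_residueFieldMap_fromSpecResidueField x,
    ← Spec.map_comp_assoc, ← Spec.map_comp_assoc, cancel_mono] at h
  have h2 := Spec.map_injective h
  congr 2
  ext c
  obtain ⟨c, rfl⟩ := hs c
  exact congr($(congrArg CommRingCat.Hom.hom h2) c)

/-- The image of the closed point of a field lands on the closed point of a local ring. -/
lemma specMap_closedPoint_of_eq {A : Type u} [CommRing A] [IsLocalRing A]
    (p : Spec (CommRingCat.of (ResidueField A))) :
    (Spec.map (CommRingCat.ofHom (residue A))).base p = closedPoint A := by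
  refine PrimeSpectrum.ext (IsLocalRing.eq_maximalIdeal ?_)
  show (Ideal.comap (residue A) p.asIdeal).IsMaximal
  haveI : p.asIdeal.IsMaximal := inferInstance
  exact Ideal.comap_isMaximal_of_surjective _ residue_surjective

lemma eq_bot_of_ne_closedPoint {A : Type u} [CommRing A] [IsDomain A] [IsDiscreteValuationRing A]
    {a : PrimeSpectrum A} (h : a ≠ closedPoint A) : a.asIdeal = ⊥ := by
  by_contra h0
  exact h (PrimeSpectrum.ext (IsLocalRing.eq_maximalIdeal (a.isPrime.isMaximal h0)))

/-- The normalization of a finite extension domain of a complete discrete valuation ring is a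
discrete valuation ring finite over it. -/
theorem exists_dvr_of_finite_domain (A C : Type u) [CommRing A] [IsDomain A] [IsDiscreteValuationRing A]
    [IsAdicComplete (maximalIdeal A) A] [CommRing C] [IsDomain C] [Algebra A C] [Module.Finite A C]
    [FaithfulSMul A C] :
    ∃ (B : Type u) (_ : CommRing B) (_ : IsDomain B) (_ : IsDiscreteValuationRing B) (φ : A →+* B)
      (χ : C →+* B), IsLocalHom φ ∧ φ.Finite ∧ χ.comp (algebraMap A C) = φ ∧
      ∀ c : Ideal C, c.IsMaximal → (maximalIdeal B).comap χ = c := by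
  haveI := henselianLocalRing_of_complete A
  haveI := Groth.EtaleAlgebra.isLocalRing_of_isIntegral_domain A C
  let L := FractionRing C
  haveI : Algebra.EssFiniteType C L := Algebra.EssFiniteType.of_isLocalization L (nonZeroDivisors C)
  haveI : Algebra.EssFiniteType A L := Algebra.EssFiniteType.comp A C L
  let B := integralClosure A L
  haveI : Module.Finite A B :=
    Groth.Calg1.finite_integralClosure_of_isDomain (Groth.Calg2.CompleteNagata.isNagata_of_isAdicComplete A)
  haveI : Algebra.IsIntegral A B := Algebra.IsIntegral.of_finite A B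
  haveI : IsLocalRing B := Groth.EtaleAlgebra.isLocalRing_of_isIntegral_domain A B
  have hint : ∀ c : C, algebraMap C L c ∈ B := fun c =>
    (Algebra.IsIntegral.isIntegral (R := A) c).map (IsScalarTower.toAlgHom A C L)
  let χ : C →+* B := (algebraMap C L).codRestrict B hint
  have hχinj : Function.Injective χ := fun a b hab =>
    IsFractionRing.injective C L (congrArg Subtype.val hab)
  have hAB : Function.Injective (algebraMap A B) := fun a b hab =>
    FaithfulSMul.algebraMap_injective A C (hχinj (Subtype.ext (by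
      show algebraMap C L (algebraMap A C a) = algebraMap C L (algebraMap A C b)
      rw [← IsScalarTower.algebraMap_apply, ← IsScalarTower.algebraMap_apply]
      exact congrArg Subtype.val hab)))
  haveI : IsFractionRing B L := IsFractionRing.of_field _ _ fun z => by
    obtain ⟨a, b, -, hab⟩ := IsFractionRing.div_surjective C z
    exact ⟨χ a, χ b, hab.symm⟩
  haveI : IsIntegrallyClosed B := (isIntegrallyClosed_iff_isIntegrallyClosedIn L).2 inferInstance
  haveI : IsNoetherianRing B := IsNoetherianRing.of_finite A B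
  haveI : IsLocalHom (algebraMap A B) :=
    RingHom.IsIntegral.isLocalHom ‹Algebra.IsIntegral A B›.isIntegral hAB
  have hnf : ¬ IsField B := fun hf => IsDiscreteValuationRing.not_isField A
    (isField_of_isIntegral_of_isField hAB hf)
  have hdvr : IsDiscreteValuationRing B := by
    rw [(IsDiscreteValuationRing.TFAE B hnf).out 0 3 rfl rfl]
    refine ⟨inferInstance, maximalIdeal B,
      ⟨fun h => hnf (IsLocalRing.isField_iff_maximalIdeal_eq.2 h), inferInstance⟩, fun Q hQ => ?_⟩
    haveI := hQ.2
    refine IsLocalRing.eq_maximalIdeal (Ideal.isMaximal_of_isIntegral_of_isMaximal_comap (R := A) Q ?_)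
    obtain ⟨z, hz, hz0⟩ := Submodule.exists_mem_ne_zero_of_ne_bot hQ.1
    exact (Ideal.IsPrime.comap _).isMaximal
      (Ideal.comap_ne_bot_of_integral_mem hz0 hz (Algebra.IsIntegral.isIntegral _))
  refine ⟨B, inferInstance, inferInstance, hdvr, algebraMap A B, χ, inferInstance,
    RingHom.finite_algebraMap.2 inferInstance, RingHom.ext fun a => Subtype.ext
      (IsScalarTower.algebraMap_apply A C L a).symm, fun c hc => ?_⟩
  rw [IsLocalRing.eq_maximalIdeal hc]
  letI := χ.toAlgebra
  haveI : IsScalarTower A C B := IsScalarTower.of_algebraMap_eq fun a => Subtype.ext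
    (IsScalarTower.algebraMap_apply A C L a)
  haveI : Algebra.IsIntegral C B := Algebra.IsIntegral.tower_top A
  exact IsLocalRing.eq_maximalIdeal (Ideal.isMaximal_comap_of_isIntegral_of_isMaximal (R := C) (maximalIdeal B))

/-- A quasi-finite domain over a henselian local ring with a prime over the closed point is finite. -/
theorem finite_of_quasiFinite_henselian {A C : Type u} [CommRing A] [HenselianLocalRing A] [CommRing C]
    [IsDomain C] [Algebra A C] [Algebra.FiniteType A C] [Algebra.QuasiFinite A C]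
    (c : Ideal C) [c.IsPrime] (hc : c.comap (algebraMap A C) = maximalIdeal A) :
    Module.Finite A C := by
  obtain ⟨r, hr, hint⟩ := Algebra.zariskisMainProperty_iff'.1
    (Algebra.ZariskisMainProperty.of_finiteType (R := A) c)
  let C₀ := integralClosure A C
  haveI : Algebra.IsIntegral A C₀ := ⟨fun x => (isIntegral_algHom_iff C₀.val Subtype.val_injective).1 x.2⟩
  haveI : IsLocalRing C₀ := Groth.EtaleAlgebra.isLocalRing_of_isIntegral_domain A C₀
  obtain ⟨m₀, hm₀⟩ := hint r
  let r' : C₀ := ⟨r, IsIntegral.of_pow (n := m₀ + 1) (by omega) (by rwa [pow_succ])⟩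
  have hmax : (c.comap C₀.val.toRingHom).IsMaximal := by
    refine Ideal.isMaximal_of_isIntegral_of_isMaximal_comap (R := A) _ ?_
    rw [Ideal.comap_comap, show C₀.val.toRingHom.comp (algebraMap A C₀) = algebraMap A C from rfl, hc]
    exact IsLocalRing.maximalIdeal.isMaximal A
  have hu : IsUnit r' := by
    by_contra h
    exact hr ((IsLocalRing.eq_maximalIdeal hmax).ge h)
  haveI : Algebra.IsIntegral A C := ⟨fun y => by
    obtain ⟨m, hm⟩ := hint y
    obtain ⟨v, hv⟩ := (hu.pow m).exists_left_inv
    have := IsIntegral.mul (show IsIntegral A (v : C) from v.2) hm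
    rwa [← mul_assoc, show (v : C) * r ^ m = 1 from congrArg Subtype.val hv, one_mul] at this⟩
  exact Algebra.IsIntegral.finite

/-- Necessity: universal openness gives lifts after finite extensions. -/
theorem exists_finite_extension_lift {X Y : Scheme.{u}} (f : X ⟶ Y) [LocallyOfFiniteType f] {x : X}
    (h : EGA43.IsUnivOpenAt f x) (A : Type u) [CommRing A] [IsDomain A] [IsDiscreteValuationRing A]
    [IsAdicComplete (maximalIdeal A) A] (g : Spec (CommRingCat.of A) ⟶ Y)
    (u₀ : Spec (CommRingCat.of (ResidueField A)) ⟶ X)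
    (hu₀ : u₀ ≫ f = Spec.map (CommRingCat.ofHom (residue A)) ≫ g) (hx : x ∈ Set.range u₀.base) :
    ∃ (B : CommRingCat.{u}) (_ : IsDomain B) (_ : IsDiscreteValuationRing B) (φ : A →+* B)
      (_ : IsLocalHom φ) (v : Spec B ⟶ X),
      φ.Finite ∧ v ≫ f = Spec.map (CommRingCat.ofHom φ) ≫ g ∧
      Spec.map (CommRingCat.ofHom (ResidueField.map φ)) ≫ u₀ =
        Spec.map (CommRingCat.ofHom (residue B)) ≫ v := by
  let π := pullback.snd f g
  let p₀ : Spec (CommRingCat.of (ResidueField A)) ⟶ pullback f g :=
    pullback.lift u₀ (Spec.map (CommRingCat.ofHom (residue A))) hu₀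
  have hp₁ : p₀ ≫ pullback.fst f g = u₀ := pullback.lift_fst ..
  have hp₂ : p₀ ≫ π = Spec.map (CommRingCat.ofHom (residue A)) := pullback.lift_snd ..
  let x' := p₀.base (closedPoint (ResidueField A))
  have hfst : (pullback.fst f g).base x' = x := by
    obtain ⟨o, rfl⟩ := hx
    rw [← Scheme.Hom.comp_apply, hp₁, Subsingleton.elim o (closedPoint (ResidueField A))]
  have hsnd : π.base x' = closedPoint A := by
    rw [← Scheme.Hom.comp_apply, hp₂, specMap_closedPoint_of_eq]
  -- the point is rational over the closed point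
  have hsurj : Function.Surjective (π.residueFieldMap x') := by
    have key : ∀ (F : Spec (CommRingCat.of (ResidueField A)) ⟶ Spec (CommRingCat.of A)),
        F = Spec.map (CommRingCat.ofHom (residue A)) →
        Function.Surjective (F.residueFieldMap (closedPoint (ResidueField A))) := by
      rintro _ rfl
      haveI : IsClosedImmersion (Spec.map (CommRingCat.ofHom (residue A))) :=
        IsClosedImmersion.spec_of_surjective _ residue_surjective
      exact Groth.Variety2.Dim.residueFieldMap_surjective _ _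
    have h2 := key _ hp₂
    rw [Scheme.residueFieldMap_comp] at h2
    intro c
    obtain ⟨b, hb⟩ := h2 ((p₀.residueFieldMap (closedPoint (ResidueField A))).hom c)
    exact ⟨b, (p₀.residueFieldMap (closedPoint (ResidueField A))).hom.injective hb⟩
  haveI : LocallyOfFiniteType π := inferInstanceAs (LocallyOfFiniteType (pullback.snd f g))
  have hcl : ∀ x'', π.base x'' = π.base x' → x' ⤳ x'' → x'' = x' := fun x'' h1 h2 => by
    obtain ⟨n, hn, hn'⟩ := exists_relTrdeg_eq_height π x'
    rw [Groth.Variety2.Dim.relTrdeg_eq_zero_of_surjective π x' hsurj, eq_comm, Nat.cast_eq_zero] at hn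
    subst hn
    have hmin := Order.height_eq_zero.1 (by simpa using hn' : Order.height (π.asFiber x') = 0)
    obtain ⟨a, ha⟩ : x'' ∈ Set.range (π.fiberι (π.base x')).base := (π.range_fiberι _).ge h1
    have h3 : a ≤ π.asFiber x' := (le_iff_of_isEmbedding _ (π.fiberι _).isEmbedding _ _).1
      (by rw [ha, π.fiberι_asFiber]; exact h2)
    have h4 := (le_iff_of_isEmbedding _ (π.fiberι _).isEmbedding _ _).2 (hmin h3)
    rw [ha, π.fiberι_asFiber] at h4
    exact ((show x'' ⤳ x' from h4).antisymm h2).eq
  -- a generization over the generic point and its closure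
  obtain ⟨w, hwx, hw⟩ := exists_specializes_of_isUnivOpenAt h A g x' hfst
  let W : Closeds ↥(pullback f g) := ⟨closure {w}, isClosed_closure⟩
  let ι := (Scheme.IdealSheafData.vanishingIdeal W).subschemeι
  let gW := ι ≫ π
  have hr : Set.range ι.base = closure {w} := Groth.Misc6.Equidim.range_sub W
  obtain ⟨x'', hx''⟩ : x' ∈ Set.range ι.base := hr.ge (specializes_iff_mem_closure.1 hwx)
  obtain ⟨w', hw'⟩ : w ∈ Set.range ι.base := hr.ge (subset_closure rfl)
  have hgen : ∀ a, w' ⤳ a := fun a => ι.isEmbedding.toIsInducing.specializes_iff.1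
    (by rw [hw']; exact specializes_iff_mem_closure.2 (hr.le ⟨a, rfl⟩))
  have hgw : gW.base w' = (⟨⊥, Ideal.isPrime_bot⟩ : PrimeSpectrum A) := by
    rw [Scheme.Hom.comp_apply, hw']
    exact PrimeSpectrum.ext (eq_bot_of_ne_closedPoint hw)
  have hopen : ∀ a, EGA43.IsOpenAt gW.base a := fun a U hU => by
    obtain ⟨U', hU'U, hU', haU'⟩ := mem_nhds_iff.1 hU
    have hw'U : w' ∈ U' := (hgen a).mem_open hU' haU'
    have hclosed : IsClosed ({closedPoint A} : Set ↥(Spec (CommRingCat.of A))) :=
      IsLocalRing.isClosed_singleton_closedPoint _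
    by_cases hc : gW.base a = closedPoint A
    · refine Filter.mem_of_superset Filter.univ_mem fun b _ => Set.image_mono hU'U ?_
      by_cases hb : b = closedPoint A
      · exact ⟨a, haU', hc.trans hb.symm⟩
      · exact ⟨w', hw'U, hgw.trans (PrimeSpectrum.ext (eq_bot_of_ne_closedPoint hb).symm)⟩
    · refine Filter.mem_of_superset (hclosed.isOpen_compl.mem_nhds hc) fun b hb => Set.image_mono hU'U ?_
      exact ⟨w', hw'U, hgw.trans (PrimeSpectrum.ext (eq_bot_of_ne_closedPoint hb).symm)⟩
  have hclW : ∀ a, gW.base a = gW.base x'' → x'' ⤳ a → a = x'' := fun a h1 h2 =>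
    ι.isEmbedding.injective ((hcl _ (by
      rw [← hx'', ← Scheme.Hom.comp_apply, ← Scheme.Hom.comp_apply]; exact h1)
      (hx'' ▸ h2.map ι.continuous)).trans hx''.symm)
  obtain ⟨z, hfz, hzx, h0, hzd⟩ := exists_maximal_fibre_point gW x''
  have hz := (isMax_asFiber_iff gW z).1 (Order.coheight_eq_zero.1 h0)
  obtain ⟨ξ, hξ, hξz, hfξ, hd⟩ := exists_component_of_isOpenAt gW hz (hopen z)
  have hξmax : ∀ v, gW.base v = gW.base ξ → v ⤳ ξ → v = ξ := fun v _ hv => (hv.antisymm (hξ hv)).eq
  have hle : FlatMor.fibreDimAt gW x'' ≤ FlatMor.fibreDimAt gW ξ := by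
    rw [hd, (fibreDimAt_eq_height_of_max gW hz).1, hzd]
  have hξbot : gW.base ξ = (⟨⊥, Ideal.isPrime_bot⟩ : PrimeSpectrum A) :=
    ((show gW.base ξ ⤳ (⟨⊥, Ideal.isPrime_bot⟩ : PrimeSpectrum A) from
      hfξ ((PrimeSpectrum.le_iff_specializes _ _).1 bot_le)).antisymm
      ((PrimeSpectrum.le_iff_specializes _ _).1 bot_le)).eq
  obtain ⟨T, j, _, _, ⟨t, ht⟩, _, _, _, hrange⟩ :=
    exists_quasiSection gW hclW (hξz.trans hzx) hξmax hle
  rw [hξbot] at hrange
  obtain ⟨V, hV, htV, -⟩ := exists_isAffineOpen_mem_and_subset (U := (⊤ : T.Opens)) (x := t) trivial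
  haveI : Nonempty V.toScheme := ⟨⟨t, htV⟩⟩
  haveI : IsDomain Γ(T, V) := inferInstance
  obtain ⟨φC, hφC⟩ := Spec.map_surjective (hV.fromSpec ≫ j ≫ gW)
  letI algC : Algebra A Γ(T, V) := φC.hom.toAlgebra
  haveI : LocallyOfFiniteType (Spec.map φC) := hφC ▸ inferInstance
  haveI : LocallyQuasiFinite (Spec.map φC) := hφC ▸ inferInstance
  haveI : Algebra.FiniteType A Γ(T, V) :=
    (HasRingHomProperty.Spec_iff (P := @LocallyOfFiniteType)).1 ‹LocallyOfFiniteType (Spec.map φC)›
  haveI : Algebra.QuasiFinite A Γ(T, V) :=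
    (HasRingHomProperty.Spec_iff (P := @LocallyQuasiFinite)).1 ‹LocallyQuasiFinite (Spec.map φC)›
  let c := hV.primeIdealOf ⟨t, htV⟩
  have hcmax : c.asIdeal.comap (algebraMap A Γ(T, V)) = maximalIdeal A := by
    have h1 : (Spec.map φC).base c = closedPoint A := by
      rw [hφC, Scheme.Hom.comp_apply, hV.fromSpec_primeIdealOf]
      show (j ≫ ι ≫ π).base t = _
      rw [Scheme.Hom.comp_apply, Scheme.Hom.comp_apply, ht, hx'', hsnd]
    exact congrArg PrimeSpectrum.asIdeal h1
  haveI := henselianLocalRing_of_complete A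
  haveI := finite_of_quasiFinite_henselian c.asIdeal hcmax
  haveI : FaithfulSMul A Γ(T, V) := (faithfulSMul_iff_algebraMap_injective _ _).2 (by
    obtain ⟨t₀, ht₀⟩ := hrange
    have hgT : (j ≫ gW).base (genericPoint T) = (⟨⊥, Ideal.isPrime_bot⟩ : PrimeSpectrum A) :=
      (((genericPoint_specializes t₀).map (j ≫ gW).continuous).trans (specializes_of_eq ht₀)).antisymm
        ((PrimeSpectrum.le_iff_specializes _ _).1 bot_le) |>.eq
    have hgV : genericPoint T ∈ V := (genericPoint_specializes t).mem_open V.isOpen htV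
    have h2 : (Spec.map φC).base (hV.primeIdealOf ⟨_, hgV⟩) = (⟨⊥, Ideal.isPrime_bot⟩ : PrimeSpectrum A) := by
      rw [hφC, Scheme.Hom.comp_apply, hV.fromSpec_primeIdealOf]
      exact hgT
    refine (injective_iff_map_eq_zero _).2 fun a ha => ?_
    have : a ∈ (hV.primeIdealOf ⟨_, hgV⟩).asIdeal.comap (algebraMap A Γ(T, V)) := by
      rw [Ideal.mem_comap, ha]; exact Ideal.zero_mem _
    exact (congrArg PrimeSpectrum.asIdeal h2).le this)
  obtain ⟨B, _, _, _, φ, χ, hφloc, hφfin, hχφ, hχmax⟩ := exists_dvr_of_finite_domain A Γ(T, V)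
  haveI := hφloc
  let m : Spec (CommRingCat.of B) ⟶ pullback f g :=
    Spec.map (CommRingCat.ofHom χ) ≫ hV.fromSpec ≫ j ≫ ι
  have hm₂ : m ≫ π = Spec.map (CommRingCat.ofHom φ) := by
    simp only [m, Category.assoc]
    rw [show hV.fromSpec ≫ j ≫ ι ≫ π = Spec.map φC from hφC.symm, ← Spec.map_comp]
    congr 1
    exact CommRingCat.hom_ext hχφ
  refine ⟨CommRingCat.of B, inferInstance, inferInstance, φ, inferInstance, m ≫ pullback.fst f g, hφfin, ?_, ?_⟩
  · rw [Category.assoc, pullback.condition, ← Category.assoc, hm₂]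
  · rw [← hp₁, ← Category.assoc, ← Category.assoc]
    congr 1
    refine eq_of_residueFieldMap_surjective π _ _ ?_ ?_ hsurj ?_ (x := x')
    · rw [Scheme.Hom.comp_apply]
      exact congrArg p₀.base (Subsingleton.elim _ _)
    · rw [Scheme.Hom.comp_apply, specMap_closedPoint_of_eq]
      have hcc : PrimeSpectrum.comap χ (closedPoint B) = c := PrimeSpectrum.ext (hχmax c.asIdeal
        (Ideal.isMaximal_of_isIntegral_of_isMaximal_comap (R := A) _ (hcmax ▸ IsLocalRing.maximalIdeal.isMaximal A)))
      show (j ≫ ι).base (hV.fromSpec.base (PrimeSpectrum.comap χ (closedPoint B))) = x'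
      rw [hcc, hV.fromSpec_primeIdealOf, Scheme.Hom.comp_apply, ht, hx'']
    · rw [Category.assoc, Category.assoc, hp₂, hm₂, ← Spec.map_comp, ← Spec.map_comp]
      congr 1

/-- Sufficiency: lifts after finite extensions of complete discrete valuation rings with algebraically
closed residue fields give universal openness. -/
theorem isUnivOpenAt_of_finite_extension_lift {X Y : Scheme.{u}} [IsLocallyNoetherian Y] (f : X ⟶ Y)
    [LocallyOfFiniteType f] (x : X)
    (h : ∀ (A : Type u) [CommRing A] [IsDomain A] [IsDiscreteValuationRing A]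
        [IsAdicComplete (maximalIdeal A) A] [IsAlgClosed (ResidueField A)]
        (g : Spec (CommRingCat.of A) ⟶ Y), g.base (closedPoint A) = f.base x →
        ∀ u₀ : Spec (CommRingCat.of (ResidueField A)) ⟶ X,
          u₀ ≫ f = Spec.map (CommRingCat.ofHom (residue A)) ≫ g → x ∈ Set.range u₀.base →
          ∃ (B : CommRingCat.{u}) (_ : IsDomain B) (_ : IsDiscreteValuationRing B) (φ : A →+* B)
            (_ : IsLocalHom φ) (v : Spec B ⟶ X),
            φ.Finite ∧ v ≫ f = Spec.map (CommRingCat.ofHom φ) ≫ g ∧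
            Spec.map (CommRingCat.ofHom (ResidueField.map φ)) ≫ u₀ =
              Spec.map (CommRingCat.ofHom (residue B)) ≫ v) :
    EGA43.IsUnivOpenAt f x := by
  refine isUnivOpenAt_of_dvr f x fun A _ _ _ g hg x' hx' hx'c => ?_
  let K := AlgebraicClosure ((pullback f g).residueField x')
  let p₀ : Spec (CommRingCat.of K) ⟶ pullback f g :=
    Spec.map (CommRingCat.ofHom (algebraMap ((pullback f g).residueField x') K)) ≫
      (pullback f g).fromSpecResidueField x'
  have hp₀ : ∀ o, p₀.base o = x' := fun o => by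
    rw [Scheme.Hom.comp_apply, Scheme.fromSpecResidueField_apply]
  obtain ⟨φ₀, hφ₀⟩ := Spec.map_surjective (p₀ ≫ pullback.snd f g)
  have hker : RingHom.ker φ₀.hom = maximalIdeal A := by
    have h1 : (Spec.map φ₀).base (closedPoint K) = closedPoint A := by
      rw [hφ₀, Scheme.Hom.comp_apply, hp₀, hx'c]
    refine Eq.trans ?_ (congrArg PrimeSpectrum.asIdeal h1)
    show _ = Ideal.comap φ₀.hom (maximalIdeal K)
    rw [IsLocalRing.isField_iff_maximalIdeal_eq.1 (Field.toIsField K)]
    rfl
  let φ : ResidueField A →+* K := Ideal.Quotient.lift _ φ₀.hom fun a ha => hker.ge ha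
  obtain ⟨E, _, _, _, ψ, _, _, hψinj, -, θ, hθ⟩ := exists_complete_dvr A K φ
  haveI : IsAlgClosed (ResidueField E) := IsAlgClosed.of_ringEquiv K _ θ.symm
  let g' := Spec.map (CommRingCat.ofHom ψ) ≫ g
  let q₀ : Spec (CommRingCat.of (ResidueField E)) ⟶ pullback f g :=
    Spec.map (CommRingCat.ofHom θ.symm.toRingHom) ≫ p₀
  have hq₀ : q₀ ≫ pullback.snd f g =
      Spec.map (CommRingCat.ofHom (residue E)) ≫ Spec.map (CommRingCat.ofHom ψ) := by
    simp only [q₀, Category.assoc, ← hφ₀, ← Spec.map_comp]
    congr 1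
    ext a
    show θ.symm (φ₀.hom a) = residue E (ψ a)
    rw [← θ.symm_apply_apply (residue E (ψ a)), hθ]
    rfl
  have hg' : g'.base (closedPoint E) = f.base x := by
    rw [Scheme.Hom.comp_apply, ← hg]
    exact congrArg g.base (IsLocalRing.comap_closedPoint ψ)
  obtain ⟨B, _, _, φB, _, v, hfin, hv, hres⟩ := h E g' hg' (q₀ ≫ pullback.fst f g)
    (by simp only [g', Category.assoc, pullback.condition, ← reassoc_of% hq₀])
    ⟨closedPoint _, by rw [Scheme.Hom.comp_apply, Scheme.Hom.comp_apply, hp₀, hx']⟩
  have hφB : Function.Injective φB := by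
    refine (injective_iff_map_eq_zero φB).2 fun a ha => ?_
    by_contra hne
    obtain ⟨ϖ, hϖ⟩ := IsDiscreteValuationRing.exists_irreducible E
    obtain ⟨n, u, rfl⟩ := IsDiscreteValuationRing.eq_unit_mul_pow_irreducible hne hϖ
    rw [map_mul, IsUnit.mul_right_eq_zero (u.isUnit.map φB), map_pow] at ha
    have hkill : ∀ b ∈ maximalIdeal E, φB b = 0 := fun b hb => by
      obtain ⟨c, rfl⟩ := Ideal.mem_span_singleton.1 (hϖ.maximalIdeal_eq.le hb)
      rw [map_mul, eq_zero_of_pow_eq_zero ha, zero_mul]
    refine IsDiscreteValuationRing.not_isField B ?_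
    let φk : ResidueField E →+* B := Ideal.Quotient.lift _ φB hkill
    letI := φk.toAlgebra
    haveI : Algebra.IsIntegral (ResidueField E) B :=
      ⟨fun b => (RingHom.Finite.to_isIntegral (RingHom.Finite.of_comp_finite
        (f := residue E) (g := φk) hfin)) b⟩
    exact isField_of_isIntegral_of_isField' (R := ResidueField E) (Field.toIsField _)
  let mB : Spec B ⟶ pullback f g :=
    pullback.lift v (Spec.map (CommRingCat.ofHom (φB.comp ψ))) (by
      rw [hv, CommRingCat.ofHom_comp, Spec.map_comp, Category.assoc])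
  have hm₁ : mB ≫ pullback.fst f g = v := pullback.lift_fst ..
  have hm₂ : mB ≫ pullback.snd f g = Spec.map (CommRingCat.ofHom (φB.comp ψ)) := pullback.lift_snd ..
  have heq : Spec.map (CommRingCat.ofHom (residue B)) ≫ mB =
      Spec.map (CommRingCat.ofHom (ResidueField.map φB)) ≫ q₀ := by
    refine pullback.hom_ext ?_ ?_
    · rw [Category.assoc, hm₁, Category.assoc, ← hres]
    · rw [Category.assoc, hm₂, Category.assoc, hq₀, ← Spec.map_comp, ← Spec.map_comp, ← Spec.map_comp]
      congr 1
  have hclB : mB.base (closedPoint B) = x' := by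
    have := congrArg (fun F => F.base (closedPoint (ResidueField B))) heq
    simp only [Scheme.Hom.comp_apply, specMap_closedPoint_of_eq] at this
    rw [this]
    exact hp₀ _
  refine ⟨mB.base (⟨⊥, Ideal.isPrime_bot⟩ : PrimeSpectrum B),
    hclB ▸ ((PrimeSpectrum.le_iff_specializes (⟨⊥, Ideal.isPrime_bot⟩ : PrimeSpectrum B) (closedPoint B)).1 bot_le).map mB.continuous,
    fun hc => IsDiscreteValuationRing.not_a_field A ?_⟩
  rw [← Scheme.Hom.comp_apply, hm₂] at hc
  have := congrArg PrimeSpectrum.asIdeal hc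
  rw [show ((Spec.map (CommRingCat.ofHom (φB.comp ψ))).base (⟨⊥, Ideal.isPrime_bot⟩ : PrimeSpectrum B)).asIdeal =
    RingHom.ker (φB.comp ψ) from rfl, (RingHom.injective_iff_ker_eq_bot (φB.comp ψ)).1 (show Function.Injective (φB.comp ψ) from hφB.comp hψinj)] at this
  exact this.symm

end Groth.EGA43Topo
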