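import Groth.Agent.S2088
import Mathlib.RingTheory.AdicCompletion.LocalRing
import Mathlib.RingTheory.DiscreteValuationRing.Basic
import Mathlib.RingTheory.Flat.Basic

/-!
# Complete discrete valuation rings with prescribed residue field (EGA 0_III 10.3.1)
-/

universe u

set_option linter.style.haveILetI false

open IsLocalRing

namespace Groth.EGA43Topo

/-- A torsion-free element stays torsion-free in the completion along it. -/
theorem eq_zero_of_mul_eq_zero_completion {R : Type u} [CommRing R] (π : R)
    (hreg : ∀ z : R, π * z = 0 → z = 0) (x : AdicCompletion (Ideal.span {π}) R)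
    (hx : π • x = 0) : x = 0 := by
  refine AdicCompletion.ext fun n => ?_
  obtain ⟨z, hz⟩ := Ideal.Quotient.mk_surjective (x.val (n + 1))
  have h1 : π * z ∈ (Ideal.span {π} ^ (n + 1) • ⊤ : Submodule R R) := by
    have := congrArg (fun y : AdicCompletion (Ideal.span {π}) R => y.val (n + 1)) hx
    simp only [AdicCompletion.val_smul, Pi.smul_apply, AdicCompletion.val_zero, Pi.zero_apply, ← hz] at this
    exact (Submodule.Quotient.mk_eq_zero _).1 this
  rw [smul_eq_mul, Ideal.mul_top, Ideal.span_singleton_pow, Ideal.mem_span_singleton] at h1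
  obtain ⟨c, hc⟩ := h1
  have hzc : z = π ^ n * c := sub_eq_zero.1 (hreg _ (by rw [mul_sub, hc, pow_succ]; ring))
  rw [AdicCompletion.val_zero, Pi.zero_apply, ← x.2 (Nat.le_succ n), ← hz]
  refine (Submodule.Quotient.mk_eq_zero _).2 ?_
  rw [smul_eq_mul, Ideal.mul_top, Ideal.span_singleton_pow, Ideal.mem_span_singleton, hzc]
  exact dvd_mul_right _ _

/-- A complete local ring whose maximal ideal is generated by a regular element is a discrete
valuation ring. -/
theorem isDiscreteValuationRing_of_complete {E : Type u} [CommRing E] [IsLocalRing E]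
    [IsAdicComplete (maximalIdeal E) E] (π : E) (hm : maximalIdeal E = Ideal.span {π})
    (hreg : ∀ x : E, π * x = 0 → x = 0) :
    ∃ _ : IsDomain E, IsDiscreteValuationRing E := by
  classical
  have hπ : π ∈ maximalIdeal E := hm ▸ Ideal.mem_span_singleton_self π
  have hdec : ∀ x : E, x ≠ 0 → ∃ (n : ℕ) (v : Eˣ), x = v * π ^ n := fun x hx => by
    obtain ⟨n, hn⟩ : ∃ n, x ∉ maximalIdeal E ^ n := by
      by_contra hall
      push Not at hall
      refine hx (IsHausdorff.haus (inferInstance : IsHausdorff (maximalIdeal E) E) x fun n => ?_)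
      rw [SModEq.zero, smul_eq_mul, Ideal.mul_top]
      exact hall n
    induction n with
    | zero => simp at hn
    | succ n ih =>
      by_cases h : x ∈ maximalIdeal E ^ n
      · rw [hm, Ideal.span_singleton_pow, Ideal.mem_span_singleton] at h hn
        obtain ⟨c, rfl⟩ := h
        have hc : IsUnit c := by
          by_contra hc
          have hc' : c ∈ maximalIdeal E := hc
          rw [hm, Ideal.mem_span_singleton] at hc'
          exact hn (pow_succ π n ▸ mul_dvd_mul_left _ hc')
        exact ⟨n, hc.unit, by rw [IsUnit.unit_spec, mul_comm]⟩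
      · exact ih h
  have hpow : ∀ n, π ^ n ≠ 0 := fun n => by
    induction n with
    | zero => simp
    | succ n ih => exact fun h => ih (hreg _ (by rwa [← pow_succ']))
  haveI : NoZeroDivisors E := ⟨fun {a b} hab => by
    by_contra hcon
    push Not at hcon
    obtain ⟨n, v, rfl⟩ := hdec a hcon.1
    obtain ⟨m, w, rfl⟩ := hdec b hcon.2
    refine hpow (n + m) ((v * w).isUnit.mul_right_eq_zero.mp ?_)
    rw [Units.val_mul, pow_add, ← hab]; ring⟩
  haveI : IsDomain E := NoZeroDivisors.to_isDomain E
  refine ⟨inferInstance, IsDiscreteValuationRing.ofHasUnitMulPowIrreducibleFactorization ⟨π, ?_, fun {x} hx => ?_⟩⟩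
  · refine irreducible_iff.2 ⟨hπ, fun a b hab => ?_⟩
    by_contra hcon
    push Not at hcon
    obtain ⟨a', rfl⟩ := Ideal.mem_span_singleton.1 (hm.le hcon.1)
    obtain ⟨b', rfl⟩ := Ideal.mem_span_singleton.1 (hm.le hcon.2)
    refine (IsLocalRing.maximalIdeal.isMaximal E).ne_top ((Ideal.eq_top_iff_one _).2 ?_)
    have h1 : π * (a' * (π * b') - 1) = 0 := by linear_combination -hab
    rw [← sub_eq_zero.1 (hreg _ h1)]
    exact Ideal.mul_mem_left _ _ (Ideal.mul_mem_right _ _ hπ)
  · obtain ⟨n, v, rfl⟩ := hdec x hx
    exact ⟨n, v, mul_comm _ _⟩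

/-- **Inflation of discrete valuation rings**: a DVR is dominated by a complete one with any prescribed
residue field extension. -/
theorem exists_complete_dvr (A : Type u) [CommRing A] [IsDomain A] [IsDiscreteValuationRing A]
    (K : Type u) [Field K] (φ : ResidueField A →+* K) :
    ∃ (E : Type u) (_ : CommRing E) (_ : IsDomain E) (_ : IsDiscreteValuationRing E)
      (ψ : A →+* E) (_ : IsLocalHom ψ),
      IsAdicComplete (maximalIdeal E) E ∧ Function.Injective ψ ∧
      (maximalIdeal A).map ψ = maximalIdeal E ∧
      ∃ θ : ResidueField E ≃+* K, ∀ a, θ (residue E (ψ a)) = φ (residue A a) := by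
  letI := φ.toAlgebra
  obtain ⟨R', _, _, _, _, hflat, hmax, ⟨θ₀⟩⟩ := Groth.Agent.S2088.result (R := A) (K := K)
  obtain ⟨ϖ, hϖ⟩ := IsDiscreteValuationRing.exists_irreducible A
  let π := algebraMap A R' ϖ
  have hm' : maximalIdeal R' = Ideal.span {π} := by
    rw [← hmax, hϖ.maximalIdeal_eq, Ideal.map_span, Set.image_singleton]
  have hfg : (maximalIdeal R').FG := ⟨{π}, by rw [Finset.coe_singleton]; exact hm'.symm⟩
  have hreg : ∀ z : R', π * z = 0 → z = 0 := fun z hz => by
    have h1 : IsSMulRegular R' π :=
      IsSMulRegular.of_flat (S := R') (IsRegular.of_ne_zero hϖ.ne_zero).left.isSMulRegular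
    exact h1 (show π • z = π • (0 : R') by rw [smul_zero]; exact hz)
  haveI := AdicCompletion.isLocalRing_of_fg hfg
  haveI := AdicCompletion.algebraMap_isLocalHom_of_fg hfg
  haveI := AdicCompletion.isAdicComplete_of_fg hfg
  let E := AdicCompletion (maximalIdeal R') R'
  have hmE : maximalIdeal E = Ideal.span {algebraMap R' E π} := by
    refine (AdicCompletion.maximalIdeal_eq_map_of_fg hfg).trans ((congrArg (Ideal.map _) hm').trans ?_)
    rw [Ideal.map_span, Set.image_singleton]
  have hregE : ∀ x : E, algebraMap R' E π * x = 0 → x = 0 := by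
    have key : ∀ (J : Ideal R'), J = Ideal.span {π} → ∀ x : AdicCompletion J R', π • x = 0 → x = 0 := by
      rintro _ rfl; exact eq_zero_of_mul_eq_zero_completion π hreg
    intro x hx
    exact key _ hm' x (by rw [Algebra.smul_def]; exact hx)
  obtain ⟨_, _⟩ := isDiscreteValuationRing_of_complete _ hmE hregE
  let ψ : A →+* E := (algebraMap R' E).comp (algebraMap A R')
  haveI : IsLocalHom ψ := RingHom.isLocalHom_comp _ _
  refine ⟨E, inferInstance, inferInstance, inferInstance, ψ, inferInstance, inferInstance, ?_, ?_, ?_⟩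
  · refine (injective_iff_map_eq_zero ψ).2 fun a ha => ?_
    by_contra hne
    obtain ⟨n, v, rfl⟩ := IsDiscreteValuationRing.eq_unit_mul_pow_irreducible hne hϖ
    rw [map_mul, IsUnit.mul_right_eq_zero (v.isUnit.map ψ), map_pow] at ha
    exact one_ne_zero (hregE 1 (by rw [mul_one]; exact eq_zero_of_pow_eq_zero ha))
  · rw [hϖ.maximalIdeal_eq, Ideal.map_span, Set.image_singleton]
    exact hmE.symm
  · refine ⟨(RingEquiv.ofBijective _ (AdicCompletion.residueField_map_bijective_of_fg hfg)).symm.trans
      θ₀.toRingEquiv, fun a => ?_⟩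
    show θ₀ ((RingEquiv.ofBijective _ _).symm (residue E (algebraMap R' E (algebraMap A R' a)))) = _
    rw [← IsLocalRing.ResidueField.map_residue,
      show IsLocalRing.ResidueField.map (algebraMap R' E) (residue R' (algebraMap A R' a)) =
        RingEquiv.ofBijective _ (AdicCompletion.residueField_map_bijective_of_fg hfg)
          (residue R' (algebraMap A R' a)) from rfl, RingEquiv.symm_apply_apply,
      ← IsLocalRing.ResidueField.algebraMap_residue]
    exact θ₀.commutes _

end Groth.EGA43Topo
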