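import Groth.Agent.FibreDim.Equidim
import Groth.Agent.FibreDim.Composition
import Groth.Agent.CMMor.Criterion
import Groth.Agent.AlgSp2.SmoothAtLifts

/-!
# Flat morphisms with Cohen–Macaulay fibres are equidimensional (EGA IV 13.3, 14.3)
-/

set_option autoImplicit false
universe u

open CategoryTheory CategoryTheory.Limits AlgebraicGeometry TopologicalSpace Topology

namespace Groth.EGA43Topo

/-- Maximal points near `y` specialize to `y`. -/
theorem exists_open_isMax_specializes {Y : Scheme.{u}} [IsLocallyNoetherian Y] (y : Y) :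
    ∃ V : Y.Opens, y ∈ V ∧ ∀ η ∈ V, IsMax η → η ⤳ y := by
  obtain ⟨W, hW, hyW, -⟩ := exists_isAffineOpen_mem_and_subset (U := ⊤) (Set.mem_univ y)
  haveI : CompactSpace W := isCompact_iff_compactSpace.mp hW.isCompact
  haveI : AlgebraicGeometry.IsNoetherian (W : Scheme.{u}) := ⟨⟩
  let bad : Set (W : Scheme.{u}) := ⋃ T ∈ {T ∈ irreducibleComponents (W : Scheme.{u}) | (⟨y, hyW⟩ : (W : Scheme.{u})) ∉ T}, T
  have hbad : IsClosed bad :=
    (NoetherianSpace.finite_irreducibleComponents.subset fun T hT => hT.1).isClosed_biUnion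
      fun T hT => isClosed_of_mem_irreducibleComponents T hT.1
  refine ⟨W.ι ''ᵁ ⟨badᶜ, hbad.isOpen_compl⟩, ⟨⟨y, hyW⟩, ?_, rfl⟩, ?_⟩
  · show _ ∉ bad
    simp only [bad, Set.mem_iUnion, not_exists]
    exact fun T hT h => hT.2 h
  · rintro _ ⟨η, hη, rfl⟩ hmax
    have hT := irreducibleComponent_mem_irreducibleComponents η
    have hg := hT.1.isGenericPoint_genericPoint (isClosed_of_mem_irreducibleComponents _ hT)
    have h1 := (hg.specializes mem_irreducibleComponent).map W.ι.continuous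
    have h2 : W.ι.base hT.1.genericPoint = W.ι.base η := (Specializes.antisymm h1 (hmax h1)).eq
    have hyT : (⟨y, hyW⟩ : (W : Scheme.{u})) ∈ irreducibleComponent η := by
      by_contra hc
      exact hη (Set.mem_biUnion ⟨hT, hc⟩ mem_irreducibleComponent)
    have h3 := (hg.specializes hyT).map W.ι.continuous
    rw [h2] at h3
    exact h3

theorem isEquidimAt_of_isCMAt {X Y : Scheme.{u}} [IsLocallyNoetherian Y] (f : X ⟶ Y)
    [LocallyOfFiniteType f] (x : X) (h : MoreMor.IsCMAt f x) : EGA43.IsEquidimAt f x := by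
  haveI : IsLocallyNoetherian X := LocallyOfFiniteType.isLocallyNoetherian f
  haveI : LocallyOfFinitePresentation f := Groth.AlgSp2.lfp_of_lft f
  rw [Groth.FibreDim.isEquidimAt_iff]
  obtain ⟨U, hxU, hU⟩ := Groth.CMMor.exists_nhd_isCMAt f x h
  obtain ⟨d, hd⟩ := Groth.CMMor.exists_fibreDimAt_eq_nat f x
  obtain ⟨V, hyV, hV⟩ := exists_open_isMax_specializes (f.base x)
  refine ⟨d, U ⊓ f ⁻¹ᵁ V, ⟨hxU, hyV⟩, fun η hη hmax => ?_, fun x' hx' => (hU x' hx'.1).2.trans hd⟩
  have hfmax : IsMax (f.base η) := fun y' hy' => by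
    obtain ⟨w, hw, hfw⟩ := Groth.FibreDim.generalizing_of_flat_stalkMap f η (hU η hη.1).1.1 η
      specializes_rfl y' hy'
    rw [← hfw, show w = η from (Specializes.antisymm hw (hmax hw)).eq]
  exact ⟨hfmax, hV _ hη.2 hfmax⟩

end Groth.EGA43Topo
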