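import Groth.Agent.SGA7.IdComponent
import Groth.Agent.FibreDim.OpenFibre

/-!
# Connected components of fibres as open and closed subsets
-/

set_option autoImplicit false
set_option linter.style.haveILetI false
universe u

open CategoryTheory CategoryTheory.Limits AlgebraicGeometry TopologicalSpace Topology

namespace Groth.EGA43Topo.ProperConn

variable {X Y : Scheme.{u}} (f : X ⟶ Y)

/-- The connected component of a fibre, pulled back to the scheme-theoretic fibre. -/
theorem preimage_connectedComponentIn (y : Y) (z : f.fiber y) :
    (f.fiberι y).base ⁻¹' connectedComponentIn (f.base ⁻¹' {y}) ((f.fiberι y).base z) =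
      connectedComponent z := by
  have hmem : ∀ w : f.fiber y, (f.fiberι y).base w ∈ f.base ⁻¹' {y} := fun w =>
    Groth.FibreDim.apply_fiberι f y w
  refine Set.Subset.antisymm ?_ ?_
  · have hsub : connectedComponentIn (f.base ⁻¹' {y}) ((f.fiberι y).base z) ⊆ Set.range (f.fiberι y).base := by
      rw [f.range_fiberι]
      exact connectedComponentIn_subset _ _
    have h : _root_.IsPreconnected ((f.fiberι y).base ⁻¹'
        connectedComponentIn (f.base ⁻¹' {y}) ((f.fiberι y).base z)) := by
      rw [← (f.fiberι y).isEmbedding.toIsInducing.isPreconnected_image,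
        Set.image_preimage_eq_of_subset hsub]
      exact isPreconnected_connectedComponentIn
    exact h.subset_connectedComponent (mem_connectedComponentIn (hmem z))
  · rw [← Set.image_subset_iff]
    refine (isPreconnected_connectedComponent.image _ (f.fiberι y).continuous.continuousOn).subset_connectedComponentIn
      ⟨z, mem_connectedComponent, rfl⟩ ?_
    rintro _ ⟨w, -, rfl⟩
    exact hmem w

/-- Connected components of fibres of morphisms locally of finite type are open and closed. -/
theorem isClopen_preimage_connectedComponentIn [LocallyOfFiniteType f] {y : Y} {x : X} (hx : f.base x = y) :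
    IsClopen ((f.fiberι y).base ⁻¹' connectedComponentIn (f.base ⁻¹' {y}) x) := by
  obtain ⟨z, rfl⟩ : x ∈ Set.range (f.fiberι y).base := (f.range_fiberι y).ge hx
  haveI : LocallyOfFiniteType (f.fiberToSpecResidueField y) :=
    inferInstanceAs (LocallyOfFiniteType (pullback.snd f (Y.fromSpecResidueField y)))
  haveI : IsLocallyNoetherian (f.fiber y) :=
    LocallyOfFiniteType.isLocallyNoetherian (f.fiberToSpecResidueField y)
  haveI := Groth.SGA7.IdComponent.locallyConnectedSpace (X := f.fiber y)
  rw [preimage_connectedComponentIn]
  exact ⟨isClosed_connectedComponent, isOpen_connectedComponent⟩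

end Groth.EGA43Topo.ProperConn
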