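import Groth.Agent.EGA43Topo.UnibranchWrapper
import Groth.Agent.S9812

/-!
# Universal openness tested on finite base changes, ring form (EGA IV 14.4.9)

The point of the proof: a valued point of the normalization selects, for each finite subalgebra, a
point of the base change; if each of these generizes to one of finitely many candidates, then one
candidate works for the whole normalization, to which Chevalley's criterion applies.
-/

universe u

set_option linter.style.haveILetI false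
set_option synthInstance.maxHeartbeats 100000

open TensorProduct

namespace Groth.EGA43Topo

lemma trdeg_eq_of_isAlgebraic_square {R₁ R₂ S₁ S₂ : Type u} [CommRing R₁] [CommRing R₂] [CommRing S₁]
    [CommRing S₂] [IsDomain R₁] [IsDomain S₂] [Algebra R₁ R₂] [Algebra R₁ S₁] [Algebra R₂ S₂]
    [Algebra S₁ S₂] [Algebra R₁ S₂] [IsScalarTower R₁ R₂ S₂] [IsScalarTower R₁ S₁ S₂]
    [FaithfulSMul R₁ R₂] [FaithfulSMul R₁ S₁] [FaithfulSMul R₂ S₂] [FaithfulSMul S₁ S₂]
    [Algebra.IsAlgebraic R₁ R₂] [Algebra.IsAlgebraic S₁ S₂] :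
    Algebra.trdeg R₂ S₂ = Algebra.trdeg R₁ S₁ := by
  haveI : IsDomain S₁ := (FaithfulSMul.algebraMap_injective S₁ S₂).isDomain
  haveI : IsDomain R₂ := (FaithfulSMul.algebraMap_injective R₂ S₂).isDomain
  have h1 := trdeg_add_eq R₁ R₂ (A := S₂)
  have h2 := trdeg_add_eq R₁ S₁ (A := S₂)
  rw [trdeg_eq_zero (R := R₁) (A := R₂), zero_add] at h1
  rw [trdeg_eq_zero (R := S₁) (A := S₂), add_zero] at h2
  exact h1.trans h2.symm

/-- The relative transcendence degree is unchanged by integral base change. -/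
lemma trdeg_quotient_eq_of_isIntegral {R N S S' : Type u} [CommRing R] [CommRing N] [CommRing S] [CommRing S']
    [Algebra R N] [Algebra R S] [Algebra N S'] [Algebra.IsIntegral R N] (ι : S →+* S') (hι : ι.IsIntegral)
    (hsq : ι.comp (algebraMap R S) = (algebraMap N S').comp (algebraMap R N))
    (p : Ideal R) [p.IsPrime] (n : Ideal S) [n.IsPrime] [n.LiesOver p]
    (pN : Ideal N) [pN.IsPrime] (n' : Ideal S') [n'.IsPrime] [n'.LiesOver pN] (hn : n'.comap ι = n) :
    Algebra.trdeg (N ⧸ pN) (S' ⧸ n') = Algebra.trdeg (R ⧸ p) (S ⧸ n) := by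
  letI := ι.toAlgebra
  letI : Algebra R S' := ((algebraMap N S').comp (algebraMap R N)).toAlgebra
  haveI : IsScalarTower R S S' := IsScalarTower.of_algebraMap_eq' hsq.symm
  haveI : IsScalarTower R N S' := IsScalarTower.of_algebraMap_eq' rfl
  haveI : Algebra.IsIntegral S S' := ⟨hι⟩
  haveI : n'.LiesOver n := ⟨hn.symm⟩
  haveI : pN.LiesOver p := ⟨by
    rw [n'.over_def pN, n.over_def p, Ideal.under_under, ← Ideal.under_under (B := S) n', ← n'.over_def n]⟩
  haveI : n'.LiesOver p := Ideal.LiesOver.trans n' pN p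
  haveI : Algebra.IsIntegral (R ⧸ p) (N ⧸ pN) := inferInstance
  haveI : Algebra.IsIntegral (S ⧸ n) (S' ⧸ n') := inferInstance
  haveI : FaithfulSMul (R ⧸ p) (S ⧸ n) := inferInstance
  haveI : IsScalarTower (R ⧸ p) (N ⧸ pN) (S' ⧸ n') := IsScalarTower.of_algebraMap_eq fun x => by
    obtain ⟨x, rfl⟩ := Ideal.Quotient.mk_surjective x
    show Ideal.Quotient.mk n' (algebraMap R S' x) = Ideal.Quotient.mk n' (algebraMap N S' (algebraMap R N x))
    rfl
  haveI : IsScalarTower (R ⧸ p) (S ⧸ n) (S' ⧸ n') := IsScalarTower.of_algebraMap_eq fun x => by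
    obtain ⟨x, rfl⟩ := Ideal.Quotient.mk_surjective x
    show Ideal.Quotient.mk n' (algebraMap R S' x) = Ideal.Quotient.mk n' (ι (algebraMap R S x))
    rw [IsScalarTower.algebraMap_apply R S S']
    rfl
  exact trdeg_eq_of_isAlgebraic_square

lemma isIntegral_includeRight {R N S : Type u} [CommRing R] [CommRing N] [CommRing S] [Algebra R N]
    [Algebra R S] [Algebra.IsIntegral R N] :
    (Algebra.TensorProduct.includeRight : S →ₐ[R] N ⊗[R] S).toRingHom.IsIntegral := fun x => by
  induction x using TensorProduct.induction_on with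
  | zero => exact RingHom.isIntegralElem_zero _
  | tmul a s =>
    rw [show (a ⊗ₜ[R] s : N ⊗[R] S) = (a ⊗ₜ[R] (1 : S)) * ((1 : N) ⊗ₜ[R] s) by simp]
    refine RingHom.IsIntegralElem.mul _ ?_ (RingHom.isIntegralElem_map _)
    obtain ⟨f, hf, hfa⟩ := (Algebra.IsIntegral.isIntegral (R := R) a).map
      (Algebra.TensorProduct.includeLeft : N →ₐ[R] N ⊗[R] S)
    refine ⟨f.map (algebraMap R S), hf.map _, ?_⟩
    rw [Polynomial.eval₂_map, show (Algebra.TensorProduct.includeRight : S →ₐ[R] N ⊗[R] S).toRingHom.comp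
      (algebraMap R S) = algebraMap R (N ⊗[R] S) from
        RingHom.ext fun r => (Algebra.TensorProduct.includeRight : S →ₐ[R] N ⊗[R] S).commutes r]
    exact hfa
  | add x y hx hy => exact RingHom.IsIntegralElem.add _ hx hy

/-- A valuation ring dominating a local domain and receiving an integral extension. -/
theorem exists_valued_integral_extension {R N V : Type u} [CommRing R] [CommRing N] [Algebra R N]
    [Algebra.IsIntegral R N] [CommRing V] [IsDomain V] [IsLocalRing V] [Algebra R V]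
    (hker : RingHom.ker (algebraMap R N) ≤ RingHom.ker (algebraMap R V)) :
    ∃ (O : Type u) (_ : CommRing O) (_ : IsDomain O) (_ : IsLocalRing O) (η : N →+* O) (jO : V →+* O),
      Function.Injective jO ∧ IsLocalHom jO ∧ ∀ x : R, η (algebraMap R N x) = jO (algebraMap R V x) := by
  let q₁ : Ideal R := RingHom.ker (algebraMap R V)
  haveI : q₁.IsPrime := RingHom.ker_isPrime _
  obtain ⟨Q₁, -, hQ₁prime, hQ₁⟩ := Ideal.exists_ideal_over_prime_of_isIntegral q₁ (⊥ : Ideal N)
    (by rw [← RingHom.ker_eq_comap_bot]; exact hker)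
  haveI := hQ₁prime
  haveI : Q₁.LiesOver q₁ := ⟨hQ₁.symm⟩
  let Ω := AlgebraicClosure (FractionRing V)
  let iV : V →+* Ω := (algebraMap (FractionRing V) Ω).comp (algebraMap V (FractionRing V))
  have hiV : Function.Injective iV :=
    (algebraMap (FractionRing V) Ω).injective.comp (IsFractionRing.injective V _)
  letI : Algebra (R ⧸ q₁) Ω := (Ideal.Quotient.lift q₁ (iV.comp (algebraMap R V)) fun a ha => by
    rw [RingHom.comp_apply, show algebraMap R V a = 0 from ha, map_zero]).toAlgebra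
  haveI : FaithfulSMul (R ⧸ q₁) Ω := (faithfulSMul_iff_algebraMap_injective _ _).2
    ((injective_iff_map_eq_zero _).2 fun x hx => by
      obtain ⟨x, rfl⟩ := Ideal.Quotient.mk_surjective x
      exact Ideal.Quotient.eq_zero_iff_mem.2 (hiV (hx.trans (map_zero iV).symm)))
  haveI : Algebra.IsIntegral (R ⧸ q₁) (N ⧸ Q₁) := inferInstance
  haveI : FaithfulSMul (R ⧸ q₁) (N ⧸ Q₁) := inferInstance
  let η : N →+* Ω :=
    (IsAlgClosed.lift (R := R ⧸ q₁) (S := N ⧸ Q₁) (M := Ω)).toRingHom.comp (Ideal.Quotient.mk Q₁)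
  have hη : ∀ x : R, η (algebraMap R N x) = iV (algebraMap R V x) := fun x => by
    show (IsAlgClosed.lift (R := R ⧸ q₁) (S := N ⧸ Q₁) (M := Ω))
      (algebraMap (R ⧸ q₁) (N ⧸ Q₁) (Ideal.Quotient.mk q₁ x)) = _
    rw [AlgHom.commutes]
    rfl
  obtain ⟨O, hO, hOloc⟩ := IsLocalRing.exists_factor_valuationRing iV
  let jO : V →+* O := iV.codRestrict O.toSubring hO
  have hηO : ∀ z, η z ∈ O := fun z => by
    have h1 : IsIntegral O (η z) := (Algebra.IsIntegral.isIntegral (R := R) z).map_of_comp_eq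
      (jO.comp (algebraMap R V)) η (RingHom.ext fun x => (hη x).symm)
    obtain ⟨o, ho⟩ := IsIntegrallyClosed.isIntegral_iff.1 h1
    rw [← ho]
    exact o.2
  exact ⟨O, inferInstance, inferInstance, inferInstance, η.codRestrict O.toSubring hηO, jO,
    fun a b h => hiV (congrArg Subtype.val h), hOloc, fun x => Subtype.ext (hη x)⟩

lemma map_val_inclusion {R N S : Type u} [CommRing R] [CommRing N] [CommRing S] [Algebra R N] [Algebra R S]
    {A B : Subalgebra R N} (h : A ≤ B) (w : A ⊗[R] S) :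
    Algebra.TensorProduct.map B.val (AlgHom.id R S)
      (Algebra.TensorProduct.map (Subalgebra.inclusion h) (AlgHom.id R S) w) =
      Algebra.TensorProduct.map A.val (AlgHom.id R S) w := by
  induction w using TensorProduct.induction_on with
  | zero => simp only [map_zero]
  | tmul a b => simp only [Algebra.TensorProduct.map_tmul]; rfl
  | add x y hx hy => simp only [map_add, hx, hy]

lemma exists_finset_mem_range {R N S : Type u} [CommRing R] [CommRing N] [CommRing S] [Algebra R N] [Algebra R S]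
    (w : N ⊗[R] S) : ∃ s : Finset N,
      w ∈ Set.range (Algebra.TensorProduct.map (Algebra.adjoin R (s : Set N)).val (AlgHom.id R S)) := by
  classical
  induction w using TensorProduct.induction_on with
  | zero => exact ⟨∅, 0, map_zero _⟩
  | tmul a b =>
    refine ⟨{a}, (⟨a, Algebra.subset_adjoin (Finset.mem_coe.2 (Finset.mem_singleton_self a))⟩ :
      Algebra.adjoin R (({a} : Finset N) : Set N)) ⊗ₜ[R] b, ?_⟩
    rw [Algebra.TensorProduct.map_tmul]
    rfl
  | add x y hx hy =>
    obtain ⟨s₁, w₁, rfl⟩ := hx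
    obtain ⟨s₂, w₂, rfl⟩ := hy
    refine ⟨s₁ ∪ s₂, Algebra.TensorProduct.map (Subalgebra.inclusion
        (Algebra.adjoin_mono (R := R) (show (s₁ : Set N) ⊆ ↑(s₁ ∪ s₂) from Finset.coe_subset.2 Finset.subset_union_left))) (AlgHom.id R S) w₁ +
      Algebra.TensorProduct.map (Subalgebra.inclusion
        (Algebra.adjoin_mono (R := R) (show (s₂ : Set N) ⊆ ↑(s₁ ∪ s₂) from Finset.coe_subset.2 Finset.subset_union_right))) (AlgHom.id R S) w₂, ?_⟩
    rw [map_add, map_val_inclusion, map_val_inclusion]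

/-- One of finitely many candidates lies below a point of the base change to an integral algebra as
soon as one does below its image in the base change to each finite subalgebra. -/
theorem exists_candidate {R N S : Type u} [CommRing R] [CommRing N] [CommRing S] [Algebra R N] [Algebra R S]
    [Algebra.IsIntegral R N] (nN : Ideal (N ⊗[R] S)) [nN.IsPrime] (G : Set (Ideal S)) (hG : G.Finite)
    (htest : ∀ A₁ : Subalgebra R N, Module.Finite R A₁ → ∃ P ∈ G, ∀ (L : Type u) [Field L] (ψ : A₁ ⊗[R] S →+* L),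
      RingHom.ker (ψ.comp Algebra.TensorProduct.includeRight.toRingHom) = P →
        RingHom.ker ψ ≤ nN.comap (Algebra.TensorProduct.map A₁.val (AlgHom.id R S)).toRingHom) :
    ∃ P ∈ G, ∀ (L : Type u) [Field L] (ψ : N ⊗[R] S →+* L),
      RingHom.ker (ψ.comp Algebra.TensorProduct.includeRight.toRingHom) = P → RingHom.ker ψ ≤ nN := by
  classical
  by_contra hc
  push Not at hc
  choose L hL ψ hψ hbad using hc
  have hz : ∀ P (hP : P ∈ G), ∃ z, z ∉ nN ∧ (letI := hL P hP; (ψ P hP) z = 0) := fun P hP => by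
    obtain ⟨z, hz1, hz2⟩ := SetLike.not_le_iff_exists.1 (hbad P hP)
    exact ⟨z, hz2, hz1⟩
  choose z hzn hzψ using hz
  choose s hs using fun P hP => exists_finset_mem_range (R := R) (z P hP)
  let t : Finset N := hG.toFinset.attach.biUnion fun P => s P.1 (hG.mem_toFinset.1 P.2)
  let A₁ : Subalgebra R N := Algebra.adjoin R (t : Set N)
  have hA₁ : Module.Finite R A₁ := Module.Finite.iff_fg.2
    (fg_adjoin_of_finite t.finite_toSet fun x _ => Algebra.IsIntegral.isIntegral x)
  obtain ⟨P, hPG, hP⟩ := htest A₁ hA₁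
  have hsub : (s P hPG : Set N) ⊆ (t : Set N) := fun x hx => by
    simp only [t, Finset.coe_biUnion, Set.mem_iUnion]
    exact ⟨⟨P, hG.mem_toFinset.2 hPG⟩, Finset.mem_attach _ _, hx⟩
  obtain ⟨w, hw⟩ := hs P hPG
  let inc : _ →ₐ[R] A₁ := Subalgebra.inclusion (Algebra.adjoin_mono (R := R) hsub)
  let ε : A₁ ⊗[R] S →ₐ[R] N ⊗[R] S := Algebra.TensorProduct.map A₁.val (AlgHom.id R S)
  have hw' : ε (Algebra.TensorProduct.map inc (AlgHom.id R S) w) = z P hPG := by
    rw [← hw]
    exact map_val_inclusion _ w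
  letI := hL P hPG
  have h1 := hP (L P hPG) ((ψ P hPG).comp ε.toRingHom) (by
    refine Eq.trans ?_ (hψ P hPG)
    rw [RingHom.comp_assoc, show ε.toRingHom.comp (Algebra.TensorProduct.includeRight : S →ₐ[R] A₁ ⊗[R] S).toRingHom =
      (Algebra.TensorProduct.includeRight : S →ₐ[R] N ⊗[R] S).toRingHom from RingHom.ext fun x => by simp [ε]])
    (show ψ P hPG (ε (Algebra.TensorProduct.map inc (AlgHom.id R S) w)) = 0 by rw [hw']; exact hzψ P hPG)
  exact hzn P hPG (hw' ▸ h1)

/-- **Universal openness from finite base changes, ring form**: if for the points over `n` of the base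
change to each finite subalgebra of the normalization `N` of `R/q` one of finitely many candidates
`P` over `q`, of relative transcendence degree at least the one at `n`, gives a generization over
the generic point, then every point of `V ⊗ S` over `n` generalizes to the generic point of `V`. -/
theorem exists_generalizing_of_finite_test {R N S : Type u} [CommRing R] [CommRing S] [Algebra R S]
    [Algebra.FiniteType R S] [CommRing N] [IsDomain N] [IsIntegrallyClosed N] [Algebra R N]
    [Algebra.IsIntegral R N] (p : Ideal R) [p.IsPrime] (n : Ideal S) [n.IsPrime] [n.LiesOver p]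
    (hmax : ∀ n' : Ideal S, n'.IsPrime → n' ≤ n → n'.comap (algebraMap R S) = p → n' = n)
    (d : ℕ) (hd : Algebra.trdeg (R ⧸ p) (S ⧸ n) = d)
    (q : Ideal R) [q.IsPrime] (ιK : N →ₐ[R] FractionRing (R ⧸ q)) (hιK : Function.Injective ιK)
    (G : Set (Ideal S)) (hG : G.Finite) (hGprime : ∀ P ∈ G, P.IsPrime)
    (hGd : ∀ (P : Ideal S) (_ : P ∈ G) [P.LiesOver q], (d : Cardinal.{u}) ≤ Algebra.trdeg (R ⧸ q) (S ⧸ P))
    (hGq : ∀ P ∈ G, P.comap (algebraMap R S) = q)
    (htest : ∀ A₁ : Subalgebra R N, Module.Finite R A₁ →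
      ∀ n' : Ideal (A₁ ⊗[R] S), n'.IsPrime → n'.comap Algebra.TensorProduct.includeRight.toRingHom = n →
        ∃ P ∈ G, ∀ (L : Type u) [Field L] (ψ : A₁ ⊗[R] S →+* L),
          RingHom.ker (ψ.comp Algebra.TensorProduct.includeRight.toRingHom) = P →
            RingHom.ker ψ ≤ n')
    {V : Type u} [CommRing V] [IsDomain V] [IsLocalRing V] [Algebra R V]
    (hqV : q ≤ RingHom.ker (algebraMap R V))
    (Q₀ : Ideal (V ⊗[R] S)) [Q₀.IsPrime]
    (hQV : Q₀.comap Algebra.TensorProduct.includeLeftRingHom = IsLocalRing.maximalIdeal V)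
    (hQn : Q₀.comap Algebra.TensorProduct.includeRight.toRingHom = n) :
    ∃ Q' : Ideal (V ⊗[R] S), Q'.IsPrime ∧ Q' ≤ Q₀ ∧
      Q'.comap Algebra.TensorProduct.includeLeftRingHom = ⊥ := by
  have hRN : RingHom.ker (algebraMap R N) = q := by
    ext x
    rw [RingHom.mem_ker, ← map_eq_zero_iff ιK hιK, AlgHom.commutes,
      IsScalarTower.algebraMap_apply R (R ⧸ q) (FractionRing (R ⧸ q)),
      map_eq_zero_iff _ (IsFractionRing.injective (R ⧸ q) (FractionRing (R ⧸ q))), Ideal.Quotient.algebraMap_eq,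
      Ideal.Quotient.eq_zero_iff_mem]
  obtain ⟨O, _, _, _, η, jO, hjOinj, hloc, hη⟩ := exists_valued_integral_extension (N := N) (hRN.le.trans hqV)
  letI algNO : Algebra N O := η.toAlgebra
  letI algRO : Algebra R O := (jO.comp (algebraMap R V)).toAlgebra
  haveI : IsScalarTower R N O := IsScalarTower.of_algebraMap_eq fun x => (hη x).symm
  let jA : V →ₐ[R] O := ⟨jO, fun x => rfl⟩
  -- a common residue field
  let toK₀ : V ⊗[R] S →+* FractionRing ((V ⊗[R] S) ⧸ Q₀) :=
    (algebraMap _ _).comp (Ideal.Quotient.mk Q₀)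
  have htoK₀ : ∀ z, toK₀ z = 0 ↔ z ∈ Q₀ := fun z => by
    rw [RingHom.comp_apply, map_eq_zero_iff _ (IsFractionRing.injective ((V ⊗[R] S) ⧸ Q₀) _),
      Ideal.Quotient.eq_zero_iff_mem]
  haveI := hloc
  obtain ⟨k, _, _, k₁, k₂, hk⟩ := exists_common_extension ((IsLocalRing.residue O).comp jO)
    (toK₀.comp Algebra.TensorProduct.includeLeftRingHom) (by
      ext v
      rw [RingHom.mem_ker, RingHom.mem_ker, RingHom.comp_apply, RingHom.comp_apply, htoK₀, ← Ideal.mem_comap,
        hQV, IsLocalRing.residue_eq_zero_iff, IsLocalRing.mem_maximalIdeal, mem_nonunits_iff,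
        IsLocalRing.mem_maximalIdeal, mem_nonunits_iff, isUnit_map_iff])
  letI algRk : Algebra R k := ((k₁.comp (IsLocalRing.residue O)).comp (algebraMap R O)).toAlgebra
  let fO : O →ₐ[R] k := ⟨k₁.comp (IsLocalRing.residue O), fun x => rfl⟩
  let fS : S →ₐ[R] k := ⟨k₂.comp (toK₀.comp Algebra.TensorProduct.includeRight.toRingHom), fun x => by
    show k₂ (toK₀ ((1 : V) ⊗ₜ[R] algebraMap R S x)) = k₁ (IsLocalRing.residue O (jO (algebraMap R V x)))
    rw [show k₁ (IsLocalRing.residue O (jO (algebraMap R V x))) = k₂ (toK₀ (algebraMap R V x ⊗ₜ[R] (1 : S))) from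
      RingHom.congr_fun hk _, Algebra.algebraMap_eq_smul_one, Algebra.algebraMap_eq_smul_one,
      TensorProduct.smul_tmul]⟩
  let Ψ : O ⊗[R] S →ₐ[R] k := Algebra.TensorProduct.lift fO fS fun _ _ => Commute.all _ _
  haveI := RingHom.ker_isPrime Ψ.toRingHom
  let ν : V ⊗[R] S →ₐ[R] O ⊗[R] S := Algebra.TensorProduct.map jA (AlgHom.id R S)
  have hΨν : ∀ z, Ψ (ν z) = k₂ (toK₀ z) := fun z => by
    induction z using TensorProduct.induction_on with
    | zero => simp
    | tmul v s =>
      show Ψ (jO v ⊗ₜ[R] s) = _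
      rw [Algebra.TensorProduct.lift_tmul, show (v ⊗ₜ[R] s : V ⊗[R] S) = (v ⊗ₜ[R] (1 : S)) * ((1 : V) ⊗ₜ[R] s) by simp,
        map_mul, map_mul]
      congr 1
      exact RingHom.congr_fun hk v
    | add x y hx hy => rw [map_add, map_add, map_add, map_add, hx, hy]
  -- the point of the base change to the normalization
  let μ : N ⊗[R] S →ₐ[R] O ⊗[R] S := Algebra.TensorProduct.map (IsScalarTower.toAlgHom R N O) (AlgHom.id R S)
  let nN : Ideal (N ⊗[R] S) := RingHom.ker (Ψ.comp μ).toRingHom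
  haveI : nN.IsPrime := RingHom.ker_isPrime _
  have hnN : nN.comap Algebra.TensorProduct.includeRight.toRingHom = n := by
    ext s
    show Ψ (μ ((1 : N) ⊗ₜ[R] s)) = 0 ↔ _
    rw [show μ ((1 : N) ⊗ₜ[R] s) = ν ((1 : V) ⊗ₜ[R] s) by simp [μ, ν], hΨν, map_eq_zero, htoK₀, ← hQn]
    rfl
  obtain ⟨P, hPG, hP⟩ := exists_candidate nN G hG fun A₁ hA₁ =>
    htest A₁ hA₁ _ (Ideal.comap_isPrime _ _) (by
      rw [← hnN, Ideal.comap_comap]
      congr 1)
  haveI := hGprime P hPG
  haveI : P.LiesOver q := ⟨(hGq P hPG).symm⟩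
  -- the candidate as a prime of `N ⊗ S`
  let L := FractionRing (S ⧸ P)
  have hqL : Function.Injective (algebraMap (R ⧸ q) L) := by
    rw [IsScalarTower.algebraMap_eq (R ⧸ q) (S ⧸ P) L]
    exact (IsFractionRing.injective (S ⧸ P) L).comp (FaithfulSMul.algebraMap_injective (R ⧸ q) (S ⧸ P))
  let θ : FractionRing (R ⧸ q) →ₐ[R] L := (IsFractionRing.liftAlgHom (R := R) (A := R ⧸ q)
    (K := FractionRing (R ⧸ q)) (g := (IsScalarTower.toAlgHom R (R ⧸ q) L)) hqL)
  let toL : S →ₐ[R] L := (IsScalarTower.toAlgHom R (S ⧸ P) L).comp (Ideal.Quotient.mkₐ R P)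
  let Φ : N ⊗[R] S →ₐ[R] L := Algebra.TensorProduct.lift (θ.comp ιK) toL fun _ _ => Commute.all _ _
  let PN : Ideal (N ⊗[R] S) := RingHom.ker Φ.toRingHom
  haveI : PN.IsPrime := RingHom.ker_isPrime _
  have hΦS : RingHom.ker (Φ.toRingHom.comp Algebra.TensorProduct.includeRight.toRingHom) = P := by
    ext x
    show Φ ((1 : N) ⊗ₜ[R] x) = 0 ↔ _
    rw [Algebra.TensorProduct.lift_tmul, map_one, one_mul]
    show algebraMap (S ⧸ P) L (Ideal.Quotient.mk P x) = 0 ↔ _
    rw [map_eq_zero_iff _ (IsFractionRing.injective (S ⧸ P) L), Ideal.Quotient.eq_zero_iff_mem]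
  have hPNn : PN ≤ nN := hP L Φ.toRingHom hΦS
  let pN : Ideal N := nN.comap (algebraMap N (N ⊗[R] S))
  haveI : pN.IsPrime := Ideal.comap_isPrime _ _
  haveI : nN.LiesOver pN := ⟨rfl⟩
  have hsq : (Algebra.TensorProduct.includeRight : S →ₐ[R] N ⊗[R] S).toRingHom.comp (algebraMap R S) =
      (algebraMap N (N ⊗[R] S)).comp (algebraMap R N) := by
    rw [← IsScalarTower.algebraMap_eq R N (N ⊗[R] S)]
    exact RingHom.ext fun r => (Algebra.TensorProduct.includeRight : S →ₐ[R] N ⊗[R] S).commutes r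
  have hpp : pN.comap (algebraMap R N) = p := by
    rw [Ideal.comap_comap, ← hsq, ← Ideal.comap_comap, hnN]
    exact (n.over_def p).symm
  haveI : IsDomain (Localization.AtPrime pN) := inferInstance
  haveI : IsIntegrallyClosed (Localization.AtPrime pN) :=
    isIntegrallyClosed_of_isLocalization _ pN.primeCompl pN.primeCompl_le_nonZeroDivisors
  have hgu : CAlg2.IsGeomUnibranch (Localization.AtPrime pN) := Groth.Agent.S9812.result _
  have hPNbot : PN.comap (algebraMap N (N ⊗[R] S)) = ⊥ := by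
    refine (Submodule.eq_bot_iff _).2 fun a ha => hιK ?_
    have h1 : Φ (a ⊗ₜ[R] (1 : S)) = 0 := ha
    rw [Algebra.TensorProduct.lift_tmul, map_one, mul_one] at h1
    rw [map_zero]
    exact θ.toRingHom.injective (h1.trans (map_zero _).symm)
  haveI : PN.LiesOver (⊥ : Ideal N) := ⟨hPNbot.symm⟩
  have hι := isIntegral_includeRight (R := R) (N := N) (S := S)
  have hmaxN : ∀ n' : Ideal (N ⊗[R] S), n'.IsPrime → n' ≤ nN →
      n'.comap (algebraMap N (N ⊗[R] S)) = pN → n' = nN := fun n' hn' hle he => by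
    haveI := hn'
    have h1 : n'.comap Algebra.TensorProduct.includeRight.toRingHom = n := by
      refine hmax _ (Ideal.comap_isPrime _ _) ((Ideal.comap_mono hle).trans hnN.le) ?_
      rw [Ideal.comap_comap, hsq, ← Ideal.comap_comap, he]
      exact hpp
    letI := (Algebra.TensorProduct.includeRight : S →ₐ[R] N ⊗[R] S).toRingHom.toAlgebra
    haveI : Algebra.IsIntegral S (N ⊗[R] S) := ⟨hι⟩
    exact (hle.eq_or_lt).resolve_right fun hlt =>
      (Ideal.IsIntegral.comap_lt_comap hlt).ne (h1.trans hnN.symm)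
  -- apply Chevalley's criterion over the normalization
  let e := Algebra.TensorProduct.cancelBaseChange R N O O S
  let QO : Ideal (O ⊗[N] (N ⊗[R] S)) := (RingHom.ker Ψ.toRingHom).comap e.toAlgHom.toRingHom
  haveI : QO.IsPrime := Ideal.comap_isPrime _ _
  have he : ∀ y, e ((1 : O) ⊗ₜ[N] y) = μ y := fun y => by
    induction y using TensorProduct.induction_on with
    | zero => simp
    | tmul a s =>
      show (a • (1 : O)) ⊗ₜ[R] s = _
      rw [Algebra.smul_def, mul_one]
      simp [μ]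
    | add x y hx hy => rw [TensorProduct.tmul_add, map_add, map_add, hx, hy]
  have hQOV : QO.comap Algebra.TensorProduct.includeLeftRingHom = IsLocalRing.maximalIdeal O := by
    ext o
    show Ψ (e (algebraMap O (O ⊗[N] (N ⊗[R] S)) o)) = 0 ↔ _
    rw [AlgEquiv.commutes, Algebra.TensorProduct.algebraMap_apply]
    show Ψ (o ⊗ₜ[R] (1 : S)) = 0 ↔ _
    rw [Algebra.TensorProduct.lift_tmul, map_one, mul_one]
    show k₁ (IsLocalRing.residue O o) = 0 ↔ _
    rw [map_eq_zero, IsLocalRing.residue_eq_zero_iff]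
  have hQOn : QO.comap (Algebra.TensorProduct.includeRight : N ⊗[R] S →ₐ[N] O ⊗[N] (N ⊗[R] S)).toRingHom = nN := by
    ext y
    show Ψ (e ((1 : O) ⊗ₜ[N] y)) = 0 ↔ _
    rw [he]
    rfl
  have hVN : (IsLocalRing.maximalIdeal O).comap (algebraMap N O) = pN := by
    ext a
    show _ ↔ algebraMap N (N ⊗[R] S) a ∈ nN
    rw [← hQOn, ← hQOV, Ideal.mem_comap, Ideal.mem_comap, Ideal.mem_comap]
    exact Iff.of_eq (congrArg (· ∈ QO)
      ((Algebra.TensorProduct.includeRight : N ⊗[R] S →ₐ[N] O ⊗[N] (N ⊗[R] S)).commutes a).symm)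
  obtain ⟨Q', _, hQ'le, hQ'bot⟩ := exists_generalizing_over_prime pN (Localization.AtPrime pN) hgu
    nN hmaxN (⊥ : Ideal N) ⟨⟨Ideal.isPrime_bot, le_rfl⟩, fun _ _ _ => bot_le⟩ PN hPNn d
    ((trdeg_quotient_eq_of_isIntegral _ hι hsq p n pN nN hnN).trans hd)
    (by
      rw [trdeg_quotient_eq_of_isIntegral _ hι hsq q P (⊥ : Ideal N) PN hΦS]
      exact hGd P hPG)
    hVN QO hQOV hQOn
  refine ⟨Q'.comap (e.symm.toAlgHom.toRingHom.comp ν.toRingHom), Ideal.comap_isPrime _ _, fun z hz => ?_, ?_⟩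
  · have h1 : Ψ (e (e.symm (ν z))) = 0 := hQ'le hz
    rw [AlgEquiv.apply_symm_apply, hΨν, map_eq_zero, htoK₀] at h1
    exact h1
  · refine (Submodule.eq_bot_iff _).2 fun v hv => hjOinj ?_
    have h1 : e.symm (ν (v ⊗ₜ[R] (1 : S))) ∈ Q' := hv
    rw [show ν (v ⊗ₜ[R] (1 : S)) = algebraMap O (O ⊗[R] S) (jO v) by
      simp [ν, jA], AlgEquiv.commutes] at h1
    have h2 : jO v ∈ Q'.comap Algebra.TensorProduct.includeLeftRingHom := h1
    rw [hQ'bot, Ideal.mem_bot] at h2
    rw [h2, map_zero]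

end Groth.EGA43Topo
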