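import Groth.Agent.EGA43Topo.FiniteTest
import Groth.Agent.EGA43Topo.UnibranchScheme
import Groth.Agent.EGA43Topo.UnivOpenFibre
import Groth.Agent.LocImm.FiniteFactor
import Mathlib.AlgebraicGeometry.Morphisms.Finite

/-!
# Universal openness tested on finite base changes (EGA IV 14.4.9)
-/

universe u

set_option linter.style.haveILetI false
set_option synthInstance.maxHeartbeats 100000

open CategoryTheory CategoryTheory.Limits AlgebraicGeometry Topology TensorProduct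

namespace Groth.EGA43Topo

/-- The integral closure of a ring in the fraction field of a quotient by a prime is normal. -/
lemma isIntegrallyClosed_integralClosure_quotient (R : Type u) [CommRing R] (q : Ideal R) [q.IsPrime] :
    IsIntegrallyClosed (integralClosure R (FractionRing (R ⧸ q))) := by
  haveI : FaithfulSMul (integralClosure R (FractionRing (R ⧸ q))) (FractionRing (R ⧸ q)) :=
    (faithfulSMul_iff_algebraMap_injective _ _).2 Subtype.val_injective
  haveI : IsFractionRing (integralClosure R (FractionRing (R ⧸ q))) (FractionRing (R ⧸ q)) :=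
    IsFractionRing.of_field _ _ fun x => by
      obtain ⟨a, b, -, rfl⟩ := IsFractionRing.div_surjective (A := R ⧸ q) x
      obtain ⟨a, rfl⟩ := Ideal.Quotient.mk_surjective a
      obtain ⟨b, rfl⟩ := Ideal.Quotient.mk_surjective b
      exact ⟨algebraMap R _ a, algebraMap R _ b, rfl⟩
  exact (isIntegrallyClosed_iff_isIntegrallyClosedIn (FractionRing (R ⧸ q))).2 inferInstance

/-- In a base change to an algebra inside `Frac (R/q)`, elements come from `S` after clearing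
denominators. -/
lemma exists_mul_eq_tmul {R A S : Type u} [CommRing R] [CommRing A] [CommRing S] [Algebra R A] [Algebra R S]
    (q : Ideal R) [q.IsPrime] (ι : A →ₐ[R] FractionRing (R ⧸ q)) (hι : Function.Injective ι)
    (z : A ⊗[R] S) : ∃ r ∉ q, ∃ s : S, algebraMap R (A ⊗[R] S) r * z = (1 : A) ⊗ₜ[R] s := by
  induction z using TensorProduct.induction_on with
  | zero => exact ⟨1, fun h => (inferInstance : q.IsPrime).ne_top ((Ideal.eq_top_iff_one q).2 h), 0, by simp⟩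
  | tmul a s =>
    obtain ⟨x, y, hy, hxy⟩ := IsFractionRing.div_surjective (A := R ⧸ q) (ι a)
    obtain ⟨x, rfl⟩ := Ideal.Quotient.mk_surjective x
    obtain ⟨y, rfl⟩ := Ideal.Quotient.mk_surjective y
    have hy0 : algebraMap (R ⧸ q) (FractionRing (R ⧸ q)) (Ideal.Quotient.mk q y) ≠ 0 :=
      IsFractionRing.to_map_ne_zero_of_mem_nonZeroDivisors hy
    have ha : algebraMap R A y * a = algebraMap R A x := hι (by
      rw [map_mul, AlgHom.commutes, AlgHom.commutes, ← hxy,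
        IsScalarTower.algebraMap_apply R (R ⧸ q) (FractionRing (R ⧸ q)),
        IsScalarTower.algebraMap_apply R (R ⧸ q) (FractionRing (R ⧸ q)), Ideal.Quotient.algebraMap_eq,
        mul_div_cancel₀ _ hy0])
    refine ⟨y, fun h => hy0 (by rw [Ideal.Quotient.eq_zero_iff_mem.2 h, map_zero]), x • s, ?_⟩
    rw [Algebra.TensorProduct.algebraMap_apply, Algebra.TensorProduct.tmul_mul_tmul, one_mul, ha,
      Algebra.algebraMap_eq_smul_one, TensorProduct.smul_tmul]
  | add x y hx hy =>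
    obtain ⟨r, hr, s, hs⟩ := hx
    obtain ⟨r', hr', s', hs'⟩ := hy
    refine ⟨r * r', fun h => ((inferInstance : q.IsPrime).mem_or_mem h).elim hr hr', r' • s + r • s', ?_⟩
    rw [TensorProduct.tmul_add, TensorProduct.tmul_smul, TensorProduct.tmul_smul, ← hs, ← hs', map_mul,
      Algebra.smul_def, Algebra.smul_def]
    ring

/-- Openness after a finite base change produces a candidate generization. -/
theorem exists_prime_of_finite_test {X Y : Scheme.{u}} [IsNoetherian Y] (f : X ⟶ Y) [LocallyOfFiniteType f]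
    {x : X} (hmax : ∀ x', f.base x' = f.base x → x' ⤳ x → x' = x)
    (h : ∀ (Y' : Scheme.{u}) (g : Y' ⟶ Y) [IsFinite g], ∀ x' : ↥(pullback f g),
      (pullback.fst f g).base x' = x → EGA43.IsOpenAt (pullback.snd f g).base x')
    {W : Y.Opens} (hW : IsAffineOpen W) {U : X.Opens} (hU : IsAffineOpen U) (e : U ≤ f ⁻¹ᵁ W) (hxU : x ∈ U)
    (q : Ideal Γ(Y, W)) [q.IsPrime] (A : Type u) [CommRing A] [IsDomain A] [Algebra Γ(Y, W) A]
    [Module.Finite Γ(Y, W) A] (ι : A →ₐ[Γ(Y, W)] FractionRing (Γ(Y, W) ⧸ q)) (hι : Function.Injective ι) :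
    letI := (f.appLE W U e).hom.toAlgebra
    ∀ n' : Ideal (A ⊗[Γ(Y, W)] Γ(X, U)), n'.IsPrime →
      n'.comap Algebra.TensorProduct.includeRight.toRingHom = (hU.primeIdealOf ⟨x, hxU⟩).asIdeal →
      ∃ P : Ideal Γ(X, U), P.IsPrime ∧ P.comap (algebraMap Γ(Y, W) Γ(X, U)) = q ∧
        (∀ P' : Ideal Γ(X, U), P'.IsPrime → P' ≤ P → P'.comap (algebraMap Γ(Y, W) Γ(X, U)) = q → P' = P) ∧
        (∀ d : ℕ, Groth.Variety2.Dim.relTrdeg f x = d → ∀ [P.LiesOver q],
          (d : Cardinal.{u}) ≤ Algebra.trdeg (Γ(Y, W) ⧸ q) (Γ(X, U) ⧸ P)) ∧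
        ∀ (L : Type u) [Field L] (ψ : A ⊗[Γ(Y, W)] Γ(X, U) →+* L),
          RingHom.ker (ψ.comp Algebra.TensorProduct.includeRight.toRingHom) = P → RingHom.ker ψ ≤ n' := by
  letI := (f.appLE W U e).hom.toAlgebra
  intro n' hn' hn'n
  haveI : IsLocallyNoetherian Y := inferInstance
  let p := hW.primeIdealOf ⟨f.base x, e hxU⟩
  let n := hU.primeIdealOf ⟨x, hxU⟩
  haveI hnp : n.asIdeal.LiesOver p.asIdeal :=
    ⟨(congrArg PrimeSpectrum.asIdeal (comap_appLE_primeIdealOf f hW hU e hxU)).symm⟩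
  have hfw : ∀ w, f.base (hU.fromSpec.base w) =
      hW.fromSpec.base (PrimeSpectrum.comap (f.appLE W U e).hom w) := fun w => by
    rw [← Scheme.Hom.comp_apply, ← hW.SpecMap_appLE_fromSpec f hU e, Scheme.Hom.comp_apply]
    rfl
  have hnmax : ∀ n' : Ideal Γ(X, U), n'.IsPrime → n' ≤ n.asIdeal →
      n'.comap (algebraMap Γ(Y, W) Γ(X, U)) = p.asIdeal → n' = n.asIdeal := fun n' hn' hle he => by
    have hwz : hU.fromSpec.base ⟨n', hn'⟩ ⤳ x := by
      have := ((PrimeSpectrum.le_iff_specializes ⟨n', hn'⟩ n).1 hle).map hU.fromSpec.continuous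
      rwa [hU.fromSpec_primeIdealOf] at this
    have hfeq : f.base (hU.fromSpec.base ⟨n', hn'⟩) = f.base x := by
      rw [hfw]
      exact (congrArg _ (PrimeSpectrum.ext he : _ = p)).trans (hW.fromSpec_primeIdealOf ⟨f.base x, e hxU⟩)
    exact congrArg PrimeSpectrum.asIdeal (hU.fromSpec.isOpenEmbedding.injective
      ((hmax _ hfeq hwz).trans (hU.fromSpec_primeIdealOf ⟨x, hxU⟩).symm))
  let a := Spec.map (CommRingCat.ofHom (R := Γ(Y, W)) (S := A) (algebraMap Γ(Y, W) A))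
  haveI : IsFinite a := (IsFinite.SpecMap_iff _).2 (RingHom.finite_algebraMap.2 ‹_›)
  haveI : IsLocallyNoetherian Y := inferInstance
  obtain ⟨T, j, gF, hj, hgF, hjg⟩ := Groth.LocImmersion.exists_isOpenImmersion_comp_isFinite (a ≫ hW.fromSpec)
  obtain ⟨θF, hθF, hθF₁, hθF₂, -⟩ := exists_chart f gF hW hU e A j hjg
  let pF := pullback.snd f gF
  haveI : LocallyOfFiniteType pF := inferInstanceAs (LocallyOfFiniteType (pullback.snd f gF))
  haveI : IsLocallyNoetherian T := LocallyOfFiniteType.isLocallyNoetherian gF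
  let x'' := θF.base ⟨n', hn'⟩
  have hx''x : (pullback.fst f gF).base x'' = x := by
    rw [hθF₁]
    exact (congrArg _ (PrimeSpectrum.ext hn'n : _ = n)).trans (hU.fromSpec_primeIdealOf ⟨x, hxU⟩)
  have hx''max : ∀ w, pF.base w = pF.base x'' → w ⤳ x'' → w = x'' := fun w hw hsp => by
    obtain ⟨Q, rfl⟩ : w ∈ Set.range θF.base :=
      hsp.mem_open θF.isOpenEmbedding.isOpen_range ⟨_, rfl⟩
    have hle : Q.asIdeal ≤ n' := (PrimeSpectrum.le_iff_specializes Q ⟨n', hn'⟩).2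
      (θF.isOpenEmbedding.toIsInducing.specializes_iff.1 hsp)
    rw [hθF₂, hθF₂] at hw
    have hA : Q.asIdeal.comap Algebra.TensorProduct.includeLeftRingHom =
        n'.comap Algebra.TensorProduct.includeLeftRingHom :=
      congrArg PrimeSpectrum.asIdeal (j.isOpenEmbedding.injective hw)
    have hsq : (Algebra.TensorProduct.includeRight : Γ(X, U) →ₐ[Γ(Y, W)] A ⊗[Γ(Y, W)] Γ(X, U)).toRingHom.comp
        (algebraMap Γ(Y, W) Γ(X, U)) =
        Algebra.TensorProduct.includeLeftRingHom.comp (algebraMap Γ(Y, W) A) :=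
      RingHom.ext fun r => (Algebra.TensorProduct.includeRight :
        Γ(X, U) →ₐ[Γ(Y, W)] A ⊗[Γ(Y, W)] Γ(X, U)).commutes r
    have hQn : Q.asIdeal.comap Algebra.TensorProduct.includeRight.toRingHom = n.asIdeal := by
      refine hnmax _ (Ideal.comap_isPrime _ _) ((Ideal.comap_mono hle).trans hn'n.le) ?_
      rw [Ideal.comap_comap, hsq, ← Ideal.comap_comap, hA, Ideal.comap_comap, ← hsq, ← Ideal.comap_comap,
        hn'n]
      exact (n.asIdeal.over_def p.asIdeal).symm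
    haveI : Algebra.IsIntegral Γ(Y, W) A := Algebra.IsIntegral.of_finite _ _
    letI := (Algebra.TensorProduct.includeRight :
      Γ(X, U) →ₐ[Γ(Y, W)] A ⊗[Γ(Y, W)] Γ(X, U)).toRingHom.toAlgebra
    haveI : Algebra.IsIntegral Γ(X, U) (A ⊗[Γ(Y, W)] Γ(X, U)) := ⟨isIntegral_includeRight⟩
    haveI := Q.isPrime
    exact congrArg _ (PrimeSpectrum.ext (hle.eq_or_lt.resolve_right fun hlt =>
      (Ideal.IsIntegral.comap_lt_comap hlt).ne (hQn.trans hn'n.symm)))
  obtain ⟨ξ, hξmax, hξx, hpξ, hξd⟩ :=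
    Groth.FibreDim.exists_component_of_isOpenAt pF hx''max (h T gF x'' hx''x)
  obtain ⟨P', rfl⟩ : ξ ∈ Set.range θF.base := hξx.mem_open θF.isOpenEmbedding.isOpen_range ⟨_, rfl⟩
  have hP'n : P'.asIdeal ≤ n' := (PrimeSpectrum.le_iff_specializes P' ⟨n', hn'⟩).2
    (θF.isOpenEmbedding.toIsInducing.specializes_iff.1 hξx)
  rw [hθF₂] at hpξ
  have hP'A : P'.asIdeal.comap Algebra.TensorProduct.includeLeftRingHom = (⊥ : Ideal A) := by
    let b : PrimeSpectrum A := PrimeSpectrum.comap Algebra.TensorProduct.includeLeftRingHom P'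
    have hb : (⟨⊥, Ideal.isPrime_bot⟩ : PrimeSpectrum A) ⤳ b := (PrimeSpectrum.le_iff_specializes
      (⟨⊥, Ideal.isPrime_bot⟩ : PrimeSpectrum A) b).1 bot_le
    have h1 := hb.map j.continuous
    exact (congrArg PrimeSpectrum.asIdeal
      (j.isOpenEmbedding.injective (h1.antisymm (hpξ h1)).eq)).symm
  let P : PrimeSpectrum Γ(X, U) := PrimeSpectrum.comap Algebra.TensorProduct.includeRight.toRingHom P'
  let ξ₀ := (pullback.fst f gF).base (θF.base P')
  have hξ₀ : ξ₀ = hU.fromSpec.base P := hθF₁ P'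
  have hξ₀U : ξ₀ ∈ U := hξ₀ ▸ hU.range_fromSpec.le ⟨P, rfl⟩
  have hPξ : hU.primeIdealOf ⟨ξ₀, hξ₀U⟩ = P :=
    hU.fromSpec.isOpenEmbedding.injective ((hU.fromSpec_primeIdealOf _).trans hξ₀)
  have hPq : P.asIdeal.comap (algebraMap Γ(Y, W) Γ(X, U)) = q := by
    show (P'.asIdeal.comap _).comap _ = q
    rw [Ideal.comap_comap, show (Algebra.TensorProduct.includeRight : Γ(X, U) →ₐ[Γ(Y, W)] A ⊗[Γ(Y, W)] Γ(X, U)).toRingHom.comp
        (algebraMap Γ(Y, W) Γ(X, U)) = Algebra.TensorProduct.includeLeftRingHom.comp (algebraMap Γ(Y, W) A) from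
        RingHom.ext fun r => (Algebra.TensorProduct.includeRight :
          Γ(X, U) →ₐ[Γ(Y, W)] A ⊗[Γ(Y, W)] Γ(X, U)).commutes r, ← Ideal.comap_comap, hP'A,
      ← RingHom.ker_eq_comap_bot]
    ext r
    rw [RingHom.mem_ker, ← map_eq_zero_iff ι hι, AlgHom.commutes,
      IsScalarTower.algebraMap_apply Γ(Y, W) (Γ(Y, W) ⧸ q) (FractionRing (Γ(Y, W) ⧸ q)),
      map_eq_zero_iff _ (IsFractionRing.injective (Γ(Y, W) ⧸ q) (FractionRing (Γ(Y, W) ⧸ q))),
      Ideal.Quotient.algebraMap_eq, Ideal.Quotient.eq_zero_iff_mem]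
  have hξ₀max : ∀ w, f.base w = f.base ξ₀ → w ⤳ ξ₀ → w = ξ₀ := fun w hw hsp => by
    obtain ⟨w', hw', hfw', hw'ξ⟩ : θF.base P' ∈ Groth.SpectralTopology.fibreCl pF.base
        ((pullback.fst f gF).base ⁻¹' {w}) := by
      rw [Groth.SpectralTopology.fibreCl_preimage (IsPullback.of_hasPullback f gF)]
      exact ⟨w, rfl, hw, hsp⟩
    show w = (pullback.fst f gF).base (θF.base P')
    rw [← (hw'ξ.antisymm (hξmax hw'ξ)).eq]
    exact hw'.symm
  have hPmin : ∀ P'' : Ideal Γ(X, U), P''.IsPrime → P'' ≤ P.asIdeal →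
      P''.comap (algebraMap Γ(Y, W) Γ(X, U)) = q → P'' = P.asIdeal := fun P'' hP'' hle he => by
    have hwξ : hU.fromSpec.base ⟨P'', hP''⟩ ⤳ ξ₀ := by
      rw [hξ₀]
      exact ((PrimeSpectrum.le_iff_specializes ⟨P'', hP''⟩ P).1 hle).map hU.fromSpec.continuous
    have hfeq : f.base (hU.fromSpec.base ⟨P'', hP''⟩) = f.base ξ₀ := by
      rw [hξ₀, hfw, hfw]
      exact congrArg _ (PrimeSpectrum.ext (he.trans hPq.symm))
    exact congrArg PrimeSpectrum.asIdeal (hU.fromSpec.isOpenEmbedding.injective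
      ((hξ₀max _ hfeq hwξ).trans hξ₀))
  refine ⟨P.asIdeal, P.isPrime, hPq, hPmin, fun d hd hov => ?_, fun L _ ψ hψ z hz => ?_⟩
  · obtain ⟨d₁, hd₁, hd'⟩ := Groth.FibreDim.exists_relTrdeg_eq_height f x
    rw [hd, Nat.cast_inj] at hd₁
    subst hd₁
    have hqW : (hW.primeIdealOf ⟨f.base ξ₀, e hξ₀U⟩).asIdeal = q := by
      rw [← comap_appLE_primeIdealOf f hW hU e hξ₀U, hPξ]
      exact hPq
    haveI : (hU.primeIdealOf ⟨ξ₀, hξ₀U⟩).asIdeal.LiesOver (hW.primeIdealOf ⟨f.base ξ₀, e hξ₀U⟩).asIdeal :=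
      ⟨(congrArg PrimeSpectrum.asIdeal (comap_appLE_primeIdealOf f hW hU e hξ₀U)).symm⟩
    obtain ⟨d₀, hd₀, hd₀'⟩ := Groth.FibreDim.exists_relTrdeg_eq_height f ξ₀
    have htr := Groth.FibreDim.relTrdeg_eq_trdeg_quotient f hW hU e hξ₀U
    rw [hd₀] at htr
    have key : ∀ (a : Ideal Γ(Y, W)) (b : Ideal Γ(X, U)) [b.LiesOver a], a = q → b = P.asIdeal →
        Algebra.trdeg (Γ(Y, W) ⧸ a) (Γ(X, U) ⧸ b) =
          Algebra.trdeg (Γ(Y, W) ⧸ q) (Γ(X, U) ⧸ P.asIdeal) := by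
      intro a b _ ha hb; subst ha hb; rfl
    rw [key _ _ hqW (congrArg PrimeSpectrum.asIdeal hPξ)] at htr
    rw [htr]
    have hxd : FlatMor.fibreDimAt f x = FlatMor.fibreDimAt f ξ₀ := by
      rw [← hx''x, ← Groth.FibreDim.fibreDimAt_baseChange f gF pF (pullback.fst f gF)
        (IsPullback.of_hasPullback f gF), ← hξd]
      exact Groth.FibreDim.fibreDimAt_baseChange f gF pF (pullback.fst f gF)
        (IsPullback.of_hasPullback f gF) _
    rw [(Groth.FibreDim.fibreDimAt_eq_height_of_max f hmax).1, hd',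
      (Groth.FibreDim.fibreDimAt_eq_height_of_max f hξ₀max).1, hd₀'] at hxd
    have hdd : d = d₀ := by exact_mod_cast hxd
    rw [hdd]
  · obtain ⟨r, hr, s, hs⟩ := exists_mul_eq_tmul q ι hι z
    have h1 : ψ ((1 : A) ⊗ₜ[Γ(Y, W)] s) = 0 := by rw [← hs, map_mul, show ψ z = 0 from hz, mul_zero]
    have h2 : s ∈ P.asIdeal := hψ.le h1
    have h3 : algebraMap Γ(Y, W) (A ⊗[Γ(Y, W)] Γ(X, U)) r * z ∈ P'.asIdeal := by rw [hs]; exact h2
    refine hP'n ((P'.isPrime.mem_or_mem h3).resolve_left fun h4 => hr ?_)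
    rw [← hPq, Ideal.mem_comap]
    show (1 : A) ⊗ₜ[Γ(Y, W)] algebraMap Γ(Y, W) Γ(X, U) r ∈ P'.asIdeal
    rwa [Algebra.algebraMap_eq_smul_one r (A := Γ(X, U)), TensorProduct.tmul_smul, ← Algebra.TensorProduct.one_def,
      ← Algebra.algebraMap_eq_smul_one]

/-- The candidates, for a normal extension inside the fraction field. -/
theorem exists_candidates {X Y : Scheme.{u}} [IsNoetherian Y] (f : X ⟶ Y) [LocallyOfFiniteType f]
    {x : X} (hmax : ∀ x', f.base x' = f.base x → x' ⤳ x → x' = x)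
    (h : ∀ (Y' : Scheme.{u}) (g : Y' ⟶ Y) [IsFinite g], ∀ x' : ↥(pullback f g),
      (pullback.fst f g).base x' = x → EGA43.IsOpenAt (pullback.snd f g).base x')
    {W : Y.Opens} (hW : IsAffineOpen W) {U : X.Opens} (hU : IsAffineOpen U) (e : U ≤ f ⁻¹ᵁ W) (hxU : x ∈ U)
    {d : ℕ} (hd : Groth.Variety2.Dim.relTrdeg f x = d)
    (q : Ideal Γ(Y, W)) [q.IsPrime] (N : Type u) [CommRing N] [IsDomain N] [Algebra Γ(Y, W) N]
    (ιK : N →ₐ[Γ(Y, W)] FractionRing (Γ(Y, W) ⧸ q)) (hιK : Function.Injective ιK) :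
    letI := (f.appLE W U e).hom.toAlgebra
    ∃ G : Set (Ideal Γ(X, U)), G.Finite ∧ (∀ P ∈ G, P.IsPrime) ∧
      (∀ (P : Ideal Γ(X, U)) (_ : P ∈ G) [P.LiesOver q],
        (d : Cardinal.{u}) ≤ Algebra.trdeg (Γ(Y, W) ⧸ q) (Γ(X, U) ⧸ P)) ∧
      (∀ P ∈ G, P.comap (algebraMap Γ(Y, W) Γ(X, U)) = q) ∧
      ∀ A₁ : Subalgebra Γ(Y, W) N, Module.Finite Γ(Y, W) A₁ →
        ∀ n' : Ideal (A₁ ⊗[Γ(Y, W)] Γ(X, U)), n'.IsPrime →
          n'.comap Algebra.TensorProduct.includeRight.toRingHom = (hU.primeIdealOf ⟨x, hxU⟩).asIdeal →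
          ∃ P ∈ G, ∀ (L : Type u) [Field L] (ψ : A₁ ⊗[Γ(Y, W)] Γ(X, U) →+* L),
            RingHom.ker (ψ.comp Algebra.TensorProduct.includeRight.toRingHom) = P →
              RingHom.ker ψ ≤ n' := by
  letI := (f.appLE W U e).hom.toAlgebra
  haveI : IsNoetherianRing Γ(Y, W) := IsLocallyNoetherian.component_noetherian ⟨W, hW⟩
  haveI : Algebra.FiniteType Γ(Y, W) Γ(X, U) :=
    RingHom.finiteType_algebraMap.1 (f.finiteType_appLE hW hU e)
  haveI : IsNoetherianRing Γ(X, U) := Algebra.FiniteType.isNoetherianRing Γ(Y, W) _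
  let G : Set (Ideal Γ(X, U)) := {P | P.IsPrime ∧ P.comap (algebraMap Γ(Y, W) Γ(X, U)) = q ∧
    (∀ P' : Ideal Γ(X, U), P'.IsPrime → P' ≤ P → P'.comap (algebraMap Γ(Y, W) Γ(X, U)) = q → P' = P) ∧
    ∀ [P.LiesOver q], (d : Cardinal.{u}) ≤ Algebra.trdeg (Γ(Y, W) ⧸ q) (Γ(X, U) ⧸ P)}
  have hG : G.Finite := by
    refine (Ideal.finite_minimalPrimes_of_isNoetherianRing Γ(X, U)
      (q.map (algebraMap Γ(Y, W) Γ(X, U)))).subset ?_
    rintro P ⟨hP, hPq, hPmin, -⟩
    refine ⟨⟨hP, Ideal.map_le_iff_le_comap.2 hPq.ge⟩, fun P' hP' hle => ?_⟩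
    exact (hPmin P' hP'.1 hle
      (le_antisymm ((Ideal.comap_mono hle).trans hPq.le) (Ideal.map_le_iff_le_comap.1 hP'.2))).ge
  refine ⟨G, hG, fun P hP => hP.1, fun P hP hov => hP.2.2.2, fun P hP => hP.2.1, fun A₁ hA₁ n' hn' hn'n => ?_⟩
  haveI : Module.Finite Γ(Y, W) A₁ := hA₁
  obtain ⟨P, hP, hPq, hPmin, hPd, hPψ⟩ := exists_prime_of_finite_test f hmax h hW hU e hxU q A₁
    (ιK.comp A₁.val) (hιK.comp Subtype.val_injective) n' hn' hn'n
  exact ⟨P, ⟨hP, hPq, hPmin, fun {_} => hPd d hd⟩, hPψ⟩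

/-- **Universal openness at a maximal point of a fibre is tested on finite base changes.** -/
theorem isUnivOpenAt_of_finite_test {X Y : Scheme.{u}} [IsNoetherian Y] (f : X ⟶ Y) [LocallyOfFiniteType f]
    {x : X} (hmax : ∀ x', f.base x' = f.base x → x' ⤳ x → x' = x)
    (h : ∀ (Y' : Scheme.{u}) (g : Y' ⟶ Y) [IsFinite g], ∀ x' : ↥(pullback f g),
      (pullback.fst f g).base x' = x → EGA43.IsOpenAt (pullback.snd f g).base x') :
    EGA43.IsUnivOpenAt f x := by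
  refine isUnivOpenAt_of_dvr f x fun V _ _ _ g hg x' hx' hx'c => ?_
  obtain ⟨W, hW, hyW, -⟩ := exists_isAffineOpen_mem_and_subset (U := ⊤) (Set.mem_univ (f.base x))
  obtain ⟨U, hU, hxU, e⟩ := exists_isAffineOpen_mem_and_subset (U := f ⁻¹ᵁ W) (x := x) hyW
  haveI : IsNoetherianRing Γ(Y, W) := IsLocallyNoetherian.component_noetherian ⟨W, hW⟩
  have hgW : Set.range g.base ⊆ Set.range hW.fromSpec.base := by
    rintro _ ⟨v, rfl⟩
    rw [hW.range_fromSpec]
    refine ((?_ : v ⤳ IsLocalRing.closedPoint V).map g.continuous).mem_open W.isOpen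
      (show g.base (IsLocalRing.closedPoint V) ∈ W from hg ▸ hyW)
    exact (PrimeSpectrum.le_iff_specializes v _).1 (IsLocalRing.le_maximalIdeal v.2.ne_top)
  obtain ⟨φ, hφ⟩ := Spec.map_surjective (IsOpenImmersion.lift hW.fromSpec g hgW)
  have hφg : Spec.map φ ≫ hW.fromSpec = g := by rw [hφ, IsOpenImmersion.lift_fac]
  letI algV : Algebra Γ(Y, W) V := φ.hom.toAlgebra
  obtain ⟨θ, hθ, hθ₁, hθ₂, hθr⟩ := exists_chart f g hW hU e V (𝟙 _)
    (by rw [Category.id_comp]; exact hφg.symm)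
  letI := (f.appLE W U e).hom.toAlgebra
  haveI : Algebra.FiniteType Γ(Y, W) Γ(X, U) :=
    RingHom.finiteType_algebraMap.1 (f.finiteType_appLE hW hU e)
  haveI : IsNoetherianRing Γ(X, U) := Algebra.FiniteType.isNoetherianRing Γ(Y, W) _
  obtain ⟨Q₀, rfl⟩ : x' ∈ Set.range θ.base := by
    rw [hθr]
    exact ⟨(show (pullback.fst f g).base x' ∈ U from hx'.symm ▸ hxU), ⟨_, rfl⟩⟩
  rw [hθ₁] at hx'
  rw [hθ₂] at hx'c
  haveI := Q₀.isPrime
  let p := hW.primeIdealOf ⟨f.base x, e hxU⟩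
  let n := hU.primeIdealOf ⟨x, hxU⟩
  haveI hnp : n.asIdeal.LiesOver p.asIdeal :=
    ⟨(congrArg PrimeSpectrum.asIdeal (comap_appLE_primeIdealOf f hW hU e hxU)).symm⟩
  have hfw : ∀ w, f.base (hU.fromSpec.base w) =
      hW.fromSpec.base (PrimeSpectrum.comap (f.appLE W U e).hom w) := fun w => by
    rw [← Scheme.Hom.comp_apply, ← hW.SpecMap_appLE_fromSpec f hU e, Scheme.Hom.comp_apply]
    rfl
  have hnmax : ∀ n' : Ideal Γ(X, U), n'.IsPrime → n' ≤ n.asIdeal →
      n'.comap (algebraMap Γ(Y, W) Γ(X, U)) = p.asIdeal → n' = n.asIdeal := fun n' hn' hle he => by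
    have hwz : hU.fromSpec.base ⟨n', hn'⟩ ⤳ x := by
      have := ((PrimeSpectrum.le_iff_specializes ⟨n', hn'⟩ n).1 hle).map hU.fromSpec.continuous
      rwa [hU.fromSpec_primeIdealOf] at this
    have hfeq : f.base (hU.fromSpec.base ⟨n', hn'⟩) = f.base x := by
      rw [hfw]
      exact (congrArg _ (PrimeSpectrum.ext he : _ = p)).trans (hW.fromSpec_primeIdealOf ⟨f.base x, e hxU⟩)
    exact congrArg PrimeSpectrum.asIdeal (hU.fromSpec.isOpenEmbedding.injective
      ((hmax _ hfeq hwz).trans (hU.fromSpec_primeIdealOf ⟨x, hxU⟩).symm))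
  obtain ⟨d, hd, hd'⟩ := Groth.FibreDim.exists_relTrdeg_eq_height f x
  -- a minimal prime under the point
  haveI : (RingHom.ker (algebraMap Γ(Y, W) V)).IsPrime := RingHom.ker_isPrime _
  obtain ⟨q, hq, hqker⟩ := Ideal.exists_minimalPrimes_le
    (bot_le : (⊥ : Ideal Γ(Y, W)) ≤ RingHom.ker (algebraMap Γ(Y, W) V))
  haveI := hq.1.1
  let N := integralClosure Γ(Y, W) (FractionRing (Γ(Y, W) ⧸ q))
  haveI : IsIntegrallyClosed N := isIntegrallyClosed_integralClosure_quotient _ q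
  obtain ⟨G, hG, hG1, hG2, hG3, htest⟩ := exists_candidates f hmax h hW hU e hxU hd q N
    (integralClosure _ _).val Subtype.val_injective
  obtain ⟨Q', hQ', hle, hbot⟩ := exists_generalizing_of_finite_test p.asIdeal n.asIdeal hnmax d
    ((Groth.FibreDim.relTrdeg_eq_trdeg_quotient f hW hU e hxU).trans hd)
    q (integralClosure _ _).val Subtype.val_injective G hG hG1 hG2 hG3 htest hqker Q₀.asIdeal
    (congrArg PrimeSpectrum.asIdeal hx'c)
    (congrArg PrimeSpectrum.asIdeal (hU.fromSpec.isOpenEmbedding.injective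
      (hx'.trans (hU.fromSpec_primeIdealOf ⟨x, hxU⟩).symm)))
  refine ⟨θ.base ⟨Q', hQ'⟩,
    ((PrimeSpectrum.le_iff_specializes ⟨Q', hQ'⟩ Q₀).1 hle).map θ.continuous, fun hc => ?_⟩
  rw [hθ₂] at hc
  exact IsDiscreteValuationRing.not_a_field V
    ((congrArg PrimeSpectrum.asIdeal hc).symm.trans hbot)

end Groth.EGA43Topo
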