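import Groth.Agent.Flatmor4.ValuativeFlat
import Groth.Agent.Calg1.Completion
import Groth.Agent.EGA43Flat.Nilpotent
import Groth.Agent.EtaleAlgebra.WeaklyEtale

/-!
# The valuative criterion of flatness at a point (EGA IV 11.8.1)
-/

set_option autoImplicit false
set_option linter.style.haveILetI false
universe u

open TensorProduct

namespace Groth.EGA43Topo.FlatUnivOpen

/-- Over a reduced Noetherian local ring, a local essentially finite type algebra is flat as soon
as it becomes flat over every dominating discrete valuation ring. -/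
theorem flat_of_dvr (A : Type u) [CommRing A] [IsLocalRing A] [IsNoetherianRing A] [IsReduced A]
    (L : Type u) [CommRing L] [IsLocalRing L] [Algebra A L] [Algebra.EssFiniteType A L]
    [IsLocalHom (algebraMap A L)]
    (h : ∀ (R : Type u) [CommRing R] [IsDomain R] [IsDiscreteValuationRing R] [Algebra A R]
      [IsLocalHom (algebraMap A R)], Module.Flat R (R ⊗[A] L)) : Module.Flat A L := by
  classical
  let C := AdicCompletion (IsLocalRing.maximalIdeal A) A
  haveI : IsNoetherianRing C :=
    Groth.Calg1.isNoetherianRing_adicCompletion _ (IsNoetherian.noetherian (IsLocalRing.maximalIdeal A))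
  haveI : Module.Flat A C := inferInstance
  let S := C ⊗[A] L
  haveI : IsNoetherianRing S := Algebra.EssFiniteType.isNoetherianRing C S
  have hmC : ∀ r ∈ IsLocalRing.maximalIdeal A, algebraMap A C r ∈ IsLocalRing.maximalIdeal C := fun r hr => by
    rw [AdicCompletion.maximalIdeal_eq_map]
    exact Ideal.mem_map_of_mem _ hr
  have hdvr : ∀ (R : Type u) [CommRing R] [IsDomain R] [IsDiscreteValuationRing R] [Algebra C R]
      [IsLocalHom (algebraMap C R)], Module.Flat R (R ⊗[C] S) := by
    intro R _ _ _ _ _
    letI : Algebra A R := ((algebraMap C R).comp (algebraMap A C)).toAlgebra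
    haveI : IsScalarTower A C R := IsScalarTower.of_algebraMap_eq fun _ => rfl
    haveI : IsLocalHom (algebraMap A R) := ⟨fun a ha => by
      by_contra hna
      have h2 : algebraMap A C a ∈ IsLocalRing.maximalIdeal C := hmC a hna
      exact h2 (isUnit_of_map_unit (algebraMap C R) _ ha)⟩
    haveI := h R
    exact Module.Flat.of_linearEquiv (TensorProduct.AlgebraTensorModule.cancelBaseChange A C R R L)
  let ι := {P : Ideal A // P ∈ minimalPrimes A}
  haveI : Finite ι := (minimalPrimes.finite_of_isNoetherianRing A).to_subtype
  haveI hι : ∀ i : ι, i.1.IsPrime := fun i => i.2.1.1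
  let K : ι → Type u := fun i => i.1.ResidueField
  let D : ι → Type u := fun i => C ⊗[A] K i
  haveI hflatD : ∀ i : ι, Module.Flat (D i) (D i ⊗[C] S) := by
    intro i
    letI : Algebra (K i) (D i) := Algebra.TensorProduct.rightAlgebra
    haveI : IsScalarTower A (K i) (D i) := by
      refine IsScalarTower.of_algebraMap_eq (R := A) (S := K i) (A := D i) fun r => ?_
      show algebraMap A C r ⊗ₜ[A] (1 : K i) = (1 : C) ⊗ₜ[A] algebraMap A (K i) r
      rw [Algebra.algebraMap_eq_smul_one r (A := C), Algebra.algebraMap_eq_smul_one r (A := K i),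
        TensorProduct.smul_tmul]
    exact Groth.EGA43Flat.flat_baseChange_square (A := A) (M := L) (K i) (D i) C inferInstance
  letI : ∀ i : ι, Semiring (D i) := fun i => inferInstanceAs (Semiring (C ⊗[A] K i))
  haveI := Fintype.ofFinite ι
  have hD : ∀ c : C, (∀ i : ι, algebraMap C (D i) c = 0) → c = 0 := by
    intro c hc
    let f : A →ₗ[A] ∀ i, K i := LinearMap.pi fun i => Algebra.linearMap A (K i)
    have hf : Function.Injective f := by
      rw [injective_iff_map_eq_zero]
      intro r hr
      have hnil : r ∈ nilradical A := by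
        rw [nilradical, ← Ideal.sInf_minimalPrimes, Submodule.mem_sInf]
        intro P hP
        haveI : Ideal.IsPrime P := hP.1.1
        exact Ideal.algebraMap_residueField_eq_zero.mp (congrFun hr (⟨P, hP⟩ : ι))
      rwa [nilradical_eq_zero, Submodule.zero_eq_bot, Ideal.mem_bot] at hnil
    have h1 : f.lTensor C (c ⊗ₜ 1) = 0 := by
      apply (TensorProduct.piRight A A C K).injective
      rw [map_zero]
      funext i
      simp only [LinearMap.lTensor_tmul, TensorProduct.piRight_apply, Pi.zero_apply]
      show c ⊗ₜ[A] f 1 i = 0
      rw [show f 1 i = 1 from map_one (algebraMap A (K i))]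
      exact hc i
    have h2 := Module.Flat.lTensor_preserves_injective_linearMap (M := C) f hf
      (h1.trans (map_zero _).symm)
    simpa using congrArg (TensorProduct.rid A C) h2
  let kA := IsLocalRing.ResidueField A
  let kL := IsLocalRing.ResidueField L
  let gC : C →ₐ[A] kL :=
    { (IsLocalRing.ResidueField.map (algebraMap A L)).comp
        (AdicCompletion.evalOneₐ (IsLocalRing.maximalIdeal A)).toRingHom with
      commutes' := fun a => by
        show IsLocalRing.ResidueField.map (algebraMap A L)
          (AdicCompletion.evalOneₐ (IsLocalRing.maximalIdeal A) (algebraMap A C a)) = _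
        rw [(AdicCompletion.evalOneₐ (IsLocalRing.maximalIdeal A)).commutes]
        rfl }
  let φ : S →ₐ[A] kL :=
    Algebra.TensorProduct.lift gC (IsScalarTower.toAlgHom A L kL) fun _ _ => .all _ _
  let q' : Ideal S := RingHom.ker φ
  haveI : q'.IsPrime := RingHom.ker_isPrime φ
  have hmq' : (IsLocalRing.maximalIdeal C).map (algebraMap C S) ≤ q' := by
    rw [Ideal.map_le_iff_le_comap, AdicCompletion.maximalIdeal_eq_map, Ideal.map_le_iff_le_comap]
    intro r hr
    show φ (algebraMap A C r ⊗ₜ 1) = 0
    refine (Algebra.TensorProduct.lift_tmul _ _ _ _ _).trans ?_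
    refine mul_eq_zero_of_left ?_ _
    rw [gC.commutes, IsScalarTower.algebraMap_apply A L kL]
    exact (IsLocalRing.residue_eq_zero_iff _).mpr fun hu => hr (isUnit_of_map_unit _ _ hu)
  haveI hY : Module.Flat C (LocalizedModule q'.primeCompl S) :=
    Groth.Flatmor4.flat_localizedModule_of_dvr hdvr D hD q' hmq'
  let T := Localization.AtPrime q'
  haveI : Module.Flat C T := hY
  haveI : Module.Flat A T := Module.Flat.trans A C T
  letI : Algebra L S := Algebra.TensorProduct.rightAlgebra
  haveI : IsScalarTower A L S := IsScalarTower.of_algebraMap_eq fun a => by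
    show algebraMap A C a ⊗ₜ[A] (1 : L) = (1 : C) ⊗ₜ[A] algebraMap A L a
    rw [Algebra.algebraMap_eq_smul_one a (A := C), Algebra.algebraMap_eq_smul_one a (A := L),
      TensorProduct.smul_tmul]
  haveI : Module.Flat L S := Module.Flat.of_linearEquiv (M := L ⊗[A] C)
    ({ (TensorProduct.comm A C L).toAddEquiv with
        map_smul' := fun b z => by
          induction z using TensorProduct.induction_on with
          | zero => simp
          | add u v hu hv => simp_all [smul_add]
          | tmul c b' =>
            show TensorProduct.comm A C L (b • (c ⊗ₜ b' : C ⊗[A] L)) = b • (b' ⊗ₜ c)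
            rw [Algebra.smul_def, Algebra.TensorProduct.right_algebraMap_apply,
              Algebra.TensorProduct.tmul_mul_tmul, one_mul, TensorProduct.comm_tmul,
              TensorProduct.smul_tmul', smul_eq_mul] } : S ≃ₗ[L] L ⊗[A] C)
  haveI : Module.Flat L T := Module.Flat.trans L S T
  haveI : IsLocalHom (algebraMap L T) := ⟨fun b hb => by
    by_contra hnb
    have h0 : algebraMap L S b ∈ q' := by
      show φ ((1 : C) ⊗ₜ b) = 0
      refine (Algebra.TensorProduct.lift_tmul _ _ _ _ _).trans ?_
      exact mul_eq_zero_of_right _ ((IsLocalRing.residue_eq_zero_iff _).mpr hnb)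
    rw [IsScalarTower.algebraMap_apply L S T] at hb
    exact (IsLocalization.AtPrime.to_map_mem_maximal_iff T q' _).mpr h0 hb⟩
  haveI : Module.FaithfullyFlat L T := Module.FaithfullyFlat.of_flat_of_isLocalHom (A := L) (B := T)
  exact Groth.EtaleAlgebra.flat_of_faithfullyFlat_target A L T

end Groth.EGA43Topo.FlatUnivOpen
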