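import Groth.Agent.EGA43Topo.FlatUnivOpen
import Groth.Agent.EGA43Topo.EquidimFlatCM
import Groth.Agent.EGA43Topo.OpenAt
import Groth.Agent.FibreDim.OpenFibre
import Groth.Agent.FibreDim.OpenFibreConst
import Groth.Agent.PropsBasic2.Reduced

/-!
# Equidimensionality from universal openness and geometrically reduced fibres (EGA IV 15.3)
-/

set_option autoImplicit false
set_option linter.style.haveILetI false
universe u

open CategoryTheory CategoryTheory.Limits AlgebraicGeometry TopologicalSpace Topology

namespace Groth.EGA43Topo.FlatUnivOpen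

/-- In a local ring with reduced quotient by a regular element `t`, a minimal prime meeting `(t)`
only at the closed point forces `(t)` to be primary to the maximal ideal. -/
theorem eq_maximalIdeal_of_reduced_quotient {R : Type u} [CommRing R] [IsLocalRing R] [IsNoetherianRing R]
    {t : R} (ht : t ∈ IsLocalRing.maximalIdeal R) (hreg : ∀ b : R, t * b = 0 → b = 0)
    (hred : _root_.IsReduced (R ⧸ Ideal.span {t})) (P : Ideal R) (hP : P ∈ minimalPrimes R)
    (hdim : ∀ q : Ideal R, q.IsPrime → P ≤ q → t ∈ q → q = IsLocalRing.maximalIdeal R)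
    (q : Ideal R) (hq : q.IsPrime) (htq : t ∈ q) : q = IsLocalRing.maximalIdeal R := by
  classical
  have hass : IsAssociatedPrime P R := by
    apply Module.associatedPrimes.minimalPrimes_annihilator_subset_associatedPrimes R R
    rwa [Module.annihilator_eq_bot.mpr inferInstance]
  obtain ⟨hPp, l, hl⟩ := (isAssociatedPrime_iff_exists_injective_linearMap P R).1 hass
  have hann0 : ∀ r : R, r * l 1 = 0 ↔ r ∈ P := fun r => by
    rw [← smul_eq_mul, ← map_smul, map_eq_zero_iff _ hl,
      show r • (1 : R ⧸ P) = Ideal.Quotient.mk P r by simp [Algebra.smul_def],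
      Ideal.Quotient.eq_zero_iff_mem]
  -- remove factors of `t` from the annihilated element
  obtain ⟨b, hb, hann⟩ : ∃ b : R, b ∉ Ideal.span {t} ∧ ∀ r : R, r * b = 0 ↔ r ∈ P := by
    by_contra hne
    push Not at hne
    have key : ∀ n : ℕ, ∃ c : R, t ^ n * c = l 1 := by
      intro n
      induction n with
      | zero => exact ⟨l 1, by simp⟩
      | succ n ih =>
        obtain ⟨c, hc⟩ := ih
        have hpow : ∀ (m : ℕ) (d : R), t ^ m * d = 0 → d = 0 := by
          intro m
          induction m with
          | zero => intro d hd; simpa using hd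
          | succ m ihm => intro d hd; exact ihm d (hreg _ (by linear_combination hd))
        have hcP : ∀ r : R, r * c = 0 ↔ r ∈ P := fun r => by
          rw [← hann0, ← hc]
          exact ⟨fun h => by linear_combination t ^ n * h, fun h => hpow n _ (by linear_combination h)⟩
        have hct : c ∈ Ideal.span {t} := by
          by_contra hct
          obtain ⟨r, hr⟩ := hne c hct
          rcases hr with ⟨h1, h2⟩ | ⟨h1, h2⟩
          · exact h2 ((hcP r).1 h1)
          · exact h1 ((hcP r).2 h2)
        obtain ⟨d, rfl⟩ := Ideal.mem_span_singleton'.1 hct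
        exact ⟨d, by rw [← hc]; ring⟩
    have hmem : l 1 ∈ ⨅ n : ℕ, IsLocalRing.maximalIdeal R ^ n := Ideal.mem_iInf.2 fun n => by
      obtain ⟨c, hc⟩ := key n
      rw [← hc]
      exact Ideal.mul_mem_right _ _ (Ideal.pow_mem_pow ht n)
    rw [Ideal.iInf_pow_eq_bot_of_isLocalRing _ (IsLocalRing.maximalIdeal.isMaximal R).ne_top] at hmem
    exact hPp.ne_top ((Ideal.eq_top_iff_one _).2 ((hann0 1).1 (by rw [one_mul]; exact hmem)))
  have hrad : (P ⊔ Ideal.span {t}).radical = IsLocalRing.maximalIdeal R := by
    refine le_antisymm ?_ ?_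
    · exact (IsLocalRing.maximalIdeal.isMaximal R).isPrime.radical_le_iff.2
        (sup_le (IsLocalRing.le_maximalIdeal hPp.ne_top) (Ideal.span_le.2 (Set.singleton_subset_iff.2 ht)))
    · rw [Ideal.radical_eq_sInf]
      refine le_sInf fun q' hq' => ?_
      exact (hdim q' hq'.2 (le_sup_left.trans hq'.1) (hq'.1 (Ideal.mem_sup_right (Ideal.subset_span rfl)))).ge
  have hrt : (Ideal.span {t}).IsRadical := (Ideal.isRadical_iff_quotient_reduced _).2 hred
  have hbu : IsUnit b := by
    by_contra hnu
    obtain ⟨n, hn⟩ : b ∈ (P ⊔ Ideal.span {t}).radical := hrad.ge hnu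
    obtain ⟨p, hp, s, hs, hps⟩ := Submodule.mem_sup.1 hn
    refine hb (hrt ⟨n + 1, ?_⟩)
    rw [pow_succ, ← hps, add_mul, (hann p).2 hp, zero_add]
    exact Ideal.mul_mem_right _ _ hs
  have hPbot : P = ⊥ := eq_bot_iff.2 fun r hr => (hbu.mul_left_eq_zero).1 ((hann r).2 hr)
  exact hdim q hq (hPbot ▸ bot_le) htq

variable {X Y : Scheme.{u}} (f : X ⟶ Y)

/-- Geometric reducedness of fibres at a point is stable under arbitrary base change. -/
theorem isGeomReducedAt_fibre_baseChange {Y' : Scheme.{u}} (h : Y' ⟶ Y) (s : Y')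
    (q : (pullback.snd f h).fiber s ⟶ f.fiber (h.base s))
    (hsq : IsPullback q ((pullback.snd f h).fiberToSpecResidueField s) (f.fiberToSpecResidueField (h.base s))
      (Spec.map (h.residueFieldMap s)))
    (w : (pullback.snd f h).fiber s)
    (hred : FBase.IsGeomReducedAt (f.fiberToSpecResidueField (h.base s)) (q.base w)) :
    FBase.IsGeomReducedAt ((pullback.snd f h).fiberToSpecResidueField s) w := by
  intro K _ _ z hz
  letI : Algebra (IsLocalRing.ResidueField (Y.presheaf.stalk (h.base s))) K :=
    ((algebraMap (IsLocalRing.ResidueField (Y'.presheaf.stalk s)) K).comp (h.residueFieldMap s).hom).toAlgebra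
  have hp := (IsPullback.of_hasPullback ((pullback.snd f h).fiberToSpecResidueField s)
    (Spec.map (CommRingCat.ofHom (algebraMap (IsLocalRing.ResidueField (Y'.presheaf.stalk s)) K)))).paste_horiz hsq
  rw [← Spec.map_comp] at hp
  let e := hp.isoPullback
  have hfst : (pullback.fst (f.fiberToSpecResidueField (h.base s)) (Spec.map (CommRingCat.ofHom
      (algebraMap (IsLocalRing.ResidueField (Y.presheaf.stalk (h.base s))) K)))).base (e.hom.base z) = q.base w := by
    refine (congrArg (fun m => m.base z) hp.isoPullback_hom_fst).trans ?_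
    exact congrArg q.base hz
  have h2 := hred K (e.hom.base z) hfst
  refine ⟨fun a ha => ?_⟩
  let es := (asIso (e.hom.stalkMap z)).commRingCatIsoToRingEquiv
  exact es.symm.injective ((h2.eq_zero _ (ha.map es.symm)).trans (map_zero _).symm)

/-- The fibre conditions are stable under base change and generization in the fibre. -/
theorem GoodFibre.baseChange {x : X} (hx : GoodFibre f x) {Y' : Scheme.{u}} (h : Y' ⟶ Y)
    (x' : ↥(pullback f h)) (hy : h.base ((pullback.snd f h).base x') = f.base x)
    (hspec : (pullback.fst f h).base x' ⤳ x) : GoodFibre (pullback.snd f h) x' := by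
  suffices key : ∀ (s : Y') (y : Y), h.base s = y → ∀ (a : f.fiber y), (f.fiberι y).base a = x →
      (∀ z : ↥(f.fiber y), a ∈ closure {z} → (∀ z' : ↥(f.fiber y), z ∈ closure {z'} → z' = z) →
        EGA43.IsUnivOpenAt f ((f.fiberι y).base z)) →
      FBase.IsGeomReducedAt (f.fiberToSpecResidueField y) a →
      ∀ w : (pullback.snd f h).fiber s, ((pullback.snd f h).fiberι s).base w = x' →
      (∀ z : ↥((pullback.snd f h).fiber s), w ∈ closure {z} →
        (∀ z' : ↥((pullback.snd f h).fiber s), z ∈ closure {z'} → z' = z) →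
        EGA43.IsUnivOpenAt (pullback.snd f h) (((pullback.snd f h).fiberι s).base z)) ∧
      FBase.IsGeomReducedAt ((pullback.snd f h).fiberToSpecResidueField s) w from
    key _ (f.base x) hy (f.asFiber x) (f.fiberι_asFiber x) hx.1 hx.2
      ((pullback.snd f h).asFiber x') ((pullback.snd f h).fiberι_asFiber x')
  intro s y hys a ha hopen hred w hw
  subst hys
  obtain ⟨q, hq, hsq⟩ := exists_fibre_isPullback f h s
  let ι' := ((pullback.snd f h).fiberι s)
  have hqa : q.base w ⤳ a := by
    rw [← (f.fiberι (h.base s)).isEmbedding.toIsInducing.specializes_iff, ha, ← Scheme.Hom.comp_apply, hq,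
      Scheme.Hom.comp_apply, hw]
    exact hspec
  haveI : Flat (Spec.map (h.residueFieldMap s)) := by
    rw [HasRingHomProperty.Spec_iff (P := @Flat)]
    letI := (h.residueFieldMap s).hom.toAlgebra
    exact RingHom.flat_algebraMap_iff.2 (inferInstance : Module.Flat (Y.residueField (h.base s))
      (Y'.residueField s))
  haveI : Flat q := MorphismProperty.of_isPullback hsq.flip inferInstance
  refine ⟨fun z hz hmax => ?_,
    isGeomReducedAt_fibre_baseChange f h s q hsq w (isGeomReducedAt_of_specializes _ hqa hred)⟩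
  have hmax₀ : ∀ z' : ↥(f.fiber (h.base s)), q.base z ∈ closure {z'} → z' = q.base z := fun z' hz' => by
    obtain ⟨w', hw', hqw'⟩ := Groth.FibreDim.generalizing_of_flat_stalkMap q z (Flat.stalkMap q z) z
      specializes_rfl z' (specializes_iff_mem_closure.2 hz')
    rw [← hqw', hmax w' (specializes_iff_mem_closure.1 hw')]
  have hu := hopen (q.base z) (specializes_iff_mem_closure.1
    (((specializes_iff_mem_closure.2 hz).map q.continuous).trans hqa)) hmax₀
  refine isUnivOpenAt_baseChange hu (IsPullback.of_hasPullback f h) _ ?_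
  rw [← Scheme.Hom.comp_apply, ← hq, Scheme.Hom.comp_apply]

variable [LocallyOfFiniteType f]

/-- Maximal points of a good fibre through `x` have the fibre dimension of the components. -/
theorem fibreDimAt_max_eq {x : X} {e : ℕ}
    (heq : ∀ Z ∈ irreducibleComponents (↥(f.fiber (f.base x)) : Type u), f.asFiber x ∈ Z →
      topologicalKrullDim (↥Z : Type u) = e)
    {v : X} (hv : f.base v = f.base x) (hvx : v ⤳ x)
    (hmax : ∀ v', f.base v' = f.base v → v' ⤳ v → v' = v) : FlatMor.fibreDimAt f v = e := by
  suffices key : ∀ y : Y, f.base v = y → ∀ a : f.fiber y, (f.fiberι y).base a = x →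
      (∀ Z ∈ irreducibleComponents (↥(f.fiber y) : Type u), a ∈ Z → topologicalKrullDim (↥Z : Type u) = e) →
      FlatMor.fibreDimAt f v = e from key _ hv (f.asFiber x) (f.fiberι_asFiber x) heq
  intro y hy a ha hd
  subst hy
  rw [(Groth.FibreDim.fibreDimAt_eq_height_of_max f hmax).1, ← Groth.Variety2.Dim.dim_closure_singleton]
  refine hd _ (Groth.FibreDim.mem_irreducibleComponents_of_isMax ((Groth.FibreDim.isMax_asFiber_iff f v).2 hmax)) ?_
  rw [← specializes_iff_mem_closure, ← (f.fiberι _).isEmbedding.toIsInducing.specializes_iff, f.fiberι_asFiber, ha]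
  exact hvx

theorem isMax_closedPoint_dvr_coheight {R : Type u} [CommRing R] [IsDomain R] [IsDiscreteValuationRing R] :
    Order.coheight (α := ↥(Spec (CommRingCat.of R))) (IsLocalRing.closedPoint R) ≤ 1 := by
  obtain ⟨hd, hdvr⟩ := Groth.Ega43DVR.stalk_isDVR R (IsLocalRing.closedPoint R) rfl
  have h := ringKrullDim_stalk_eq_coheight (X := Spec (CommRingCat.of R)) (IsLocalRing.closedPoint R)
  have h1 : ringKrullDim ((Spec (CommRingCat.of R)).presheaf.stalk (IsLocalRing.closedPoint R)) ≤ 1 :=
    Ring.krullDimLE_iff.1 inferInstance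
  rw [h] at h1
  exact_mod_cast h1

/-- Fibre dimension along generizations: the key step. -/
theorem le_fibreDimAt_of_specializes_aux {x : X} (hx : GoodFibre f x) {e : ℕ}
    (heq : ∀ Z ∈ irreducibleComponents (↥(f.fiber (f.base x)) : Type u), f.asFiber x ∈ Z →
      topologicalKrullDim (↥Z : Type u) = e)
    {R : Type u} [CommRing R] [IsDomain R] [IsDiscreteValuationRing R]
    (h : Spec (CommRingCat.of R) ⟶ Y) (hy : h.base (IsLocalRing.closedPoint R) = f.base x)
    (x' u : ↥(pullback f h)) (hfst : (pullback.fst f h).base x' ⤳ x)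
    (hclosed : (pullback.snd f h).base x' = IsLocalRing.closedPoint R)
    (hux : u ⤳ x') (hu : (pullback.snd f h).base u ≠ IsLocalRing.closedPoint R)
    (humax : IsMax u) :
    (e : ℕ∞) ≤ Order.height ((pullback.snd f h).asFiber u) := by
  let g := pullback.snd f h
  haveI : LocallyOfFiniteType g := inferInstanceAs (LocallyOfFiniteType (pullback.snd f h))
  haveI : IsLocallyNoetherian (pullback f h) := LocallyOfFiniteType.isLocallyNoetherian g
  obtain ⟨hd, hdvr⟩ := Groth.Ega43DVR.stalk_isDVR R (g.base x') hclosed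
  obtain ⟨π, hπ⟩ := IsDiscreteValuationRing.exists_irreducible ((Spec (CommRingCat.of R)).presheaf.stalk (g.base x'))
  let φ := (g.stalkMap x').hom
  have hm : IsLocalRing.maximalIdeal _ = Ideal.span {π} := (IsDiscreteValuationRing.irreducible_iff_uniformizer π).1 hπ
  let pt : PrimeSpectrum ((pullback f h).presheaf.stalk x') → ↥(pullback f h) :=
    fun q => ((pullback f h).fromSpecStalk x').base q
  have hcl : ∀ q, φ π ∈ q.asIdeal ↔ g.base (pt q) = g.base x' := by
    intro q
    have h1 : g.base (pt q) = ((Spec (CommRingCat.of R)).fromSpecStalk (g.base x')).base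
        (PrimeSpectrum.comap φ q) :=
      (congrArg (fun m : Spec ((pullback f h).presheaf.stalk x') ⟶ Spec (CommRingCat.of R) => m.base q)
        (Scheme.SpecMap_stalkMap_fromSpecStalk g (x := x'))).symm
    constructor
    · intro hq
      have hle : IsLocalRing.maximalIdeal _ ≤ (PrimeSpectrum.comap φ q).asIdeal := by
        rw [hm, Ideal.span_le, Set.singleton_subset_iff]
        exact hq
      rw [h1, show PrimeSpectrum.comap φ q = IsLocalRing.closedPoint _ from
        PrimeSpectrum.ext ((IsLocalRing.maximalIdeal.isMaximal _).eq_of_le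
          (PrimeSpectrum.comap φ q).isPrime.ne_top hle).symm]
      exact Scheme.fromSpecStalk_closedPoint
    · intro hq
      have h2 : PrimeSpectrum.comap φ q = IsLocalRing.closedPoint _ :=
        ((Spec (CommRingCat.of R)).fromSpecStalk (g.base x')).isEmbedding.injective
          ((h1.symm.trans hq).trans Scheme.fromSpecStalk_closedPoint.symm)
      show π ∈ (PrimeSpectrum.comap φ q).asIdeal
      rw [h2]
      exact hm.ge (Ideal.subset_span rfl)
  obtain ⟨U, hU⟩ := Scheme.range_fromSpecStalk.ge hux
  -- the generic point of a component of the special fibre inside the closure of `u`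
  obtain ⟨V, hV, hVm⟩ := Ideal.exists_minimalPrimes_le (I := U.asIdeal ⊔ Ideal.span {φ π})
    (J := IsLocalRing.maximalIdeal ((pullback f h).presheaf.stalk x'))
    (sup_le (IsLocalRing.le_maximalIdeal U.isPrime.ne_top) (Ideal.span_le.2 (Set.singleton_subset_iff.2
      (fun hu' => hπ.not_isUnit (isUnit_of_map_unit φ π hu')))))
  haveI := hV.1.1
  let v := pt ⟨V, inferInstance⟩
  have hvx : v ⤳ x' := Scheme.range_fromSpecStalk.le ⟨_, rfl⟩
  have huv : u ⤳ v := by
    rw [← hU]
    exact ((pullback f h).fromSpecStalk x').isEmbedding.toIsInducing.specializes_iff.2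
      ((PrimeSpectrum.le_iff_specializes U ⟨V, inferInstance⟩).1 (le_sup_left.trans hV.1.2))
  have hgv : g.base v = IsLocalRing.closedPoint R :=
    ((hcl _).1 (hV.1.2 (Ideal.mem_sup_right (Ideal.subset_span rfl)))).trans hclosed
  have hvmin : ∀ t, u ⤳ t → t ⤳ v → g.base t = IsLocalRing.closedPoint R → t = v := by
    intro t hut htv hgt
    obtain ⟨T, rfl⟩ := Scheme.range_fromSpecStalk.ge (htv.trans hvx)
    have hTV : T.asIdeal ≤ V := (PrimeSpectrum.le_iff_specializes T ⟨V, inferInstance⟩).2
      (((pullback f h).fromSpecStalk x').isEmbedding.toIsInducing.specializes_iff.1 htv)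
    have hUT : U.asIdeal ≤ T.asIdeal := (PrimeSpectrum.le_iff_specializes U T).2
      (((pullback f h).fromSpecStalk x').isEmbedding.toIsInducing.specializes_iff.1 (hU.symm ▸ hut))
    have hVT : V ≤ T.asIdeal := hV.2 ⟨T.isPrime, sup_le hUT (Ideal.span_le.2 (Set.singleton_subset_iff.2
      ((hcl T).2 (hgt.trans hclosed.symm))))⟩ hTV
    exact congrArg pt (PrimeSpectrum.ext (le_antisymm hTV hVT))
  have hfstv : (pullback.fst f h).base v ⤳ x := (hvx.map (pullback.fst f h).continuous).trans hfst
  -- in the local ring at `v`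
  have hflat : (g.stalkMap v).hom.Flat := flat_stalkMap_baseChange_dvr f hx h hy v hfstv hgv
  have hredv : _root_.IsReduced (CInt.fiberStalk g v) := isReduced_fiberStalk_baseChange_dvr f hx h hy v hfstv hgv
  obtain ⟨hdv, hdvrv⟩ := Groth.Ega43DVR.stalk_isDVR R (g.base v) hgv
  obtain ⟨ϖ, hϖ⟩ := IsDiscreteValuationRing.exists_irreducible ((Spec (CommRingCat.of R)).presheaf.stalk (g.base v))
  let ψ := (g.stalkMap v).hom
  have hmv : IsLocalRing.maximalIdeal _ = Ideal.span {ϖ} := (IsDiscreteValuationRing.irreducible_iff_uniformizer ϖ).1 hϖ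
  let ptv : PrimeSpectrum ((pullback f h).presheaf.stalk v) → ↥(pullback f h) :=
    fun q => ((pullback f h).fromSpecStalk v).base q
  have hclv : ∀ q, ψ ϖ ∈ q.asIdeal ↔ g.base (ptv q) = g.base v := by
    intro q
    have h1 : g.base (ptv q) = ((Spec (CommRingCat.of R)).fromSpecStalk (g.base v)).base
        (PrimeSpectrum.comap ψ q) :=
      (congrArg (fun m : Spec ((pullback f h).presheaf.stalk v) ⟶ Spec (CommRingCat.of R) => m.base q)
        (Scheme.SpecMap_stalkMap_fromSpecStalk g (x := v))).symm
    constructor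
    · intro hq
      have hle : IsLocalRing.maximalIdeal _ ≤ (PrimeSpectrum.comap ψ q).asIdeal := by
        rw [hmv, Ideal.span_le, Set.singleton_subset_iff]
        exact hq
      rw [h1, show PrimeSpectrum.comap ψ q = IsLocalRing.closedPoint _ from
        PrimeSpectrum.ext ((IsLocalRing.maximalIdeal.isMaximal _).eq_of_le
          (PrimeSpectrum.comap ψ q).isPrime.ne_top hle).symm]
      exact Scheme.fromSpecStalk_closedPoint
    · intro hq
      have h2 : PrimeSpectrum.comap ψ q = IsLocalRing.closedPoint _ :=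
        ((Spec (CommRingCat.of R)).fromSpecStalk (g.base v)).isEmbedding.injective
          ((h1.symm.trans hq).trans Scheme.fromSpecStalk_closedPoint.symm)
      show ϖ ∈ (PrimeSpectrum.comap ψ q).asIdeal
      rw [h2]
      exact hmv.ge (Ideal.subset_span rfl)
  obtain ⟨Uv, hUv⟩ := Scheme.range_fromSpecStalk.ge huv
  have hUvmin : Uv.asIdeal ∈ minimalPrimes ((pullback f h).presheaf.stalk v) := by
    refine ⟨⟨Uv.isPrime, bot_le⟩, fun T hT hTU => ?_⟩
    have hsp : ptv ⟨T, hT.1⟩ ⤳ u := by
      rw [← hUv]
      exact ((pullback f h).fromSpecStalk v).isEmbedding.toIsInducing.specializes_iff.2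
        ((PrimeSpectrum.le_iff_specializes ⟨T, hT.1⟩ Uv).1 hTU)
    have heqT : ptv ⟨T, hT.1⟩ = u := (hsp.antisymm (humax hsp)).eq
    exact (congrArg PrimeSpectrum.asIdeal (((pullback f h).fromSpecStalk v).isEmbedding.injective
      (heqT.trans hUv.symm))).ge
  have hmaxv : ∀ v', g.base v' = g.base v → v' ⤳ v → v' = v := by
    intro v' hv' hsp
    obtain ⟨T, rfl⟩ := Scheme.range_fromSpecStalk.ge hsp
    haveI : _root_.IsReduced ((pullback f h).presheaf.stalk v ⧸ Ideal.span {ψ ϖ}) := by
      obtain ⟨e'⟩ := Groth.Ega4b.nonempty_fiberStalk_equiv g v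
      haveI := hredv
      haveI : _root_.IsReduced ((pullback f h).presheaf.stalk v ⧸ Ideal.map ψ (IsLocalRing.maximalIdeal _)) :=
        isReduced_of_injective e'.toRingHom e'.injective
      rw [show Ideal.span {ψ ϖ} = Ideal.map ψ (IsLocalRing.maximalIdeal _) by
        rw [hmv, Ideal.map_span, Set.image_singleton]]
      assumption
    have hT := eq_maximalIdeal_of_reduced_quotient (t := ψ ϖ)
      (fun hu' => hϖ.not_isUnit (isUnit_of_map_unit ψ ϖ hu'))
      (fun b hb => by
        letI := ψ.toAlgebra
        haveI : Module.Flat ((Spec (CommRingCat.of R)).presheaf.stalk (g.base v)) ((pullback f h).presheaf.stalk v) := hflat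
        exact (IsSMulRegular.of_flat (S := (pullback f h).presheaf.stalk v)
          (x := ϖ) (IsSMulRegular.of_ne_zero hϖ.ne_zero))
          (show ϖ • b = ϖ • 0 by rw [smul_zero, Algebra.smul_def]; exact hb))
      inferInstance Uv.asIdeal hUvmin (fun q hq hUq htq => by
        have hqv : ptv ⟨q, hq⟩ ⤳ v := Scheme.range_fromSpecStalk.le ⟨_, rfl⟩
        have huq : u ⤳ ptv ⟨q, hq⟩ := by
          rw [← hUv]
          exact ((pullback f h).fromSpecStalk v).isEmbedding.toIsInducing.specializes_iff.2
            ((PrimeSpectrum.le_iff_specializes Uv ⟨q, hq⟩).1 hUq)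
        have heqv := hvmin _ huq hqv (((hclv ⟨q, hq⟩).1 htq).trans hgv)
        exact congrArg PrimeSpectrum.asIdeal (((pullback f h).fromSpecStalk v).isEmbedding.injective
          (heqv.trans Scheme.fromSpecStalk_closedPoint.symm)))
      T.asIdeal T.isPrime ((hclv T).2 hv')
    rw [show T = IsLocalRing.closedPoint _ from PrimeSpectrum.ext hT]
    exact Scheme.fromSpecStalk_closedPoint
  -- the dimension of the component of the special fibre
  have hdimv : FlatMor.fibreDimAt g v = e := by
    rw [Groth.FibreDim.fibreDimAt_baseChange f h g (pullback.fst f h) (IsPullback.of_hasPullback f h)]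
    have hv0 : f.base ((pullback.fst f h).base v) = f.base x := by
      rw [← Scheme.Hom.comp_apply, pullback.condition, Scheme.Hom.comp_apply, hgv, hy]
    refine fibreDimAt_max_eq f heq hv0 hfstv ?_
    intro z hz hzv
    suffices key : ∀ (s : ↥(Spec (CommRingCat.of R))) (w : g.fiber s), (g.fiberι s).base w = v →
        (∀ w' : g.fiber s, w' ⤳ w → w' = w) → z = (pullback.fst f h).base v from
      key _ (g.asFiber v) (g.fiberι_asFiber v) fun w' hw' => by
        refine (g.fiberι _).isEmbedding.injective ((hmaxv _ (Groth.FibreDim.apply_fiberι g _ w') ?_).trans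
          (g.fiberι_asFiber v).symm)
        have := hw'.map (g.fiberι (g.base v)).continuous
        rwa [g.fiberι_asFiber] at this
    intro s w hw hwmax
    obtain ⟨q, hq, hsq⟩ := exists_fibre_isPullback f h s
    haveI : Flat (Spec.map (h.residueFieldMap s)) := by
      rw [HasRingHomProperty.Spec_iff (P := @Flat)]
      letI := (h.residueFieldMap s).hom.toAlgebra
      exact RingHom.flat_algebraMap_iff.2 (inferInstance : Module.Flat (Y.residueField (h.base s))
        ((Spec (CommRingCat.of R)).residueField s))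
    haveI : Flat q := MorphismProperty.of_isPullback hsq.flip inferInstance
    have hqw : (f.fiberι (h.base s)).base (q.base w) = (pullback.fst f h).base v := by
      rw [← Scheme.Hom.comp_apply, hq, Scheme.Hom.comp_apply, hw]
    obtain ⟨z₀, rfl⟩ : z ∈ Set.range (f.fiberι (h.base s)).base := by
      rw [f.range_fiberι]
      show f.base z = h.base s
      rw [hz, ← hqw, Groth.FibreDim.apply_fiberι]
    obtain ⟨w', hw', hqw'⟩ := Groth.FibreDim.generalizing_of_flat_stalkMap q w (Flat.stalkMap q w) w
      specializes_rfl z₀ (by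
        rw [← (f.fiberι (h.base s)).isEmbedding.toIsInducing.specializes_iff, hqw]; exact hzv)
    rw [← hqw', hwmax w' hw', hqw]
  -- the dimension formula
  obtain ⟨t, t₀, A, B, ht, ht₀, hle, -, -, hchain, hB, -, -, -, -, -, -⟩ :=
    Groth.FibreDim.exists_dim_formula_along g huv
  rw [(Groth.FibreDim.fibreDimAt_eq_height_of_max g hmaxv).1, ht] at hdimv
  have hte : t = e := by exact_mod_cast hdimv
  have hne : v ≠ u := fun hvu => hu (hvu ▸ hgv)
  have hlt : v < u := lt_of_le_not_ge huv fun hge => hne ((Specializes.antisymm (hge : v ⤳ u) huv).eq)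
  have hA : 1 ≤ A := hchain ((RelSeries.singleton _ u).cons v hlt) (by rw [RelSeries.head_cons]) (by
    rw [RelSeries.last_cons]; exact le_rfl)
  rw [hgv] at hB
  have hB1 : B ≤ 1 := by exact_mod_cast hB.trans isMax_closedPoint_dvr_coheight
  rw [ht₀]
  exact_mod_cast (show e ≤ t₀ by omega)

/-- All generizations have at least the dimension of the components of the fibre. -/
theorem le_fibreDimAt_of_specializes [IsLocallyNoetherian Y] {x : X} (hx : GoodFibre f x) {e : ℕ}
    (heq : ∀ Z ∈ irreducibleComponents (↥(f.fiber (f.base x)) : Type u), f.asFiber x ∈ Z →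
      topologicalKrullDim (↥Z : Type u) = e)
    {w : X} (hw : w ⤳ x) : (e : WithBot ℕ∞) ≤ FlatMor.fibreDimAt f w := by
  by_cases hwx : w = x
  · subst hwx
    obtain ⟨z, hz, hzx, hz0, hzd⟩ := Groth.FibreDim.exists_maximal_fibre_point f w
    have hmax := (Groth.FibreDim.isMax_asFiber_iff f z).1 (Order.coheight_eq_zero.1 hz0)
    rw [← hzd, ← (Groth.FibreDim.fibreDimAt_eq_height_of_max f hmax).1, fibreDimAt_max_eq f heq hz hzx hmax]
  haveI : IsLocallyNoetherian X := LocallyOfFiniteType.isLocallyNoetherian f
  let A := Y.presheaf.stalk (f.base x)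
  let L := X.presheaf.stalk x
  letI : Algebra A L := (f.stalkMap x).hom.toAlgebra
  haveI : IsLocalHom (algebraMap A L) := inferInstanceAs (IsLocalHom (f.stalkMap x).hom)
  obtain ⟨Q', hQ'⟩ := Scheme.range_fromSpecStalk.ge hw
  let Q := Q'.asIdeal
  haveI : Q.IsPrime := Q'.isPrime
  haveI : IsLocalRing (L ⧸ Q) := .of_surjective' _ Ideal.Quotient.mk_surjective
  have hnf : ¬ IsField (L ⧸ Q) := fun hf => hwx (by
    rw [← hQ', show Q' = IsLocalRing.closedPoint _ from
      PrimeSpectrum.ext (IsLocalRing.eq_maximalIdeal (Ideal.Quotient.maximal_of_isField Q hf))]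
    exact Scheme.fromSpecStalk_closedPoint)
  obtain ⟨R, _, _, _, ψ, hψinj, hψloc⟩ := Groth.EGA43Val.exists_dvr_dominating (L ⧸ Q) hnf
  haveI := hψloc
  haveI : IsLocalHom (Ideal.Quotient.mk Q) := .of_surjective _ Ideal.Quotient.mk_surjective
  let χ : L →+* R := ψ.comp (Ideal.Quotient.mk Q)
  letI : Algebra A R := (χ.comp (algebraMap A L)).toAlgebra
  haveI : IsLocalHom χ := inferInstanceAs (IsLocalHom (ψ.comp (Ideal.Quotient.mk Q)))
  haveI : IsLocalHom (algebraMap A R) := inferInstanceAs (IsLocalHom (χ.comp (algebraMap A L)))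
  let φ : CommRingCat.of A ⟶ CommRingCat.of R := CommRingCat.ofHom (algebraMap A R)
  let h : Spec (CommRingCat.of R) ⟶ Y := Spec.map φ ≫ Y.fromSpecStalk (f.base x)
  have hy : h.base (IsLocalRing.closedPoint R) = f.base x := by
    show (Y.fromSpecStalk (f.base x)).base (PrimeSpectrum.comap (algebraMap A R) (IsLocalRing.closedPoint R)) = _
    rw [IsLocalRing.comap_closedPoint (algebraMap A R)]
    exact Scheme.fromSpecStalk_closedPoint
  let σ : Spec (CommRingCat.of R) ⟶ X :=
    Spec.map (CommRingCat.ofHom χ : X.presheaf.stalk x ⟶ CommRingCat.of R) ≫ X.fromSpecStalk x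
  have hσ : σ ≫ f = 𝟙 _ ≫ h := by
    show (Spec.map (CommRingCat.ofHom χ : X.presheaf.stalk x ⟶ CommRingCat.of R) ≫ X.fromSpecStalk x) ≫ f = _
    rw [Category.id_comp, Category.assoc]
    refine (congrArg (fun m => Spec.map (CommRingCat.ofHom χ : X.presheaf.stalk x ⟶ CommRingCat.of R) ≫ m)
      (Scheme.SpecMap_stalkMap_fromSpecStalk f (x := x)).symm).trans ?_
    exact (Spec.map_comp_assoc _ _ _).symm.trans rfl
  let τ : Spec (CommRingCat.of R) ⟶ pullback f h := pullback.lift σ (𝟙 _) hσ
  have hτ1 : τ ≫ pullback.fst f h = σ := pullback.lift_fst ..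
  have hτ2 : τ ≫ pullback.snd f h = 𝟙 _ := pullback.lift_snd ..
  let g := pullback.snd f h
  haveI : LocallyOfFiniteType g := inferInstanceAs (LocallyOfFiniteType (pullback.snd f h))
  haveI : IsLocallyNoetherian (pullback f h) := LocallyOfFiniteType.isLocallyNoetherian g
  let η : PrimeSpectrum R := ⟨⊥, Ideal.isPrime_bot⟩
  have hgc : g.base (τ.base (IsLocalRing.closedPoint R)) = IsLocalRing.closedPoint R :=
    congrArg (fun m => m.base (IsLocalRing.closedPoint R)) hτ2
  have hgη : g.base (τ.base η) = η := congrArg (fun m => m.base η) hτ2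
  have hfc : (pullback.fst f h).base (τ.base (IsLocalRing.closedPoint R)) = x := by
    refine (congrArg (fun m => m.base (IsLocalRing.closedPoint R)) hτ1).trans ?_
    show (X.fromSpecStalk x).base (PrimeSpectrum.comap χ (IsLocalRing.closedPoint R)) = x
    rw [IsLocalRing.comap_closedPoint χ]
    exact Scheme.fromSpecStalk_closedPoint
  have hfη : (pullback.fst f h).base (τ.base η) = w := by
    refine (congrArg (fun m => m.base η) hτ1).trans ?_
    show (X.fromSpecStalk x).base (PrimeSpectrum.comap χ η) = w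
    rw [← hQ']
    refine congrArg _ (PrimeSpectrum.ext ?_)
    show Ideal.comap χ ⊥ = Q
    ext r
    show ψ (Ideal.Quotient.mk Q r) = 0 ↔ _
    rw [map_eq_zero_iff _ hψinj, Ideal.Quotient.eq_zero_iff_mem]
  obtain ⟨u, hu, huw, hu0, hud⟩ := Groth.FibreDim.exists_maximal_fibre_point g (τ.base η)
  have humax := (Groth.FibreDim.isMax_asFiber_iff g u).1 (Order.coheight_eq_zero.1 hu0)
  have hne : (η : ↥(Spec (CommRingCat.of R))) ≠ IsLocalRing.closedPoint R := fun he =>
    IsDiscreteValuationRing.not_a_field R (congrArg PrimeSpectrum.asIdeal he).symm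
  have hmax : IsMax u := fun u' hu' => by
    have hgu : g.base u' = g.base u := by
      refine PrimeSpectrum.ext (le_antisymm ((PrimeSpectrum.le_iff_specializes (g.base u') (g.base u)).2
        ((hu' : u' ⤳ u).map g.continuous)) ?_)
      rw [hu, hgη]
      exact bot_le
    exact le_of_eq (humax u' hgu hu')
  have hηc : τ.base η ⤳ τ.base (IsLocalRing.closedPoint R) :=
    ((PrimeSpectrum.le_iff_specializes η (IsLocalRing.closedPoint R)).1 bot_le).map τ.continuous
  have key := le_fibreDimAt_of_specializes_aux f hx heq h hy _ u (by rw [hfc]) hgc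
    (huw.trans hηc) (by rw [hu, hgη]; exact hne) hmax
  rw [← hfη, ← Groth.FibreDim.fibreDimAt_baseChange f h g (pullback.fst f h) (IsPullback.of_hasPullback f h),
    ← hud]
  exact WithBot.coe_le_coe.2 key

/-- **EGA IV 15.3** : universally open at the generic points of a geometrically reduced
equidimensional fibre implies equidimensional. -/
theorem isEquidimAt_of_goodFibre [IsLocallyNoetherian Y] {x : X} (hx : GoodFibre f x) {e : ℕ}
    (heq : ∀ Z ∈ irreducibleComponents (↥(f.fiber (f.base x)) : Type u), f.asFiber x ∈ Z →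
      topologicalKrullDim (↥Z : Type u) = e) : EGA43.IsEquidimAt f x := by
  haveI : IsLocallyNoetherian X := LocallyOfFiniteType.isLocallyNoetherian f
  obtain ⟨z, hz, hzx, hz0, hzd⟩ := Groth.FibreDim.exists_maximal_fibre_point f x
  have hzmax := (Groth.FibreDim.isMax_asFiber_iff f z).1 (Order.coheight_eq_zero.1 hz0)
  have hxe : FlatMor.fibreDimAt f x ≤ (e : WithBot ℕ∞) := by
    rw [← hzd, ← (Groth.FibreDim.fibreDimAt_eq_height_of_max f hzmax).1, fibreDimAt_max_eq f heq hz hzx hzmax]
  obtain ⟨V, hxV, hV⟩ := exists_open_isMax_specializes x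
  -- flatness over the reduced base gives going down at `x`
  let T : Closeds Y := ⊤
  let i := (Scheme.IdealSheafData.vanishingIdeal T).subschemeι
  haveI : IsReduced (Scheme.IdealSheafData.vanishingIdeal T).subscheme :=
    Groth.PropsBasic2.isReduced_vanishingIdeal_subscheme T
  haveI := LocallyOfFiniteType.isLocallyNoetherian i
  have hsurj : Function.Surjective i.base := fun y => by
    have : y ∈ Set.range i.base := by rw [Groth.PropsBasic2.range_vanishingIdeal_subschemeι T]; trivial
    exact this
  obtain ⟨y₀, hy₀⟩ := hsurj (f.base x)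
  obtain ⟨x', hx'1, hx'2⟩ := Scheme.Pullback.exists_preimage_pullback x y₀ hy₀.symm
  haveI : LocallyOfFiniteType (pullback.snd f i) := inferInstance
  have hgood := hx.baseChange f i x' (by rw [hx'2, hy₀]) (by rw [hx'1])
  have hflat := flat_stalkMap_of_goodFibre (pullback.snd f i) hgood
  have hmaxmax : ∀ η : X, η ⤳ x → IsMax η → IsMax (f.base η) ∧ f.base η ⤳ f.base x := by
    intro η hη hmax
    refine ⟨fun y' hy' => ?_, hη.map f.continuous⟩
    obtain ⟨a, ha⟩ := hsurj (f.base η)
    obtain ⟨b, hb⟩ := hsurj y'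
    obtain ⟨η', hη'1, hη'2⟩ := Scheme.Pullback.exists_preimage_pullback η a ha.symm
    have hsp : η' ⤳ x' := by
      rw [← (pullback.fst f i).isEmbedding.toIsInducing.specializes_iff, hη'1, hx'1]
      exact hη
    have hba : b ⤳ (pullback.snd f i).base η' := by
      rw [hη'2, ← i.isEmbedding.toIsInducing.specializes_iff, hb, ha]
      exact hy'
    obtain ⟨w, hw, hwb⟩ := Groth.FibreDim.generalizing_of_flat_stalkMap (pullback.snd f i) x' hflat η' hsp b hba
    have hwη : (pullback.fst f i).base w = η := by
      refine (Specializes.antisymm ?_ (hmax ?_)).eq <;>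
      · show (pullback.fst f i).base w ⤳ η
        rw [← hη'1]
        exact hw.map (pullback.fst f i).continuous
    refine le_of_eq ?_
    rw [← hb, ← hwb, ← hwη, ← Scheme.Hom.comp_apply, ← Scheme.Hom.comp_apply, pullback.condition]
  let O : X.Opens := ⟨{w | FlatMor.fibreDimAt f w ≤ (e : WithBot ℕ∞)}, Groth.FibreDim.isOpen_fibreDimAt_le f e⟩
  rw [Groth.FibreDim.isEquidimAt_iff]
  refine ⟨e, V ⊓ O, ⟨hxV, hxe⟩, fun η hη hmax => hmaxmax η (hV η hη.1 hmax) hmax, fun w hw => ?_⟩
  refine le_antisymm hw.2 ?_
  obtain ⟨η, hηw, hηc⟩ := Groth.FibreDim.exists_genericPoint_specializes' w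
  have hηmax := Groth.FibreDim.isMax_of_mem_genericPoints hηc
  have hge := le_fibreDimAt_of_specializes f hx heq (hV η (Specializes.mem_open hηw V.isOpen hw.1) hηmax)
  cases e with
  | zero =>
    obtain ⟨m, hm⟩ := Groth.CMMor.exists_fibreDimAt_eq_nat f w
    rw [hm]; exact_mod_cast Nat.zero_le m
  | succ k =>
    by_contra hc
    obtain ⟨m, hm⟩ := Groth.CMMor.exists_fibreDimAt_eq_nat f w
    rw [hm] at hc
    have hmk : m ≤ k := by
      by_contra hcc
      exact hc (by exact_mod_cast (show k + 1 ≤ m by omega))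
    have hwO : FlatMor.fibreDimAt f w ≤ (k : WithBot ℕ∞) := by rw [hm]; exact_mod_cast hmk
    have hmem : η ∈ {z : X | FlatMor.fibreDimAt f z ≤ (k : WithBot ℕ∞)} :=
      Specializes.mem_open hηw (Groth.FibreDim.isOpen_fibreDimAt_le f k) hwO
    have h2 := hge.trans hmem
    exact absurd h2 (by norm_cast; omega)

end Groth.EGA43Topo.FlatUnivOpen
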