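import Groth.Agent.EGA43Topo.SectionCompNhd

/-!
# Openness of the good points (EGA IV 15.2.2, first part)
-/

set_option autoImplicit false
set_option linter.style.haveILetI false
universe u

open CategoryTheory CategoryTheory.Limits AlgebraicGeometry TopologicalSpace Topology

namespace Groth.EGA43Topo.FlatUnivOpen

/-- Near a good point the morphism is universally open with geometrically reduced fibres. -/
theorem exists_nhd_univOpen_geomReduced {X Y : Scheme.{u}} [IsLocallyNoetherian Y] (f : X ⟶ Y)
    [LocallyOfFiniteType f] {x : X} (hx : GoodFibre f x) :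
    ∃ U : X.Opens, x ∈ U ∧ UniversallyOpen (U.ι ≫ f) ∧
      ∀ x' : X, x' ∈ U → FBase.IsGeomReducedAt (f.fiberToSpecResidueField (f.base x')) (f.asFiber x') := by
  let T : Closeds Y := ⊤
  let i := (Scheme.IdealSheafData.vanishingIdeal T).subschemeι
  haveI : IsReduced (Scheme.IdealSheafData.vanishingIdeal T).subscheme :=
    Groth.PropsBasic2.isReduced_vanishingIdeal_subscheme T
  have hsurj : Function.Surjective i.base := fun y => by
    have : y ∈ Set.range i.base := by rw [Groth.PropsBasic2.range_vanishingIdeal_subschemeι T]; trivial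
    exact this
  haveI : Surjective i := ⟨hsurj⟩
  haveI := LocallyOfFiniteType.isLocallyNoetherian i
  let a := pullback.fst f i
  let f' := pullback.snd f i
  haveI : LocallyOfFiniteType f' := inferInstanceAs (LocallyOfFiniteType (pullback.snd f i))
  haveI : LocallyOfFinitePresentation f' := inferInstance
  haveI : Surjective a := MorphismProperty.pullback_fst _ _ inferInstance
  obtain ⟨x', hx'⟩ := a.surjective x
  have hgood' : GoodFibre f' x' := hx.baseChange f i x'
    (by rw [← Scheme.Hom.comp_apply, ← pullback.condition, Scheme.Hom.comp_apply, hx']) (by rw [hx'])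
  let O : Set ↥(pullback f i) := {w | (f'.stalkMap w).hom.Flat ∧
    FBase.IsGeomReducedAt (f'.fiberToSpecResidueField (f'.base w)) (f'.asFiber w)}
  have hO : IsOpen O := Groth.Agent.S4963.result f'
  have hhom : IsHomeomorph a.base :=
    isHomeomorph_iff_isEmbedding_surjective.2 ⟨a.isClosedEmbedding.isEmbedding, a.surjective⟩
  let U : X.Opens := ⟨a.base '' O, hhom.isOpenMap _ hO⟩
  refine ⟨U, ⟨x', ⟨flat_stalkMap_of_goodFibre f' hgood', hgood'.2⟩, hx'⟩, ?_, ?_⟩
  · refine (universallyOpen_iff_forall_isUnivOpenAt _).2 fun v => ?_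
    refine isUnivOpenAt_of_closed_cover (ι := PUnit.{1}) (T := fun _ => (Scheme.IdealSheafData.vanishingIdeal T).subscheme)
      (fun _ => i) (by rw [Set.iUnion_const, Set.range_eq_univ.2 hsurj]) fun _ p hp => ?_
    let m : pullback (U.ι ≫ f) i ⟶ pullback f i := pullback.map _ _ _ _ U.ι (𝟙 _) (𝟙 _) (by simp) (by simp)
    have hm1 : m ≫ a = pullback.fst (U.ι ≫ f) i ≫ U.ι := pullback.lift_fst ..
    have hm2 : m ≫ f' = pullback.snd (U.ι ≫ f) i := (pullback.lift_snd ..).trans (Category.comp_id _)
    haveI : Flat (pullback.snd (U.ι ≫ f) i) := by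
      refine Flat.of_stalkMap _ fun q => ?_
      rw [← hm2, Scheme.Hom.stalkMap_comp]
      have hq : m.base q ∈ O := by
        have : a.base (m.base q) ∈ a.base '' O := by
          rw [← Scheme.Hom.comp_apply, hm1, Scheme.Hom.comp_apply]
          exact ((pullback.fst (U.ι ≫ f) i).base q).2
        obtain ⟨o, ho, hoe⟩ := this
        exact hhom.injective hoe ▸ ho
      exact RingHom.Flat.comp hq.1 (RingHom.Flat.of_bijective
        (ConcreteCategory.bijective_of_isIso (m.stalkMap q)))
    haveI : LocallyOfFinitePresentation (pullback.snd (U.ι ≫ f) i) := by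
      rw [← hm2]
      infer_instance
    exact (universallyOpen_iff_forall_isUnivOpenAt _).1 inferInstance p
  · rintro _ ⟨w, hw, rfl⟩
    exact (SecComp.geomReducedAt_iff_of_isPullback (IsPullback.of_hasPullback f i) w).1 hw.2

end Groth.EGA43Topo.FlatUnivOpen
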