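import Groth.Agent.EGA43Topo.JacobsonDim
import Groth.Agent.Variety2.DimScheme
import Groth.Agent.SpectralTopology.Dim
import Groth.Agent.FibreDim.RelDim
import Groth.Agent.RefRank.SupportStalk
import Groth.Agent.CohTwo.SupportLocal

/-!
# Local dimension on Jacobson, universally catenary, equidimensional schemes (EGA IV 10.6)
-/

set_option autoImplicit false
universe u

open CategoryTheory AlgebraicGeometry TopologicalSpace Topology
open Groth.SitesTopoi (chainCodim)

namespace Groth.EGA43Topo.JacobsonDim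

attribute [local instance] pointsOrder

variable {X S : Scheme.{u}}

/-- Codimensions of closed points in point closures are the heights. -/
def HasDimHeight (X : Scheme.{u}) : Prop :=
  ∀ z a : X, z ≤ a → IsClosed ({z} : Set X) → chainCodim z a = Order.height a ∧ Order.height a ≠ ⊤

theorem exists_closed_le_of_mem [JacobsonSpace X] (U : Set X) (hU : IsOpen U) {a : X} (ha : a ∈ U) :
    ∃ z ∈ U, z ≤ a ∧ IsClosed ({z} : Set X) := by
  obtain ⟨z, ⟨hzU, hz⟩, hzc⟩ := nonempty_inter_closedPoints (Z := U ∩ closure ({a} : Set X))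
    ⟨a, ha, subset_closure rfl⟩ (hU.isLocallyClosed.inter isClosed_closure.isLocallyClosed)
  exact ⟨z, hzU, specializes_iff_mem_closure.mpr hz, hzc⟩

theorem height_eq_of_forall [JacobsonSpace X] {a : X} {c : ℕ∞}
    (h : ∀ z ≤ a, IsClosed ({z} : Set X) → chainCodim z a = c) : Order.height a = c := by
  refine le_antisymm (Order.height_le_iff.2 fun s hs => ?_) ?_
  · obtain ⟨z, -, hz, hzc⟩ := exists_closed_le_of_mem (X := X) Set.univ isOpen_univ (Set.mem_univ s.head)
    rw [← h z (hz.trans ((s.head_le_last).trans hs)) hzc]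
    exact length_le_chainCodim' s hz hs
  · obtain ⟨z, -, hz, hzc⟩ := exists_closed_le_of_mem (X := X) Set.univ isOpen_univ (Set.mem_univ a)
    rw [← h z hz hzc]
    exact Groth.SitesTopoi.chainCodim_le fun s _ hs => Order.length_le_height hs

theorem hasDimHeight_base [JacobsonSpace S] [IsLocallyNoetherian S]
    (h2 : ∀ s : S, CAlg.IsUniversallyCatenary (S.presheaf.stalk s))
    (h3 : ∀ S' ∈ irreducibleComponents (S : Type u), ∀ s ∈ S', IsClosed ({s} : Set S) →
      topologicalKrullDim (↥S' : Type u) = topologicalKrullDim ↥{t : S | t ∈ S' ∧ t ⤳ s}) :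
    HasDimHeight S := by
  intro z a hza hz
  have hT := irreducibleComponent_mem_irreducibleComponents a
  have hξ := hT.1.isGenericPoint_genericPoint (isClosed_of_mem_irreducibleComponents _ hT)
  have haξ : a ≤ hT.1.genericPoint := hξ.specializes mem_irreducibleComponent
  have key : ∀ w ≤ a, IsClosed ({w} : Set S) →
      ((chainCodim w a + chainCodim a hT.1.genericPoint : ℕ∞) : WithBot ℕ∞) =
        topologicalKrullDim (↥(irreducibleComponent a) : Type u) ∧
      chainCodim w a + chainCodim a hT.1.genericPoint ≠ ⊤ := fun w hw hwc => by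
    have hwT : w ∈ irreducibleComponent a := (hξ.specializes_iff_mem).1 (hw.trans haξ)
    obtain ⟨hadd, hfin⟩ := chainCodim_add ((h2 w).2 _ inferInstance) hw haξ
    rw [← hadd]
    exact ⟨by rw [h3 _ hT _ hwT hwc, dim_generizations hξ hwT], hfin⟩
  obtain ⟨hk, hfin⟩ := key z hza hz
  rw [ne_eq, ENat.add_eq_top, not_or] at hfin
  have h : Order.height a = chainCodim z a := height_eq_of_forall fun w hw hwc =>
    ENat.add_left_injective_of_ne_top hfin.2 (WithBot.coe_injective ((key w hw hwc).1.trans hk.symm))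
  exact ⟨h.symm, h ▸ hfin.1⟩

theorem hasDimHeight_of_lft [JacobsonSpace S] [IsLocallyNoetherian S]
    (h2 : ∀ s : S, CAlg.IsUniversallyCatenary (S.presheaf.stalk s)) (hS : HasDimHeight S)
    (g : X ⟶ S) [LocallyOfFiniteType g] : HasDimHeight X := by
  haveI : JacobsonSpace X := LocallyOfFiniteType.jacobsonSpace g
  have key : ∀ z a : X, z ≤ a → IsClosed ({z} : Set X) →
      chainCodim z a = Order.height (g.base a) + Order.height (g.asFiber a) ∧ chainCodim z a ≠ ⊤ := by
    intro z a hza hz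
    obtain ⟨t, t₀, A, B, ht, ht₀, -, heq, -, hchain, -, -, -, -, hB, ⟨sb, hb1, hb2, hb3⟩,
      sa, ha1, ha2, ha3⟩ := Groth.FibreDim.exists_dim_formula_along g (hza : a ⤳ z)
    have hmin : IsMin (g.asFiber z) := fun w hw => by
      have h1 : z ⤳ (g.fiberι (g.base z)).base w := by
        have h0 := (hw : g.asFiber z ⤳ w).map (g.fiberι (g.base z)).continuous
        rwa [g.fiberι_asFiber z] at h0
      have h2 : (g.fiberι (g.base z)).base w = z := by
        have := specializes_iff_mem_closure.1 h1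
        rwa [hz.closure_eq] at this
      rw [show w = g.asFiber z from (g.fiberι (g.base z)).isEmbedding.injective
        (h2.trans (g.fiberι_asFiber z).symm)]
    rw [Order.height_eq_zero.2 hmin] at ht
    have ht' : t = 0 := by exact_mod_cast ht.symm
    have hA : chainCodim z a = A := le_antisymm
      (Groth.SitesTopoi.chainCodim_le fun r h1 h2 => by exact_mod_cast hchain r h1.ge h2)
      (by rw [← ha3]; exact length_le_chainCodim' sa ha1 ha2)
    have hB' : chainCodim (g.base z) (g.base a) = B := le_antisymm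
      (Groth.SitesTopoi.chainCodim_le fun r h1 h2 => by exact_mod_cast hB r h1.ge h2)
      (by rw [← hb3]; exact length_le_chainCodim' sb hb1 hb2)
    have hgz : IsClosed ({g.base z} : Set S) := g.closePoints_subset_preimage_closedPoints hz
    rw [← (hS _ _ ((hza : a ⤳ z).map g.continuous) hgz).1, hB', hA, ht₀]
    refine ⟨?_, ENat.natCast_ne_top A⟩
    have := heq (h2 _)
    rw [ht', add_zero] at this
    rw [this]
    push_cast
    rfl
  intro z a hza hz
  have h := height_eq_of_forall (a := a) fun w hw hwc => (key w a hw hwc).1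
  obtain ⟨h1, h2⟩ := key z a hza hz
  exact ⟨h1.trans h.symm, by rw [h, ← h1]; exact h2⟩

variable [JacobsonSpace X]

/-- Heights are additive along generizations. -/
theorem height_add (h2 : ∀ x : X, CAlg.IsUniversallyCatenary (X.presheaf.stalk x)) (hX : HasDimHeight X)
    {a b : X} (hab : a ≤ b) : Order.height b = Order.height a + chainCodim a b := by
  obtain ⟨z, -, hz, hzc⟩ := exists_closed_le_of_mem (X := X) Set.univ isOpen_univ (Set.mem_univ a)
  rw [← (hX z a hz hzc).1, ← (hX z b (hz.trans hab) hzc).1]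
  exact (chainCodim_add ((h2 z).2 _ inferInstance) hz hab).1

omit [JacobsonSpace X] in
/-- The dimension of a quasi-sober subspace is computed by its chains of points. -/
theorem dim_eq_krullDim (A : Set X) [QuasiSober A] :
    topologicalKrullDim A = Order.krullDim A := by
  rw [topologicalKrullDim, @Order.krullDim_eq_of_orderIso _ A _ (specializationOrder (X := A)).toPreorder
    irreducibleSetEquivPoints]
  congr 1
  ext a b
  exact subtype_specializes_iff _ _

omit [JacobsonSpace X] in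
/-- The generizations of a point inside a closed subset, inside the spectrum of the local ring. -/
theorem gen_inter_facts {Y : Set X} (hY : IsClosed Y) (x : X) :
    QuasiSober ↥{t : X | t ∈ Y ∧ t ⤳ x} ∧
      Order.krullDim ↥((X.fromSpecStalk x).base ⁻¹' Y : Set (PrimeSpectrum (X.presheaf.stalk x))) =
        Order.krullDim ↥{t : X | t ∈ Y ∧ t ⤳ x} := by
  let Z : Set (Spec (X.presheaf.stalk x)) := (X.fromSpecStalk x).base ⁻¹' Y
  have hZc : IsClosed Z := hY.preimage (X.fromSpecStalk x).continuous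
  have hemb : IsEmbedding ((X.fromSpecStalk x).base ∘ (Subtype.val : Z → _)) :=
    (X.fromSpecStalk x).isEmbedding.comp IsEmbedding.subtypeVal
  have hrange : Set.range ((X.fromSpecStalk x).base ∘ (Subtype.val : Z → _)) = {t : X | t ∈ Y ∧ t ⤳ x} := by
    rw [Set.range_comp, Subtype.range_coe, Set.image_preimage_eq_inter_range, Scheme.range_fromSpecStalk]
    rfl
  let e := hemb.toHomeomorph.trans (Homeomorph.setCongr hrange)
  haveI : QuasiSober Z := hZc.isClosedEmbedding_subtypeVal.quasiSober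
  refine ⟨e.symm.isClosedEmbedding.quasiSober, ?_⟩
  let Z' : Set (PrimeSpectrum (X.presheaf.stalk x)) := (X.fromSpecStalk x).base ⁻¹' Y
  have hval : ∀ q : Z', ((e q : ↥{t : X | t ∈ Y ∧ t ⤳ x}) : X) = (X.fromSpecStalk x).base q.1 := fun q => rfl
  let o : Z' ≃o (↥{t : X | t ∈ Y ∧ t ⤳ x})ᵒᵈ :=
    { toEquiv := (e.toEquiv : Z' ≃ _).trans OrderDual.toDual
      map_rel_iff' := by
        intro q q'
        show (e q' : ↥{t : X | t ∈ Y ∧ t ⤳ x}).1 ≤ (e q : ↥{t : X | t ∈ Y ∧ t ⤳ x}).1 ↔ q ≤ q'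
        rw [hval, hval]
        exact fromSpecStalk_le_iff x q'.1 q.1 }
  exact (Order.krullDim_eq_of_orderIso o).trans Order.krullDim_orderDual

/-- `dim cl{x} + dim` of the generizations in `Y` is the largest height of such a generization. -/
theorem height_add_dim_gen (h2 : ∀ x : X, CAlg.IsUniversallyCatenary (X.presheaf.stalk x))
    (hX : HasDimHeight X) {Y : Set X} (hY : IsClosed Y) {x : X} (hx : x ∈ Y) :
    (Order.height x : ℕ∞) + topologicalKrullDim ↥{t : X | t ∈ Y ∧ t ⤳ x} =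
      ((⨆ t : ↥{t : X | t ∈ Y ∧ t ⤳ x}, Order.height t.1 : ℕ∞) : WithBot ℕ∞) := by
  haveI := (gen_inter_facts hY x).1
  haveI : Nonempty ↥{t : X | t ∈ Y ∧ t ⤳ x} := ⟨⟨x, hx, specializes_rfl⟩⟩
  rw [dim_eq_krullDim, show Order.krullDim ↥{t : X | t ∈ Y ∧ t ⤳ x} =
      ((⨆ t : ↥{t : X | t ∈ Y ∧ t ⤳ x}, chainCodim x t.1 : ℕ∞) : WithBot ℕ∞) from ?_, ← WithBot.coe_add,
    ENat.add_iSup]
  · exact congrArg _ (iSup_congr fun t => (height_add h2 hX t.2.2).symm)
  refine le_antisymm (iSup_le fun s => ?_) ?_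
  · refine WithBot.coe_le_coe.2 (le_trans ?_
      (le_iSup (fun t : ↥{t : X | t ∈ Y ∧ t ⤳ x} => chainCodim x t.1) s.last))
    exact length_le_chainCodim' (s.map Subtype.val fun _ _ h => h) s.head.2.2 le_rfl
  · rw [WithBot.coe_iSup (OrderTop.bddAbove _)]
    refine iSup_le fun t => ?_
    rw [Order.krullDim_eq_iSup_length (α := ↥{t : X | t ∈ Y ∧ t ⤳ x}), WithBot.coe_le_coe]
    refine Groth.SitesTopoi.chainCodim_le fun s hs1 hs2 => ?_
    let s' : LTSeries ↥{t : X | t ∈ Y ∧ t ⤳ x} := LTSeries.mk s.length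
      (fun i => ⟨s i, ((s.monotone (Fin.le_last i)).trans hs2 : s i ≤ t.1).mem_closed hY t.2.1,
        hs1 ▸ LTSeries.head_le s i⟩) fun i j hij => s.strictMono hij
    exact le_iSup (fun p : LTSeries ↥{t : X | t ∈ Y ∧ t ⤳ x} => (p.length : ℕ∞)) s'

/-- The dimension of a neighbourhood of `x` in `Y`. -/
theorem dim_inter_open (hX : HasDimHeight X) {Y : Set X} (hY : IsClosed Y) {x : X} (hx : x ∈ Y)
    {U : Set X} (hU : IsOpen U) (hxU : x ∈ U) :
    ((⨆ t : ↥{t : X | t ∈ Y ∧ t ⤳ x}, Order.height t.1 : ℕ∞) : WithBot ℕ∞) ≤ topologicalKrullDim ↥(U ∩ Y) ∧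
      ((∀ w ∈ U ∩ Y, ∃ t ∈ Y, t ⤳ x ∧ t ⤳ w) → topologicalKrullDim ↥(U ∩ Y) ≤
        ((⨆ t : ↥{t : X | t ∈ Y ∧ t ⤳ x}, Order.height t.1 : ℕ∞) : WithBot ℕ∞)) := by
  haveI : QuasiSober U := hU.isOpenEmbedding_subtypeVal.quasiSober
  haveI : QuasiSober ↥(U ∩ Y) := by
    have h : IsClosedEmbedding (Set.inclusion (Set.inter_subset_left : U ∩ Y ⊆ U)) := by
      refine ⟨IsEmbedding.inclusion _, ?_⟩
      rw [Set.range_inclusion]
      convert hY.preimage (continuous_subtype_val : Continuous (Subtype.val : U → X)) using 1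
      ext w
      exact ⟨fun h => h.2, fun h => ⟨w.2, h⟩⟩
    exact h.quasiSober
  rw [dim_eq_krullDim]
  haveI : Nonempty ↥{t : X | t ∈ Y ∧ t ⤳ x} := ⟨⟨x, hx, specializes_rfl⟩⟩
  haveI : Nonempty ↥(U ∩ Y) := ⟨⟨x, hxU, hx⟩⟩
  refine ⟨?_, fun hgood => iSup_le fun s => WithBot.coe_le_coe.2 ?_⟩
  · rw [WithBot.coe_iSup (OrderTop.bddAbove _)]
    refine iSup_le fun t => ?_
    obtain ⟨z, hzU, hzt, hzc⟩ := exists_closed_le_of_mem U hU (Specializes.mem_open t.2.2 hU hxU)
    rw [← (hX z t.1 hzt hzc).1, Order.krullDim_eq_iSup_length, WithBot.coe_le_coe]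
    refine Groth.SitesTopoi.chainCodim_le fun s hs1 hs2 => ?_
    let s' : LTSeries ↥(U ∩ Y) := LTSeries.mk s.length
      (fun i => ⟨s i, Specializes.mem_open (LTSeries.head_le s i : s.head ≤ s i) hU (hs1 ▸ hzU),
        ((s.monotone (Fin.le_last i)).trans hs2 : s i ≤ t.1).mem_closed hY t.2.1⟩) fun i j hij => s.strictMono hij
    exact le_iSup (fun p : LTSeries ↥(U ∩ Y) => (p.length : ℕ∞)) s'
  · obtain ⟨t, htY, htx, htw⟩ := hgood _ s.last.2
    refine le_trans ?_ (le_iSup (fun t : ↥{t : X | t ∈ Y ∧ t ⤳ x} => Order.height t.1) ⟨t, htY, htx⟩)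
    exact Order.length_le_height (p := s.map Subtype.val fun _ _ h => h) htw

omit [JacobsonSpace X] in
theorem exists_max_mem {Y : Set X} (hY : IsClosed Y) {w : X} (hw : w ∈ Y) :
    ∃ T ∈ irreducibleComponents ↥Y, (⟨w, hw⟩ : ↥Y) ∈ T ∧ ∃ η : ↥Y, IsGenericPoint η T := by
  haveI : QuasiSober Y := hY.isClosedEmbedding_subtypeVal.quasiSober
  have hT := irreducibleComponent_mem_irreducibleComponents (⟨w, hw⟩ : ↥Y)
  exact ⟨_, hT, mem_irreducibleComponent, _,
    hT.1.isGenericPoint_genericPoint (isClosed_of_mem_irreducibleComponents _ hT)⟩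

omit [JacobsonSpace X] in
theorem exists_good_open [IsLocallyNoetherian X] {Y : Set X} (hY : IsClosed Y) {x : X} (hx : x ∈ Y) :
    ∃ U : Set X, IsOpen U ∧ x ∈ U ∧ ∀ w ∈ U ∩ Y, ∃ t ∈ Y, t ⤳ x ∧ t ⤳ w := by
  obtain ⟨W, hW, hxW, -⟩ := exists_isAffineOpen_mem_and_subset (U := ⊤) (Set.mem_univ x)
  haveI : CompactSpace W := isCompact_iff_compactSpace.mp hW.isCompact
  haveI : AlgebraicGeometry.IsNoetherian (W : Scheme.{u}) := ⟨⟩
  let Y' : Set (W : Scheme.{u}) := W.ι.base ⁻¹' Y
  haveI : NoetherianSpace Y' := NoetherianSpace.set Y'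
  have hY'c : IsClosed Y' := hY.preimage W.ι.continuous
  let x' : Y' := ⟨⟨x, hxW⟩, hx⟩
  let bad : Set Y' := ⋃ T ∈ {T ∈ irreducibleComponents Y' | x' ∉ T}, T
  have hbad : IsClosed bad :=
    (NoetherianSpace.finite_irreducibleComponents.subset fun T hT => hT.1).isClosed_biUnion
      fun T hT => isClosed_of_mem_irreducibleComponents T hT.1
  let bad' : Set (W : Scheme.{u}) := Subtype.val '' bad
  have hbad' : IsClosed bad' := hY'c.isClosedEmbedding_subtypeVal.isClosedMap _ hbad
  refine ⟨W.ι.base '' bad'ᶜ, W.ι.isOpenEmbedding.isOpenMap _ hbad'.isOpen_compl, ⟨⟨x, hxW⟩, ?_, rfl⟩, ?_⟩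
  · rintro ⟨v, hv, hvx⟩
    simp only [bad, Set.mem_iUnion] at hv
    obtain ⟨T, hT, hvT⟩ := hv
    exact hT.2 (by rwa [show x' = v from (Subtype.ext hvx).symm])
  · rintro _ ⟨⟨w, hw, rfl⟩, hwY⟩
    obtain ⟨T, hT, hwT, η, hη⟩ := exists_max_mem hY'c (show w ∈ Y' from hwY)
    have hxT : x' ∈ T := by
      by_contra hc
      exact hw ⟨⟨w, hwY⟩, Set.mem_biUnion ⟨hT, hc⟩ hwT, rfl⟩
    exact ⟨_, η.2, ((hη.specializes hxT).map continuous_subtype_val).map W.ι.continuous,
      ((hη.specializes hwT).map continuous_subtype_val).map W.ι.continuous⟩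

theorem localDim_eq [IsLocallyNoetherian X] (hX : HasDimHeight X) {Y : Set X} (hY : IsClosed Y)
    {x : X} (hx : x ∈ Y) :
    FlatMor.localDim ↥Y ⟨x, hx⟩ =
      ((⨆ t : ↥{t : X | t ∈ Y ∧ t ⤳ x}, Order.height t.1 : ℕ∞) : WithBot ℕ∞) := by
  have key : ∀ U : Set X, topologicalKrullDim ↥((Subtype.val : Y → X) ⁻¹' U) = topologicalKrullDim ↥(U ∩ Y) := fun U => by
    have he : IsEmbedding ((Subtype.val : Y → X) ∘ (Subtype.val : ↥((Subtype.val : Y → X) ⁻¹' U) → Y)) :=
      IsEmbedding.subtypeVal.comp IsEmbedding.subtypeVal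
    have hr : Set.range ((Subtype.val : Y → X) ∘ (Subtype.val : ↥((Subtype.val : Y → X) ⁻¹' U) → Y)) = U ∩ Y := by
      rw [Set.range_comp, Subtype.range_coe, Subtype.image_preimage_coe, Set.inter_comm]
    exact (he.toHomeomorph.trans (Homeomorph.setCongr hr)).isHomeomorph.topologicalKrullDim_eq
  refine le_antisymm ?_ (le_iInf fun V => ?_)
  · obtain ⟨U, hU, hxU, hgood⟩ := exists_good_open hY hx
    refine le_trans (iInf_le _ ⟨⟨_, hU.preimage continuous_subtype_val⟩, hxU⟩) ?_
    exact (key U).trans_le ((dim_inter_open hX hY hx hU hxU).2 hgood)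
  · obtain ⟨U, hU, hUV⟩ := isOpen_induced_iff.1 V.1.isOpen
    rw [show ((V.1 : Opens Y) : Set Y) = Subtype.val ⁻¹' U from hUV.symm, key]
    exact (dim_inter_open hX hY hx hU (hUV.ge V.2)).1

theorem dim_component {Y : Set X} (hY : IsClosed Y) {C : Set ↥Y} (hC : IsClosed C) {η : ↥Y}
    (hη : IsGenericPoint η C) : topologicalKrullDim ↥C = (Order.height η.1 : ℕ∞) := by
  have he : IsEmbedding ((Subtype.val : Y → X) ∘ (Subtype.val : C → Y)) :=
    IsEmbedding.subtypeVal.comp IsEmbedding.subtypeVal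
  have hr : Set.range ((Subtype.val : Y → X) ∘ (Subtype.val : C → Y)) = closure {η.1} := by
    rw [Set.range_comp, Subtype.range_coe, ← hη.def, ← hY.isClosedEmbedding_subtypeVal.closure_image_eq,
      Set.image_singleton]
  rw [(he.toHomeomorph.trans (Homeomorph.setCongr hr)).isHomeomorph.topologicalKrullDim_eq,
    Groth.Variety2.Dim.dim_closure_singleton]

/-- EGA IV 10.6.3. -/
theorem localDim_closed_eq [IsLocallyNoetherian X]
    (h2 : ∀ x : X, CAlg.IsUniversallyCatenary (X.presheaf.stalk x)) (hX : HasDimHeight X)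
    (Y : Set X) (hY : IsClosed Y) (x : X) (hx : x ∈ Y) :
    FlatMor.localDim ↥Y ⟨x, hx⟩ =
        topologicalKrullDim ↥(closure ({x} : Set X)) + topologicalKrullDim ↥{t : X | t ∈ Y ∧ t ⤳ x} ∧
      FlatMor.localDim ↥Y ⟨x, hx⟩ =
        ⨆ C ∈ {C : Set ↥Y | C ∈ irreducibleComponents ↥Y ∧ (⟨x, hx⟩ : ↥Y) ∈ C}, topologicalKrullDim ↥C ∧
      ∀ U : Set X, IsOpen U → x ∈ U →
        (∀ C ∈ irreducibleComponents ↥Y, (⟨x, hx⟩ : ↥Y) ∉ C → Disjoint (Subtype.val ⁻¹' U) C) →
        topologicalKrullDim ↥(U ∩ Y) = FlatMor.localDim ↥Y ⟨x, hx⟩ := by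
  haveI : Nonempty ↥{t : X | t ∈ Y ∧ t ⤳ x} := ⟨⟨x, hx, specializes_rfl⟩⟩
  refine ⟨?_, le_antisymm ?_ ?_, fun U hU hxU hbad => ?_⟩
  · rw [localDim_eq hX hY hx, Groth.Variety2.Dim.dim_closure_singleton, height_add_dim_gen h2 hX hY hx]
  · rw [localDim_eq hX hY hx, WithBot.coe_iSup (OrderTop.bddAbove _)]
    refine iSup_le fun t => ?_
    obtain ⟨T, hT, htT, η, hη⟩ := exists_max_mem hY t.2.1
    have hxT : (⟨x, hx⟩ : ↥Y) ∈ T := ((subtype_specializes_iff _ _).2 t.2.2).mem_closed
      (isClosed_of_mem_irreducibleComponents T hT) htT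
    refine le_trans ?_ (le_iSup₂ (f := fun C (_ : C ∈ {C : Set ↥Y | C ∈ irreducibleComponents ↥Y ∧
      (⟨x, hx⟩ : ↥Y) ∈ C}) => topologicalKrullDim ↥C) T ⟨hT, hxT⟩)
    rw [dim_component hY (isClosed_of_mem_irreducibleComponents T hT) hη]
    exact WithBot.coe_le_coe.2 (Order.height_mono ((hη.specializes htT).map continuous_subtype_val))
  · haveI : QuasiSober Y := hY.isClosedEmbedding_subtypeVal.quasiSober
    refine iSup₂_le fun C hC => ?_
    have hη := hC.1.1.isGenericPoint_genericPoint (isClosed_of_mem_irreducibleComponents C hC.1)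
    rw [dim_component hY (isClosed_of_mem_irreducibleComponents C hC.1) hη, localDim_eq hX hY hx,
      WithBot.coe_le_coe]
    exact le_iSup (fun t : ↥{t : X | t ∈ Y ∧ t ⤳ x} => Order.height t.1)
      ⟨_, hC.1.1.genericPoint.2, (hη.specializes hC.2).map continuous_subtype_val⟩
  · rw [localDim_eq hX hY hx]
    refine le_antisymm ((dim_inter_open hX hY hx hU hxU).2 fun w hw => ?_) (dim_inter_open hX hY hx hU hxU).1
    obtain ⟨T, hT, hwT, η, hη⟩ := exists_max_mem hY hw.2
    have hxT : (⟨x, hx⟩ : ↥Y) ∈ T := by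
      by_contra hc
      exact Set.disjoint_left.1 (hbad T hT hc) (show (⟨w, hw.2⟩ : ↥Y) ∈ Subtype.val ⁻¹' U from hw.1) hwT
    exact ⟨η.1, η.2, (hη.specializes hxT).map continuous_subtype_val,
      (hη.specializes hwT).map continuous_subtype_val⟩

omit [JacobsonSpace X] in
theorem supportDim_stalk (F : X.Modules) (hF : Coh.IsCoh F) (x : X) :
    Module.supportDim (X.presheaf.stalk x) (F.presheaf.stalk x) =
      topologicalKrullDim ↥{t : X | t ∈ CohB1.support F ∧ t ⤳ x} := by
  haveI := hF.1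
  have hsupp : Module.support (X.presheaf.stalk x) (F.presheaf.stalk x) =
      ((X.fromSpecStalk x).base ⁻¹' CohB1.support F : Set (PrimeSpectrum (X.presheaf.stalk x))) := by
    ext q
    let y : X := (X.fromSpecStalk x).base q
    have h : y ⤳ x := by
      have : y ∈ Set.range (X.fromSpecStalk x).base := ⟨q, rfl⟩
      rwa [Scheme.range_fromSpecStalk] at this
    refine Groth.RefRank.SupportStalk.mem_support_stalk_iff F h q fun r => ?_
    obtain ⟨V, hV, hxV, -⟩ := exists_isAffineOpen_mem_and_subset (U := ⊤) (Set.mem_univ x)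
    let _ := TopCat.Presheaf.algebra_section_stalk X.presheaf ⟨x, hxV⟩
    haveI := hV.isLocalization_stalk ⟨x, hxV⟩
    have h1 : q.asIdeal = Groth.RefRank.CDivNormal.primeAt h := by
      refine congrArg PrimeSpectrum.asIdeal ((PrimeSpectrum.localization_comap_isEmbedding (X.presheaf.stalk x) (hV.primeIdealOf ⟨x, hxV⟩).asIdeal.primeCompl).injective
        (a₁ := q) (a₂ := ⟨Groth.RefRank.CDivNormal.primeAt h, inferInstance⟩) ?_)
      apply PrimeSpectrum.ext
      show q.asIdeal.comap (X.presheaf.germ V x hxV).hom = (Groth.RefRank.CDivNormal.primeAt h).comap (X.presheaf.germ V x hxV).hom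
      rw [Groth.RefRank.CDivNormal.comap_germ_primeAt h hV hxV]
      refine congrArg PrimeSpectrum.asIdeal (hV.fromSpec.isEmbedding.injective
        (a₁ := PrimeSpectrum.comap (X.presheaf.germ V x hxV).hom q) ?_)
      rw [hV.fromSpec_primeIdealOf]
      show _ = (X.fromSpecStalk x).base q
      rw [← hV.fromSpecStalk_eq_fromSpecStalk hxV]
      rfl
    rw [h1, Groth.RefRank.CDivNormal.mem_primeAt, not_not]
  have hYc := Groth.CohTwo.isClosed_support F hF
  haveI := (gen_inter_facts hYc x).1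
  rw [dim_eq_krullDim, ← (gen_inter_facts hYc x).2, Module.supportDim, hsupp]

end Groth.EGA43Topo.JacobsonDim
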