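import Groth.Agent.EGA43Topo.UnibranchCriterion
import Groth.Agent.FlatMor2.UnivOpen
import Groth.Agent.HTopHyper.RingCore
import Groth.Agent.EGA43Topo.OpenAt
import Mathlib.FieldTheory.Minpoly.IsIntegrallyClosed

/-!
# Universally open integral extensions (EGA IV 14.4.1 over an arbitrary base)

Integral extension domains of normal domains are universally open; the normalization of a
geometrically unibranch ring is universally injective.
-/

universe u

set_option linter.style.haveILetI false

open CategoryTheory AlgebraicGeometry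

namespace Groth.EGA43Topo

/-- The image of a basic open under an integral extension of a normal domain is cut out by the
coefficients of the minimal polynomial. -/
theorem isOpen_image_basicOpen_of_isIntegral {A C : Type u} [CommRing A] [IsDomain A]
    [IsIntegrallyClosed A] [CommRing C] [IsDomain C] [Algebra A C] [FaithfulSMul A C]
    [Algebra.IsIntegral A C] (c : C) :
    IsOpen (PrimeSpectrum.comap (algebraMap A C) '' (PrimeSpectrum.basicOpen c : Set (PrimeSpectrum C))) := by
  classical
  have hc : IsIntegral A c := Algebra.IsIntegral.isIntegral c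
  let f := minpoly A c
  have hf : f.Monic := minpoly.monic hc
  have himg : PrimeSpectrum.comap (algebraMap A C) '' (PrimeSpectrum.basicOpen c : Set (PrimeSpectrum C)) =
      ⋃ i ∈ Finset.range f.natDegree, (PrimeSpectrum.basicOpen (f.coeff i) : Set (PrimeSpectrum A)) := by
    ext p
    simp only [Set.mem_iUnion, Finset.mem_range, exists_prop]
    constructor
    · rintro ⟨Q, hQ, rfl⟩
      by_contra hall
      push Not at hall
      refine hQ (Q.isPrime.mem_of_pow_mem f.natDegree ?_)
      have h0 : Polynomial.aeval c f = 0 := minpoly.aeval A c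
      rw [Polynomial.aeval_eq_sum_range, Finset.sum_range_succ, hf.coeff_natDegree, one_smul] at h0
      rw [show c ^ f.natDegree = -∑ i ∈ Finset.range f.natDegree, f.coeff i • c ^ i from
        eq_neg_of_add_eq_zero_right h0]
      refine neg_mem (Q.asIdeal.sum_mem fun i hi => ?_)
      rw [Algebra.smul_def]
      refine Q.asIdeal.mul_mem_right _ ?_
      by_contra h
      exact hall i (Finset.mem_range.1 hi) h
    · rintro ⟨i, hi, hip⟩
      replace hip : f.coeff i ∉ p.asIdeal := hip
      haveI := p.isPrime
      let κ := AlgebraicClosure p.asIdeal.ResidueField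
      let ev : A →+* κ := algebraMap A κ
      have hev : ∀ a, ev a = 0 ↔ a ∈ p.asIdeal := fun a => by
        rw [show ev a = algebraMap p.asIdeal.ResidueField κ (algebraMap A _ a) from
          IsScalarTower.algebraMap_apply A p.asIdeal.ResidueField κ a, map_eq_zero,
          Ideal.algebraMap_residueField_eq_zero]
      obtain ⟨z, hz, hz0⟩ : ∃ z : κ, Polynomial.aeval z f = 0 ∧ z ≠ 0 := by
        by_contra hno
        push Not at hno
        have hfm := hf.map ev
        have hsplit : (f.map ev).Splits := IsAlgClosed.splits _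
        have hroots : (f.map ev).roots = Multiset.replicate (f.map ev).natDegree 0 := by
          refine Multiset.eq_replicate.2 ⟨hsplit.natDegree_eq_card_roots.symm, fun w hw => hno w ?_⟩
          rw [Polynomial.mem_roots hfm.ne_zero, Polynomial.IsRoot, Polynomial.eval_map] at hw
          exact hw
        have h1 : f.map ev = Polynomial.X ^ (f.map ev).natDegree := by
          conv_lhs => rw [hsplit.eq_prod_roots_of_monic hfm, hroots]
          simp
        refine hip ((hev _).1 ?_)
        rw [← Polynomial.coeff_map, h1, Polynomial.coeff_X_pow, if_neg (by rw [hf.natDegree_map]; omega)]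
      let S := Algebra.adjoin A ({c} : Set C)
      let pS : Ideal A := p.asIdeal
      let pi : Polynomial A →+* S :=
        (Polynomial.aeval (⟨c, Algebra.self_mem_adjoin_singleton A c⟩ : S)).toRingHom
      have hpival : ∀ g : Polynomial A, ((pi g : S) : C) = Polynomial.aeval c g := fun g => by
        show S.val (Polynomial.aeval _ g) = _
        rw [← Polynomial.aeval_algHom_apply]
        rfl
      have hpi : Function.Surjective pi := fun y => by
        obtain ⟨g, hg⟩ := (Algebra.adjoin_singleton_eq_range_aeval A c).le y.2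
        exact ⟨g, Subtype.ext ((hpival g).trans hg)⟩
      have hker : RingHom.ker pi ≤ RingHom.ker (Polynomial.eval₂RingHom ev z) := fun g hg => by
        have h1 : Polynomial.aeval c g = 0 := by rw [← hpival, show pi g = 0 from hg]; rfl
        obtain ⟨h, rfl⟩ := minpoly.isIntegrallyClosed_dvd hc h1
        rw [RingHom.mem_ker, map_mul]
        show Polynomial.eval₂ ev z f * _ = 0
        rw [show Polynomial.eval₂ ev z f = 0 from hz, zero_mul]
      let ε : S →+* κ := pi.liftOfSurjective hpi ⟨_, hker⟩
      have hε : ∀ g, ε (pi g) = Polynomial.eval₂ ev z g := fun g =>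
        RingHom.liftOfRightInverse_comp_apply pi _ _ _ g
      haveI := RingHom.ker_isPrime ε
      haveI : Algebra.IsIntegral S C := Algebra.IsIntegral.tower_top A
      obtain ⟨Q, -, hQ, hQe⟩ := Ideal.exists_ideal_over_prime_of_isIntegral (RingHom.ker ε) (⊥ : Ideal C)
        (by rw [Ideal.comap_bot_of_injective _ Subtype.val_injective]; exact bot_le)
      refine ⟨⟨Q, hQ⟩, fun hcQ => hz0 ?_, PrimeSpectrum.ext ?_⟩
      · have h1 : pi Polynomial.X ∈ Q.comap (algebraMap S C) := by
          show ((pi Polynomial.X : S) : C) ∈ Q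
          rw [hpival, Polynomial.aeval_X]
          exact hcQ
        rw [hQe, RingHom.mem_ker, hε, Polynomial.eval₂_X] at h1
        exact h1
      · show Q.comap (algebraMap A C) = p.asIdeal
        rw [IsScalarTower.algebraMap_eq A S C, ← Ideal.comap_comap, hQe]
        ext a
        rw [Ideal.mem_comap, RingHom.mem_ker,
          show algebraMap A S a = pi (Polynomial.C a) from (Polynomial.aeval_C _ a).symm, hε,
          Polynomial.eval₂_C, hev]
  rw [himg]
  exact isOpen_biUnion fun i _ => (PrimeSpectrum.basicOpen _).2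

/-- An integral extension domain of a normal domain is universally open. -/
theorem universallyOpen_of_isIntegrallyClosed {A C : Type u} [CommRing A] [IsDomain A]
    [IsIntegrallyClosed A] [CommRing C] [IsDomain C] [Algebra A C] [FaithfulSMul A C]
    [Algebra.IsIntegral A C] : UniversallyOpen (Spec.map (CommRingCat.ofHom (algebraMap A C))) := by
  refine Groth.FlatMor2.universallyOpen_SpecMap_of_isOpenMap fun m => ?_
  rw [PrimeSpectrum.isTopologicalBasis_basic_opens.isOpenMap_iff]
  rintro _ ⟨g, rfl⟩
  haveI : IsIntegrallyClosed (MvPolynomial (Fin m) A) := Groth.FlatMor2.isIntegrallyClosed_mvPolynomial _ m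
  letI := (MvPolynomial.map (σ := Fin m) (algebraMap A C)).toAlgebra
  haveI : FaithfulSMul (MvPolynomial (Fin m) A) (MvPolynomial (Fin m) C) :=
    (faithfulSMul_iff_algebraMap_injective _ _).2
      (MvPolynomial.map_injective _ (FaithfulSMul.algebraMap_injective A C))
  haveI : Algebra.IsIntegral (MvPolynomial (Fin m) A) (MvPolynomial (Fin m) C) :=
    ⟨isIntegral_mvPolynomial_map m⟩
  exact isOpen_image_basicOpen_of_isIntegral g

/-- The normalization of a geometrically unibranch ring is universally injective. -/
theorem pointsInj_normalization {R : Type u} [CommRing R] (q : Ideal R) [q.IsPrime] (hq : q ∈ minimalPrimes R)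
    (hR : ∀ (p : Ideal R) [p.IsPrime], q ≤ p → ∃ (A : Type u) (_ : CommRing A) (_ : IsLocalRing A)
      (_ : Algebra R A), IsLocalization.AtPrime A p ∧ CAlg2.IsGeomUnibranch A)
    {k : Type u} [Field k] (e₁ e₂ : integralClosure R (FractionRing (R ⧸ q)) →+* k)
    (h : ∀ a, e₁ (algebraMap R _ a) = e₂ (algebraMap R _ a)) : e₁ = e₂ := by
  let K₀ := FractionRing (R ⧸ q)
  let N := integralClosure R K₀
  let p : Ideal R := RingHom.ker (e₁.comp (algebraMap R N))
  haveI : p.IsPrime := RingHom.ker_isPrime _
  have hR0 : ∀ a : R, algebraMap R K₀ a = 0 ↔ a ∈ q := fun a => by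
    rw [IsScalarTower.algebraMap_apply R (R ⧸ q) K₀, map_eq_zero_iff _ (IsFractionRing.injective (R ⧸ q) K₀),
      Ideal.Quotient.algebraMap_eq, Ideal.Quotient.eq_zero_iff_mem]
  have hqp : q ≤ p := fun a ha => by
    show e₁ (algebraMap R N a) = 0
    rw [show algebraMap R N a = 0 from Subtype.ext ((hR0 a).2 ha), map_zero]
  obtain ⟨A, _, _, _, _, hgu⟩ := hR p hqp
  have hunitK : ∀ y : p.primeCompl, IsUnit (algebraMap R K₀ y) := fun y =>
    IsUnit.mk0 _ fun h0 => y.2 (hqp ((hR0 _).1 h0))
  letI : Algebra A K₀ := (IsLocalization.lift (M := p.primeCompl) hunitK).toAlgebra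
  haveI : IsScalarTower R A K₀ := IsScalarTower.of_algebraMap_eq fun a => (IsLocalization.lift_eq hunitK a).symm
  have hker : RingHom.ker (algebraMap A K₀) = nilradical A := by
    haveI := RingHom.ker_isPrime (algebraMap A K₀)
    haveI hnil : (nilradical A).IsPrime := (Ideal.Quotient.isDomain_iff_prime _).1 hgu.1.1
    have hle : nilradical A ≤ RingHom.ker (algebraMap A K₀) := nilradical_le_prime _
    have hk : (RingHom.ker (algebraMap A K₀)).comap (algebraMap R A) = q := by
      ext x
      rw [Ideal.mem_comap, RingHom.mem_ker, ← IsScalarTower.algebraMap_apply, hR0]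
    have heq : (nilradical A).comap (algebraMap R A) = q :=
      le_antisymm ((Ideal.comap_mono hle).trans hk.le)
        (hq.2 ⟨Ideal.comap_isPrime _ _, bot_le⟩ ((Ideal.comap_mono hle).trans hk.le))
    calc RingHom.ker (algebraMap A K₀)
          = ((RingHom.ker (algebraMap A K₀)).comap (algebraMap R A)).map (algebraMap R A) :=
          (IsLocalization.map_under p.primeCompl A _).symm
      _ = ((nilradical A).comap (algebraMap R A)).map (algebraMap R A) := by rw [hk, heq]
      _ = nilradical A := IsLocalization.map_under p.primeCompl A _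
  let φ : CAlg2.red A →+* K₀ := Ideal.Quotient.lift _ (algebraMap A K₀) fun a ha => hker.ge ha
  have hφinj : Function.Injective φ := (injective_iff_map_eq_zero φ).2 fun x hx => by
    obtain ⟨x, rfl⟩ := Ideal.Quotient.mk_surjective x
    exact Ideal.Quotient.eq_zero_iff_mem.2 (hker.le hx)
  haveI : IsDomain (CAlg2.red A) := hgu.1.1
  let j : FractionRing (CAlg2.red A) →+* K₀ := IsFractionRing.lift hφinj
  have hj : ∀ x, j (algebraMap (CAlg2.red A) _ x) = φ x := fun x => IsFractionRing.lift_algebraMap hφinj x
  -- extend `e₁, e₂` to the integral closure of `A`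
  let B := integralClosure A K₀
  let τ : N →+* B := ((integralClosure R K₀).val.toRingHom).codRestrict B fun z => z.2.tower_top
  letI : Algebra N B := τ.toAlgebra
  haveI : IsLocalization (p.primeCompl.map (algebraMap R N)) B :=
    { map_units := by
        rintro ⟨_, s, hs, rfl⟩
        rw [show algebraMap N B (algebraMap R N s) = algebraMap A B (algebraMap R A s) from
          Subtype.ext (IsScalarTower.algebraMap_apply R A K₀ s)]
        exact (IsLocalization.map_units A (⟨s, hs⟩ : p.primeCompl)).map _
      surj := fun b => by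
        obtain ⟨s, hs⟩ := IsIntegral.exists_multiple_integral_of_isLocalization p.primeCompl (Rₘ := A)
          (b : K₀) b.2
        refine ⟨(⟨_, hs⟩, ⟨algebraMap R N s, s, s.2, rfl⟩), Subtype.ext ?_⟩
        show (b : K₀) * algebraMap R K₀ s = s • (b : K₀)
        rw [Submonoid.smul_def, Algebra.smul_def, mul_comm]
      exists_of_eq := fun {z w} hzw => ⟨1, by
        have h' : ((τ z : B) : K₀) = ((τ w : B) : K₀) := congrArg (fun b : B => (b : K₀)) hzw
        rw [show z = w from Subtype.ext h']⟩ }
  have hunit : ∀ e : N →+* k, (∀ a, e (algebraMap R N a) = e₁ (algebraMap R N a)) →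
      ∀ y : p.primeCompl.map (algebraMap R N), IsUnit (e y) := by
    rintro e he ⟨_, s, hs, rfl⟩
    exact IsUnit.mk0 _ fun h0 => hs ((he s).symm.trans h0)
  let E₁ : B →+* k := IsLocalization.lift (hunit e₁ fun _ => rfl)
  let E₂ : B →+* k := IsLocalization.lift (hunit e₂ fun a => (h a).symm)
  have hE₁ : ∀ z : N, E₁ (τ z) = e₁ z := fun z => IsLocalization.lift_eq _ z
  have hE₂ : ∀ z : N, E₂ (τ z) = e₂ z := fun z => IsLocalization.lift_eq _ z
  let ρ : CAlg2.normRed A →+* B := (j.comp (integralClosure (CAlg2.red A) _).val.toRingHom).codRestrict B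
    fun y => by
      obtain ⟨g, hg, hgy⟩ := y.2
      obtain ⟨g', rfl, -, hg'⟩ := Polynomial.lifts_and_natDegree_eq_and_monic
        ((Polynomial.mem_lifts _).2 (Polynomial.map_surjective (Ideal.Quotient.mk (nilradical A))
          Ideal.Quotient.mk_surjective g)) hg
      refine ⟨g', hg', ?_⟩
      rw [Polynomial.eval₂_map] at hgy
      have := congrArg j hgy
      rw [Polynomial.hom_eval₂, map_zero] at this
      rwa [show j.comp ((algebraMap (CAlg2.red A) _).comp (Ideal.Quotient.mk (nilradical A))) = algebraMap A K₀ from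
        RingHom.ext fun a => hj _] at this
  have hρA : ∀ a : A, ρ (algebraMap (CAlg2.red A) _ (Ideal.Quotient.mk _ a)) = algebraMap A B a :=
    fun a => Subtype.ext (hj _)
  have hEA : ∀ a : A, E₁ (algebraMap A B a) = E₂ (algebraMap A B a) := by
    intro a
    refine RingHom.congr_fun (IsLocalization.ringHom_ext p.primeCompl (j := E₁.comp (algebraMap A B))
      (k := E₂.comp (algebraMap A B)) (RingHom.ext fun x => ?_)) a
    show E₁ (algebraMap A B (algebraMap R A x)) = E₂ (algebraMap A B (algebraMap R A x))
    rw [show algebraMap A B (algebraMap R A x) = τ (algebraMap R N x) from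
      Subtype.ext (IsScalarTower.algebraMap_apply R A K₀ x).symm, hE₁, hE₂, h]
  let e₀ : A →+* k := (E₁.comp ρ).comp ((algebraMap (CAlg2.red A) _).comp (Ideal.Quotient.mk (nilradical A)))
  have key : E₁.comp ρ = E₂.comp ρ := eq_of_isGeomUnibranch A hgu e₀ (by
    ext a
    show E₁ (ρ (algebraMap (CAlg2.red A) _ (Ideal.Quotient.mk _ a))) = 0 ↔ _
    rw [hρA]
    obtain ⟨x, s, rfl⟩ := IsLocalization.exists_mk'_eq p.primeCompl a
    rw [IsLocalization.AtPrime.mk'_mem_maximal_iff A p x s,
      ← IsUnit.mul_right_eq_zero ((IsLocalization.map_units A s).map (E₁.comp (algebraMap A B))),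
      RingHom.comp_apply, ← map_mul, ← map_mul, IsLocalization.mk'_spec',
      show algebraMap A B (algebraMap R A x) = τ (algebraMap R N x) from
        Subtype.ext (IsScalarTower.algebraMap_apply R A K₀ x).symm, hE₁]
    rfl) _ _ (fun a => rfl) (fun a => by
      show E₂ (ρ (algebraMap (CAlg2.red A) _ (Ideal.Quotient.mk _ a))) =
        E₁ (ρ (algebraMap (CAlg2.red A) _ (Ideal.Quotient.mk _ a)))
      rw [hρA, hEA])
  ext z
  obtain ⟨w, hw⟩ : ∃ w, j w = (z : K₀) := by
    obtain ⟨a, b, -, hab⟩ := IsFractionRing.div_surjective (A := R ⧸ q) (z : K₀)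
    obtain ⟨a, rfl⟩ := Ideal.Quotient.mk_surjective a
    obtain ⟨b, rfl⟩ := Ideal.Quotient.mk_surjective b
    refine ⟨algebraMap (CAlg2.red A) _ (Ideal.Quotient.mk _ (algebraMap R A a)) /
      algebraMap (CAlg2.red A) _ (Ideal.Quotient.mk _ (algebraMap R A b)), ?_⟩
    rw [map_div₀, hj, hj, ← hab]
    show algebraMap A K₀ (algebraMap R A a) / algebraMap A K₀ (algebraMap R A b) = _
    rw [← IsScalarTower.algebraMap_apply R A K₀, ← IsScalarTower.algebraMap_apply R A K₀]
    rfl
  have hwint : IsIntegral (CAlg2.red A) w := by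
    obtain ⟨g, hg, hgz⟩ := z.2
    refine ⟨g.map ((Ideal.Quotient.mk (nilradical A)).comp (algebraMap R A)), hg.map _, ?_⟩
    refine j.injective ?_
    rw [Polynomial.eval₂_map, map_zero, Polynomial.hom_eval₂, hw,
      show j.comp ((algebraMap (CAlg2.red A) _).comp ((Ideal.Quotient.mk (nilradical A)).comp (algebraMap R A))) =
        algebraMap R K₀ from RingHom.ext fun a => (hj _).trans (IsScalarTower.algebraMap_apply R A K₀ a).symm]
    exact hgz
  have hτ : ρ ⟨w, hwint⟩ = τ z := Subtype.ext hw
  have := RingHom.congr_fun key ⟨w, hwint⟩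
  rw [RingHom.comp_apply, RingHom.comp_apply, hτ, hE₁, hE₂] at this
  exact this

end Groth.EGA43Topo
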