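import Groth.Agent.S1366
import Groth.Agent.EGA43Topo.DVRInflate
import Groth.Agent.EGA43Topo.DVRFiniteTest
import Groth.Agent.Limits.DVRPoints
import Groth.Agent.PropsBasic.ValuativeDense
import Groth.Agent.Valuative.ProperAt
import Groth.Agent.FibreDim.OpenFibre

/-!
# Extending points along discrete valuation rings into a proper piece of the closed fibre
(EGA IV 15.7)

A point of the generic fibre extends over a discrete valuation ring as soon as it lies in a
geometrically connected part of the generic fibre whose closure meets an open and closed proper part of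
the closed fibre: over the completion, this proper part lifts to an open and closed proper part of
the whole scheme, which swallows the connected part.
-/

set_option autoImplicit false
set_option linter.style.haveILetI false
universe u

open CategoryTheory CategoryTheory.Limits AlgebraicGeometry TopologicalSpace Topology IsLocalRing

namespace Groth.EGA43Topo.ProperConn

/-- The maximal ideal of a discrete valuation ring is the only nonzero prime, on schemes. -/
theorem eq_genericPt_of_ne_closedPoint {E : Type u} [CommRing E] [IsDomain E] [IsDiscreteValuationRing E]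
    (L : Type u) [Field L] [Algebra E L] [IsFractionRing E L] {z : ↥(Spec (CommRingCat.of E))}
    (hz : z ≠ closedPoint E) :
    (Spec.map (CommRingCat.ofHom (algebraMap E L))).base (closedPoint L) = z := by
  refine PrimeSpectrum.ext ?_
  show (maximalIdeal L).comap (algebraMap E L) = _
  rw [show maximalIdeal L = ⊥ from IsLocalRing.maximalIdeal_eq_bot,
    Ideal.comap_bot_of_injective _ (IsFractionRing.injective E L)]
  by_contra hne
  exact hz (PrimeSpectrum.ext (IsLocalRing.eq_maximalIdeal
    (IsPrime.to_maximal_ideal (hpi := z.isPrime) (Ne.symm hne))))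

/-- **The extension lemma** of EGA IV 15.7. -/
theorem exists_lift_of_component {X Y : Scheme.{u}} (f : X ⟶ Y) [IsSeparated f]
    [LocallyOfFiniteType f] [QuasiCompact f] {y : Y} (T : (f.fiber y).Opens)
    (hTc : IsClosed (T : Set ↥(f.fiber y))) (hT : IsProper (T.ι ≫ f.fiberToSpecResidueField y))
    {K : Type u} [Field K] (A : ValuationSubring K) [IsDiscreteValuationRing A]
    (k : Spec (CommRingCat.of K) ⟶ X) (a : Spec (CommRingCat.of A) ⟶ Y)
    (ha : a.base (closedPoint A) = y)
    (hsq : Spec.map (CommRingCat.ofHom A.subtype) ≫ a = k ≫ f)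
    (C : Set X) (hkC : k.base (closedPoint K) ∈ C)
    (hconn : ∀ (L : Type u) [Field L] (m : Spec (CommRingCat.of L) ⟶ Y),
      m.base (closedPoint L) = f.base (k.base (closedPoint K)) →
      _root_.IsPreconnected ((pullback.fst f m).base ⁻¹' C))
    (hmeet : ∃ p q : ↥(pullback f a), p ⤳ q ∧
      (pullback.snd f a).base p = (Spec.map (CommRingCat.ofHom A.subtype)).base (closedPoint K) ∧
      (pullback.fst f a).base p ∈ C ∧
      (pullback.snd f a).base q = closedPoint A ∧
      (pullback.fst f a).base q ∈ (f.fiberι y).base '' (T : Set ↥(f.fiber y))) :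
    ∃ l : Spec (CommRingCat.of A) ⟶ X, l ≫ f = a ∧ Spec.map (CommRingCat.ofHom A.subtype) ≫ l = k ∧
      l.base (closedPoint A) ∈ (f.fiberι y).base '' (T : Set ↥(f.fiber y)) := by
  obtain ⟨E, _, _, _, ψ, hψloc, hcomplete, hψinj, -, -⟩ :=
    exists_complete_dvr A (ResidueField A) (RingHom.id _)
  haveI := hψloc
  haveI := hcomplete
  haveI : HenselianRing E (maximalIdeal E) := inferInstance
  let L := FractionRing E
  have hLinj : Function.Injective ((algebraMap E L).comp ψ) := (IsFractionRing.injective E L).comp hψinj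
  let φ : K →+* L := IsFractionRing.lift hLinj
  have hφ : ∀ r : A, φ r = algebraMap E L (ψ r) := fun r => IsFractionRing.lift_algebraMap hLinj r
  let Ψ : Spec (CommRingCat.of E) ⟶ Spec (CommRingCat.of A) := Spec.map (CommRingCat.ofHom ψ)
  let gE : Spec (CommRingCat.of L) ⟶ Spec (CommRingCat.of E) :=
    Spec.map (CommRingCat.ofHom (algebraMap E L))
  let gA : Spec (CommRingCat.of K) ⟶ Spec (CommRingCat.of A) :=
    Spec.map (CommRingCat.ofHom A.subtype)
  let Φ : Spec (CommRingCat.of L) ⟶ Spec (CommRingCat.of K) := Spec.map (CommRingCat.ofHom φ)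
  have hgen : gE ≫ Ψ = Φ ≫ gA := by
    rw [← Spec.map_comp, ← Spec.map_comp]
    refine congrArg Spec.map (CommRingCat.hom_ext (RingHom.ext fun r => ?_))
    exact (hφ r).symm
  have hΨc : Ψ.base (closedPoint E) = closedPoint A := IsLocalRing.comap_closedPoint ψ
  have hΦ : Φ.base (closedPoint L) = closedPoint K := Subsingleton.elim _ _
  let b := Ψ ≫ a
  let pE := pullback.snd f b
  haveI : LocallyOfFiniteType pE := inferInstanceAs (LocallyOfFiniteType (pullback.snd f b))
  haveI : IsSeparated pE := inferInstanceAs (IsSeparated (pullback.snd f b))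
  haveI : QuasiCompact pE := inferInstanceAs (QuasiCompact (pullback.snd f b))
  -- the closed fibre over the completion
  letI : Field (E ⧸ maximalIdeal E) := Ideal.Quotient.field _
  let i₀ : Spec (CommRingCat.of (E ⧸ maximalIdeal E)) ⟶ Spec (CommRingCat.of E) :=
    Spec.map (CommRingCat.ofHom (Ideal.Quotient.mk (maximalIdeal E)))
  have hi₀ : ∀ z, i₀.base z = closedPoint E := fun z => PrimeSpectrum.ext (IsLocalRing.eq_maximalIdeal (by
    show (z.asIdeal.comap (Ideal.Quotient.mk (maximalIdeal E))).IsMaximal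
    haveI : z.asIdeal.IsMaximal := by
      rw [(Ideal.eq_bot_or_top z.asIdeal).resolve_right z.isPrime.ne_top]
      exact Ideal.bot_isMaximal
    exact Ideal.comap_isMaximal_of_surjective _ Ideal.Quotient.mk_surjective))
  obtain ⟨θ, hθ⟩ := Groth.Valuative.exists_factor_residue (K := E ⧸ maximalIdeal E) (i₀ ≫ b)
    (x := y) (by rw [Scheme.Hom.comp_apply, hi₀, Scheme.Hom.comp_apply, hΨc, ha])
  let fst₀ := pullback.fst pE i₀
  let v : pullback pE i₀ ⟶ f.fiber y := pullback.lift (fst₀ ≫ pullback.fst f b)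
    (pullback.snd pE i₀ ≫ Spec.map θ) (by
      rw [Category.assoc, pullback.condition, Category.assoc, hθ, reassoc_of% (pullback.condition (f := pE) (g := i₀))])
  have hv1 : v ≫ f.fiberι y = fst₀ ≫ pullback.fst f b := pullback.lift_fst ..
  have hv2 : v ≫ f.fiberToSpecResidueField y = pullback.snd pE i₀ ≫ Spec.map θ := pullback.lift_snd ..
  have hsqv : IsPullback v (pullback.snd pE i₀) (f.fiberToSpecResidueField y) (Spec.map θ) := by
    have hbig := (IsPullback.of_hasPullback pE i₀).paste_horiz (IsPullback.of_hasPullback f b)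
    rw [← hθ, ← hv1] at hbig
    exact hbig.of_right hv2 (IsPullback.of_hasPullback f (Y.fromSpecResidueField y))
  let T₀ := v ⁻¹ᵁ T
  have hT₀ : IsProper (T₀.ι ≫ pullback.snd pE i₀) :=
    MorphismProperty.of_isPullback ((isPullback_morphismRestrict v T).paste_vert hsqv) hT
  obtain ⟨W, hWc, hWp, hWT⟩ := Groth.Agent.S1366.result (maximalIdeal E) pE T₀
    (hTc.preimage v.continuous) hT₀
  have hclosed : ∀ q : ↥(pullback f b), pE.base q = closedPoint E →
      (q ∈ W ↔ (pullback.fst f b).base q ∈ (f.fiberι y).base '' (T : Set ↥(f.fiber y))) := by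
    intro q hq
    obtain ⟨q₀, hq₀, -⟩ := Scheme.Pullback.exists_preimage_pullback (f := pE) (g := i₀) q
      (closedPoint (E ⧸ maximalIdeal E)) (hq.trans (hi₀ _).symm)
    have hfq : (f.fiberι y).base (v.base q₀) = (pullback.fst f b).base q := by
      rw [← Scheme.Hom.comp_apply, hv1, Scheme.Hom.comp_apply, hq₀]
    have hiff : q ∈ W ↔ v.base q₀ ∈ T := by
      rw [← hq₀]
      show q₀ ∈ fst₀ ⁻¹ᵁ W ↔ _
      rw [hWT]
      rfl
    rw [hiff]
    constructor
    · exact fun h => ⟨_, h, hfq⟩
    · rintro ⟨t, ht, hte⟩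
      rwa [(f.fiberι y).isEmbedding.injective (hfq.trans hte.symm)]
  -- the flat projection from the completed model
  let π : pullback f b ⟶ pullback f a := pullback.lift (pullback.fst f b) (pE ≫ Ψ)
    (by rw [pullback.condition, Category.assoc])
  have hπ1 : π ≫ pullback.fst f a = pullback.fst f b := pullback.lift_fst ..
  have hπ2 : π ≫ pullback.snd f a = pE ≫ Ψ := pullback.lift_snd ..
  have hsqπ : IsPullback π pE (pullback.snd f a) Ψ := by
    refine IsPullback.of_right ?_ hπ2 (IsPullback.of_hasPullback f a)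
    rw [hπ1]
    exact IsPullback.of_hasPullback f b
  haveI : Flat Ψ := by
    rw [HasRingHomProperty.Spec_iff (P := @Flat)]
    letI := ψ.toAlgebra
    haveI : Module.IsTorsionFree A E := Module.isTorsionFree_iff_algebraMap_injective.2 hψinj
    exact RingHom.flat_algebraMap_iff.2 (inferInstance : Module.Flat A E)
  haveI : Flat π := MorphismProperty.of_isPullback hsqπ.flip inferInstance
  obtain ⟨p, q, hpq, hp, hpC, hq, hqT⟩ := hmeet
  obtain ⟨qE, hqE, hqE'⟩ := Scheme.exists_preimage_of_isPullback hsqπ q (closedPoint E) (by rw [hq, hΨc])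
  obtain ⟨pE', hpE', hpEπ⟩ := Groth.FibreDim.generalizing_of_flat_stalkMap π qE (Flat.stalkMap π qE) qE
    specializes_rfl p (hqE ▸ hpq)
  have hqW : qE ∈ W := (hclosed qE hqE').2 (by
    rw [← hπ1, Scheme.Hom.comp_apply, hqE]
    exact hqT)
  have hpW : pE' ∈ W := hpE'.mem_open W.isOpen hqW
  let m := gE ≫ b
  let M : pullback f m ⟶ pullback f b := pullback.lift (pullback.fst f m) (pullback.snd f m ≫ gE)
    (by rw [pullback.condition, Category.assoc])
  have hM1 : M ≫ pullback.fst f b = pullback.fst f m := pullback.lift_fst ..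
  have hM2 : M ≫ pE = pullback.snd f m ≫ gE := pullback.lift_snd ..
  have hsqM : IsPullback M (pullback.snd f m) pE gE := by
    refine IsPullback.of_right ?_ hM2 (IsPullback.of_hasPullback f b)
    rw [hM1]
    exact IsPullback.of_hasPullback f m
  have hgne : (pullback.snd f a).base p ≠ closedPoint A := by
    rw [hp]
    intro he
    have h1 := congrArg PrimeSpectrum.asIdeal he
    change (maximalIdeal K).comap A.subtype = maximalIdeal A at h1
    rw [show maximalIdeal K = ⊥ from IsLocalRing.maximalIdeal_eq_bot,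
      Ideal.comap_bot_of_injective _ Subtype.val_injective] at h1
    exact IsDiscreteValuationRing.not_a_field A h1.symm
  have hpgen : gE.base (closedPoint L) = pE.base pE' :=
    eq_genericPt_of_ne_closedPoint L fun he => hgne (by
      rw [← hpEπ, ← Scheme.Hom.comp_apply, hπ2, Scheme.Hom.comp_apply, he, hΨc])
  have hmK : m.base (closedPoint L) = f.base (k.base (closedPoint K)) := by
    rw [← Scheme.Hom.comp_apply k f, ← hsq, ← hΦ, ← Scheme.Hom.comp_apply, ← Category.assoc, ← hgen,
      Category.assoc]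
  have hCW : M.base '' ((pullback.fst f m).base ⁻¹' C) ⊆ (W : Set ↥(pullback f b)) := by
    refine ((hconn L m hmK).image _ M.continuous.continuousOn).subset_isClopen ⟨hWc, W.isOpen⟩ ?_
    obtain ⟨pL, hpL, -⟩ := Scheme.exists_preimage_of_isPullback hsqM pE' (closedPoint L) hpgen.symm
    refine ⟨pE', ⟨pL, ?_, hpL⟩, hpW⟩
    show (pullback.fst f m).base pL ∈ C
    rw [← hM1, Scheme.Hom.comp_apply, hpL, ← hπ1, Scheme.Hom.comp_apply, hpEπ]
    exact hpC
  let kE : Spec (CommRingCat.of L) ⟶ pullback f b := pullback.lift (Φ ≫ k) gE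
    (by rw [Category.assoc, ← hsq, ← Category.assoc, ← hgen, Category.assoc])
  have hkE1 : kE ≫ pullback.fst f b = Φ ≫ k := pullback.lift_fst ..
  have hkE2 : kE ≫ pE = gE := pullback.lift_snd ..
  have hkW : Set.range kE.base ⊆ Set.range W.ι.base := by
    rw [Scheme.Opens.range_ι]
    rintro _ ⟨z, rfl⟩
    rw [Subsingleton.elim z (closedPoint L)]
    obtain ⟨zL, hzL, -⟩ := Scheme.exists_preimage_of_isPullback hsqM (kE.base (closedPoint L))
      (closedPoint L) (by rw [← Scheme.Hom.comp_apply, hkE2])
    refine hCW ⟨zL, ?_, hzL⟩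
    show (pullback.fst f m).base zL ∈ C
    rw [← hM1, Scheme.Hom.comp_apply, hzL, ← Scheme.Hom.comp_apply, hkE1, Scheme.Hom.comp_apply, hΦ]
    exact hkC
  haveI := hWp
  obtain ⟨lW, hlW1, hlW2⟩ := Groth.Limits.dvr_lift_of_universallyClosed (W.ι ≫ pE) E
    (IsOpenImmersion.lift W.ι kE hkW) (𝟙 _) (by
      rw [IsOpenImmersion.lift_fac_assoc, hkE2, Category.comp_id])
  let lX : Spec (CommRingCat.of E) ⟶ X := lW ≫ W.ι ≫ pullback.fst f b
  have hlgen : gE ≫ lX = Φ ≫ k := by
    rw [show gE ≫ lX = (Groth.Limits.genericPointMap E ≫ lW) ≫ W.ι ≫ pullback.fst f b from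
      (Category.assoc _ _ _).symm, hlW2, IsOpenImmersion.lift_fac_assoc, hkE1]
  have hmem : ∀ z : K, z ∈ A ↔ φ z ∈ (algebraMap E L).range := by
    intro z
    refine ⟨fun hz => ⟨ψ ⟨z, hz⟩, (hφ ⟨z, hz⟩).symm⟩, ?_⟩
    rintro ⟨e, he⟩
    by_contra hz
    have hzi : z⁻¹ ∈ A := (A.mem_or_inv_mem z).resolve_left hz
    have hz0 : z ≠ 0 := fun h0 => hz (h0 ▸ A.zero_mem)
    have hnu : ¬ IsUnit (⟨z⁻¹, hzi⟩ : A) := fun hu => hz (by
      obtain ⟨w, hw⟩ := hu.exists_right_inv
      have hw' : z⁻¹ * (w : K) = 1 := congrArg Subtype.val hw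
      rw [inv_mul_eq_one₀ hz0] at hw'
      exact hw' ▸ w.2)
    refine hnu (isUnit_of_map_unit ψ _ (IsUnit.of_mul_eq_one e ?_))
    apply IsFractionRing.injective E L
    rw [map_mul, ← hφ ⟨z⁻¹, hzi⟩, he, map_one, ← map_mul, inv_mul_cancel₀ hz0, map_one]
  obtain ⟨l, hl, hlk⟩ := Groth.PropsBasic.ValuativeDense.exists_descend (T := X) A (algebraMap E L)
    (IsFractionRing.injective E L) φ hmem ψ (RingHom.ext fun r => (hφ r).symm) k lX hlgen
  haveI : IsLocalHom (CommRingCat.ofHom ψ).hom := hψloc
  have hlXf : lX ≫ f = Ψ ≫ a := by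
    simp only [lX, Category.assoc, pullback.condition]
    rw [← Category.assoc W.ι, ← Category.assoc lW, hlW1, Category.id_comp]
  refine ⟨l, Groth.PropsBasic.ValuativeDense.eq_of_local_comp_eq (CommRingCat.ofHom ψ) hψinj _ _ (by
    rw [← Category.assoc, hl]; exact hlXf), hlk, ?_⟩
  have hlc : l.base (closedPoint A) = (pullback.fst f b).base (W.ι.base (lW.base (closedPoint E))) := by
    rw [← hΨc, ← Scheme.Hom.comp_apply, hl]
    rfl
  rw [hlc]
  refine (hclosed _ ?_).1 (lW.base (closedPoint E)).2
  rw [← Scheme.Hom.comp_apply, ← Scheme.Hom.comp_apply, hlW1]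
  rfl

end Groth.EGA43Topo.ProperConn
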