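import Groth.Agent.EGA43Topo.ProperAtConn

/-!
# Properness near a proper fibre from connectedness of the fibres (EGA IV 15.7)
-/

set_option autoImplicit false
set_option linter.style.haveILetI false
universe u

open CategoryTheory CategoryTheory.Limits AlgebraicGeometry TopologicalSpace Topology IsLocalRing

namespace Groth.EGA43Topo.ProperConn

variable {X Y : Scheme.{u}} (f : X ⟶ Y)

/-- Base change to a field over a point with geometrically connected fibre is connected. -/
theorem isPreconnected_of_geometricallyConnected {η : Y}
    [GeometricallyConnected (f.fiberToSpecResidueField η)] {L : Type u} [Field L]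
    (m : Spec (CommRingCat.of L) ⟶ Y) (hm : m.base (closedPoint L) = η) :
    _root_.IsPreconnected ((pullback.fst f m).base ⁻¹' (f.base ⁻¹' {η})) := by
  have huniv : (pullback.fst f m).base ⁻¹' (f.base ⁻¹' {η}) = Set.univ := by
    refine Set.eq_univ_of_forall fun w => ?_
    show f.base ((pullback.fst f m).base w) = η
    rw [← Scheme.Hom.comp_apply, pullback.condition, Scheme.Hom.comp_apply,
      Subsingleton.elim ((pullback.snd f m).base w) (closedPoint L), hm]
  rw [huniv]
  obtain ⟨θ, hθ⟩ := Groth.Valuative.exists_factor_residue m hm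
  let e : pullback f m ⟶ f.fiber η := pullback.lift (pullback.fst f m) (pullback.snd f m ≫ Spec.map θ)
    (by rw [pullback.condition, Category.assoc, hθ])
  have he1 : e ≫ f.fiberι η = pullback.fst f m := pullback.lift_fst ..
  have he2 : e ≫ f.fiberToSpecResidueField η = pullback.snd f m ≫ Spec.map θ := pullback.lift_snd ..
  have hsq : IsPullback e (pullback.snd f m) (f.fiberToSpecResidueField η) (Spec.map θ) := by
    refine IsPullback.of_right ?_ he2 (IsPullback.of_hasPullback f (Y.fromSpecResidueField η))
    rw [hθ]
    exact he1.symm ▸ IsPullback.of_hasPullback f m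
  haveI : ConnectedSpace ↥(pullback f m) :=
    GeometricallyConnected.geometrically_connectedSpace (f := f.fiberToSpecResidueField η) _ _ _ hsq
  exact isPreconnected_univ

variable [IsLocallyNoetherian Y] [IsSeparated f] [LocallyOfFiniteType f] [QuasiCompact f]

/-- Properness near a point with proper fibre, from connected fibres at the points of `G` which
degenerate into the fibre. -/
theorem exists_proper_nhd_of_connected (y : Y) (hy : IsProper (f.fiberToSpecResidueField y))
    (G : Set X) (hG : ∀ c, ∃ g ∈ G, g ⤳ c)
    (hconn : ∀ c ∈ G, GeometricallyConnected (f.fiberToSpecResidueField (f.base c)))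
    (hmeet : ∀ c ∈ G, ∀ (A : Type u) [CommRing A] [IsDomain A] [IsDiscreteValuationRing A]
      (a : Spec (CommRingCat.of A) ⟶ Y), a.base (closedPoint A) = y →
      ∃ p q : ↥(pullback f a), p ⤳ q ∧ (pullback.snd f a).base p ≠ closedPoint A ∧
        (pullback.snd f a).base q = closedPoint A) :
    ∃ U : Y.Opens, y ∈ U ∧ IsProper (f ∣_ U) := by
  refine Groth.Valuative.exists_proper_nhd_of_through f G hG y fun V o ho u hu A hA a ha hsq => ?_
  let c := o.base u
  let k := V.fromSpecResidueField u ≫ o
  have hk : k.base (closedPoint (V.residueField u)) = c := by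
    rw [Scheme.Hom.comp_apply, Scheme.fromSpecResidueField_apply]
  haveI := hconn c hu
  have hTp : IsProper ((⊤ : (f.fiber y).Opens).ι ≫ f.fiberToSpecResidueField y) :=
    haveI := hy
    haveI : IsIso (⊤ : (f.fiber y).Opens).ι := (f.fiber y).topIso.isIso_hom
    inferInstance
  obtain ⟨p, q, hpq, hp, hq⟩ := hmeet c hu A a ha
  obtain ⟨l, hl, hlk, -⟩ := exists_lift_of_component f (⊤ : (f.fiber y).Opens) isClosed_univ hTp A k a ha
    hsq (f.base ⁻¹' {f.base c}) (by rw [hk]; rfl)
    (fun L _ m hm => isPreconnected_of_geometricallyConnected f m (by rw [hm, hk]))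
    (by
      have hpg : (pullback.snd f a).base p =
          (Spec.map (CommRingCat.ofHom A.subtype)).base (closedPoint (V.residueField u)) :=
        (eq_genericPt_of_ne_closedPoint (V.residueField u) hp).symm
      refine ⟨p, q, hpq, hpg, ?_, hq, ?_⟩
      · show f.base ((pullback.fst f a).base p) = f.base c
        rw [← Scheme.Hom.comp_apply, pullback.condition, Scheme.Hom.comp_apply, hpg,
          ← Scheme.Hom.comp_apply, hsq, Scheme.Hom.comp_apply, hk]
      · obtain ⟨q', hq'⟩ : (pullback.fst f a).base q ∈ Set.range (f.fiberι y).base := (f.range_fiberι y).ge (by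
          show f.base ((pullback.fst f a).base q) = y
          rw [← Scheme.Hom.comp_apply, pullback.condition, Scheme.Hom.comp_apply, hq, ha])
        exact ⟨q', trivial, hq'⟩)
  exact ⟨l, hl, hlk⟩

omit [IsLocallyNoetherian Y] [IsSeparated f] [LocallyOfFiniteType f] [QuasiCompact f] in
/-- For a flat morphism the closed fibre of a base change to a valuation ring is adherent to the
generic fibre. -/
theorem exists_meet_of_flat [Flat f] {y : Y} (hne : Nonempty ↥(f.fiber y)) (A : Type u) [CommRing A]
    [IsDomain A] [IsDiscreteValuationRing A] (a : Spec (CommRingCat.of A) ⟶ Y)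
    (ha : a.base (closedPoint A) = y) :
    ∃ p q : ↥(pullback f a), p ⤳ q ∧ (pullback.snd f a).base p ≠ closedPoint A ∧
      (pullback.snd f a).base q = closedPoint A := by
  obtain ⟨x⟩ := hne
  obtain ⟨q, -, hq⟩ := Scheme.Pullback.exists_preimage_pullback (f := f) (g := a) ((f.fiberι y).base x)
    (closedPoint A) ((Groth.FibreDim.apply_fiberι f y x).trans ha.symm)
  let g : PrimeSpectrum A := ⟨⊥, Ideal.isPrime_bot⟩
  haveI : Flat (pullback.snd f a) := MorphismProperty.pullback_snd _ _ inferInstance
  obtain ⟨p, hp, hpg⟩ := Groth.FibreDim.generalizing_of_flat_stalkMap (pullback.snd f a) q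
    (Flat.stalkMap _ q) q specializes_rfl g (by
      rw [hq]; exact IsLocalRing.specializes_closedPoint _)
  exact ⟨p, q, hp, fun he => IsDiscreteValuationRing.not_a_field A
    (congrArg PrimeSpectrum.asIdeal (he.symm.trans hpg)), hq⟩

omit [IsLocallyNoetherian Y] [IsSeparated f] [LocallyOfFiniteType f] in
/-- For a universally submersive morphism the closed fibre of a base change to a valuation ring is
adherent to the generic fibre. -/
theorem exists_meet_of_submersive
    (hsub : MorphismProperty.universally (topologically fun g => Topology.IsQuotientMap g) f)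
    (A : Type u) [CommRing A] [IsDomain A] [IsDiscreteValuationRing A]
    (a : Spec (CommRingCat.of A) ⟶ Y) :
    ∃ p q : ↥(pullback f a), p ⤳ q ∧ (pullback.snd f a).base p ≠ closedPoint A ∧
      (pullback.snd f a).base q = closedPoint A := by
  have hquot : Topology.IsQuotientMap (pullback.snd f a).base :=
    hsub (pullback.fst f a) a (pullback.snd f a) (IsPullback.of_hasPullback f a).flip
  let p := pullback.snd f a
  let S : Set ↥(pullback f a) := p.base ⁻¹' {closedPoint A}
  have hSnot : ¬ IsOpen S := fun hopen => by
    have h1 : IsOpen ({closedPoint A} : Set (PrimeSpectrum A)) := hquot.isCoinducing.isOpen_preimage.1 hopen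
    have h2 : (⟨⊥, Ideal.isPrime_bot⟩ : PrimeSpectrum A) ∈ ({closedPoint A} : Set (PrimeSpectrum A)) :=
      (IsLocalRing.specializes_closedPoint (⟨⊥, Ideal.isPrime_bot⟩ : PrimeSpectrum A)).mem_open h1 rfl
    exact IsDiscreteValuationRing.not_a_field A (congrArg PrimeSpectrum.asIdeal h2).symm
  haveI : QuasiCompact p := inferInstanceAs (QuasiCompact (pullback.snd f a))
  let η : Spec (CommRingCat.of (FractionRing A)) ⟶ Spec (CommRingCat.of A) :=
    Spec.map (CommRingCat.ofHom (algebraMap A (FractionRing A)))
  have hrange : Set.range (pullback.fst p η).base = Sᶜ := by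
    rw [Scheme.Pullback.range_fst]
    ext w
    constructor
    · rintro ⟨t, ht⟩ (hw : p.base w = closedPoint A)
      rw [hw] at ht
      have h1 := congrArg PrimeSpectrum.asIdeal ht
      change t.asIdeal.comap (algebraMap A (FractionRing A)) = maximalIdeal A at h1
      rw [(Ideal.eq_bot_or_top t.asIdeal).resolve_right t.isPrime.ne_top,
        Ideal.comap_bot_of_injective _ (IsFractionRing.injective A (FractionRing A))] at h1
      exact IsDiscreteValuationRing.not_a_field A h1.symm
    · intro hw
      exact ⟨closedPoint (FractionRing A), eq_genericPt_of_ne_closedPoint (FractionRing A) hw⟩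
  have hncl : ¬ IsClosed (Set.range (pullback.fst p η).base) := by
    rwa [hrange, isClosed_compl_iff]
  obtain ⟨w, hw, hwS⟩ : ∃ w ∈ closure (Set.range (pullback.fst p η).base), w ∉ Set.range (pullback.fst p η).base := by
    by_contra hcon
    push Not at hcon
    exact hncl (closure_subset_iff_isClosed.1 hcon)
  haveI : QuasiCompact η := inferInstance
  obtain ⟨t, ht⟩ := Groth.DescentBase.exists_specializes_of_mem_closure_range (pullback.fst p η) hw
  refine ⟨_, w, ht, ?_, ?_⟩
  · exact (hrange.le ⟨t, rfl⟩ : _)
  · rw [hrange] at hwS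
    exact not_not.1 hwS

end Groth.EGA43Topo.ProperConn
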