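import Groth.Agent.EGA43Topo.ProperAtConnApply
import Groth.Agent.EGA41Two.ConsTop
import Groth.Agent.Limits.FlatClosure
import Groth.Agent.Limits.ProConsImage

/-!
# Properness near a point of a constructible family of components of fibres (EGA IV 15.7.9)
-/

set_option autoImplicit false
set_option linter.style.haveILetI false
universe u

open CategoryTheory CategoryTheory.Limits AlgebraicGeometry TopologicalSpace Topology IsLocalRing

namespace Groth.EGA43Topo.ProperConn

variable {X Y : Scheme.{u}} (f : X ⟶ Y) [IsLocallyNoetherian Y] [IsSeparated f] [LocallyOfFiniteType f]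
  [QuasiCompact f]

/-- The closure of a constructible set `Z`, with its reduced structure. -/
noncomputable abbrev clSub (Z : Set X) : Scheme.{u} :=
  (Scheme.IdealSheafData.vanishingIdeal (⟨closure Z, isClosed_closure⟩ : Closeds X)).subscheme

/-- Its inclusion. -/
noncomputable abbrev clι (Z : Set X) : clSub Z ⟶ X :=
  (Scheme.IdealSheafData.vanishingIdeal (⟨closure Z, isClosed_closure⟩ : Closeds X)).subschemeι

/-- Extension of points of `Z` over discrete valuation rings centred over generizations of `y`. -/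
theorem exists_lift_cons {y : Y} {Z : Set X}
    (hconn : ∀ y' : Y, y' ⤳ y → ∀ (L : Type u) [Field L] (m : Spec (CommRingCat.of L) ⟶ Y),
      m.base (closedPoint L) = y' → _root_.IsPreconnected ((pullback.fst f m).base ⁻¹' Z))
    (hmeet : ∀ (A : Type u) [CommRing A] [IsDomain A] [IsDiscreteValuationRing A]
      (a : Spec (CommRingCat.of A) ⟶ Y), a.base (closedPoint A) ⤳ y →
      ∃ p q : ↥(pullback f a), p ⤳ q ∧ (pullback.snd f a).base p ≠ closedPoint A ∧
        (pullback.fst f a).base p ∈ Z ∧ (pullback.snd f a).base q = closedPoint A ∧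
        (pullback.fst f a).base q ∈ Z)
    {y' : Y} (hy' : y' ⤳ y) (T : (f.fiber y').Opens) (hTZ : (T : Set ↥(f.fiber y')) = (f.fiberι y').base ⁻¹' Z)
    (hTc : IsClosed (T : Set ↥(f.fiber y'))) (hT : IsProper (T.ι ≫ f.fiberToSpecResidueField y'))
    {K : Type u} [Field K] (A : ValuationSubring K) [IsDiscreteValuationRing A]
    (k : Spec (CommRingCat.of K) ⟶ X) (a : Spec (CommRingCat.of A) ⟶ Y)
    (ha : a.base (closedPoint A) = y')
    (hsq : Spec.map (CommRingCat.ofHom A.subtype) ≫ a = k ≫ f) (hk : k.base (closedPoint K) ∈ Z) :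
    ∃ l : Spec (CommRingCat.of A) ⟶ X, l ≫ f = a ∧ Spec.map (CommRingCat.ofHom A.subtype) ≫ l = k ∧
      l.base (closedPoint A) ∈ Z := by
  let η := f.base (k.base (closedPoint K))
  have hgen : a.base ((Spec.map (CommRingCat.ofHom A.subtype)).base (closedPoint K)) = η := by
    rw [← Scheme.Hom.comp_apply, hsq, Scheme.Hom.comp_apply]
  have hηy : η ⤳ y := by
    refine Specializes.trans ?_ hy'
    rw [← hgen, ← ha]
    exact (IsLocalRing.specializes_closedPoint _).map a.continuous
  obtain ⟨l, hl, hlk, hlc⟩ := exists_lift_of_component f T hTc hT A k a ha hsq (Z ∩ f.base ⁻¹' {η})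
    ⟨hk, rfl⟩ (fun L _ m hm => by
      have he : (pullback.fst f m).base ⁻¹' (Z ∩ f.base ⁻¹' {η}) = (pullback.fst f m).base ⁻¹' Z := by
        refine Set.inter_eq_left.2 fun w _ => ?_
        show f.base ((pullback.fst f m).base w) = η
        rw [← Scheme.Hom.comp_apply, pullback.condition, Scheme.Hom.comp_apply,
          Subsingleton.elim ((pullback.snd f m).base w) (closedPoint L), hm]
      rw [he]
      exact hconn η hηy L m hm)
    (by
      obtain ⟨p, q, hpq, hp, hpZ, hq, hqZ⟩ := hmeet A a (by rw [ha]; exact hy')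
      have hpg : (pullback.snd f a).base p = (Spec.map (CommRingCat.ofHom A.subtype)).base (closedPoint K) :=
        (eq_genericPt_of_ne_closedPoint K hp).symm
      refine ⟨p, q, hpq, hpg, ⟨hpZ, ?_⟩, hq, ?_⟩
      · show f.base ((pullback.fst f a).base p) = η
        rw [← Scheme.Hom.comp_apply, pullback.condition, Scheme.Hom.comp_apply, hpg, hgen]
      · obtain ⟨q', hq'⟩ : (pullback.fst f a).base q ∈ Set.range (f.fiberι y').base :=
          (f.range_fiberι y').ge (by
            show f.base ((pullback.fst f a).base q) = y'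
            rw [← Scheme.Hom.comp_apply, pullback.condition, Scheme.Hom.comp_apply, hq, ha])
        refine ⟨q', ?_, hq'⟩
        rw [hTZ, Set.mem_preimage, hq']
        exact hqZ)
  refine ⟨l, hl, hlk, ?_⟩
  obtain ⟨t, ht, hte⟩ := hlc
  rw [hTZ] at ht
  exact hte ▸ ht

/-- **EGA IV 15.7.9**: a constructible family of geometrically connected open and closed pieces of the
fibres, proper at `y`, is closed and proper over a neighbourhood of `y`. -/
theorem exists_proper_nhd_cons {y : Y} {Z : Set X} (hZ : IsLocallyConstructible Z)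
    (hclopen : ∀ y' : Y, y' ⤳ y → IsClopen ((f.fiberι y').base ⁻¹' Z))
    (hconn : ∀ y' : Y, y' ⤳ y → ∀ (L : Type u) [Field L] (m : Spec (CommRingCat.of L) ⟶ Y),
      m.base (closedPoint L) = y' → _root_.IsPreconnected ((pullback.fst f m).base ⁻¹' Z))
    (hmeet : ∀ (A : Type u) [CommRing A] [IsDomain A] [IsDiscreteValuationRing A]
      (a : Spec (CommRingCat.of A) ⟶ Y), a.base (closedPoint A) ⤳ y →
      ∃ p q : ↥(pullback f a), p ⤳ q ∧ (pullback.snd f a).base p ≠ closedPoint A ∧
        (pullback.fst f a).base p ∈ Z ∧ (pullback.snd f a).base q = closedPoint A ∧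
        (pullback.fst f a).base q ∈ Z)
    (hT : IsProper (Scheme.Opens.ι (⟨(f.fiberι y).base ⁻¹' Z, (hclopen y specializes_rfl).isOpen⟩ : (f.fiber y).Opens) ≫
      f.fiberToSpecResidueField y)) :
    ∃ U : Y.Opens, y ∈ U ∧ ∃ hC : IsClosed ((f ⁻¹ᵁ U).ι.base ⁻¹' Z),
      IsProper ((Scheme.IdealSheafData.vanishingIdeal
        (⟨(f ⁻¹ᵁ U).ι.base ⁻¹' Z, hC⟩ : Closeds ↥(f ⁻¹ᵁ U))).subschemeι ≫ (f ∣_ U)) := by
  haveI : IsLocallyNoetherian X := LocallyOfFiniteType.isLocallyNoetherian f
  let i := clι Z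
  haveI hred : IsReduced (clSub Z) :=
    Groth.PropsBasic2.isReduced_vanishingIdeal_subscheme (⟨closure Z, isClosed_closure⟩ : Closeds X)
  have hi : Set.range i.base = closure Z :=
    Groth.PropsBasic2.range_vanishingIdeal_subschemeι (⟨closure Z, isClosed_closure⟩ : Closeds X)
  have hpcZ := Groth.Limits.pc_of_isLocallyConstructible hZ
  -- step 1: the closure is proper over a neighbourhood
  obtain ⟨U, hyU, hU⟩ := Groth.Valuative.exists_proper_nhd_of_through (i ≫ f) {c | i.base c ∈ Z}
    (fun c => by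
      obtain ⟨z, hz, hzc⟩ := Groth.Limits.exists_specializes_of_mem_closure hpcZ (hi.le ⟨c, rfl⟩)
      obtain ⟨g, rfl⟩ := hi.ge (subset_closure hz)
      exact ⟨g, hz, i.isEmbedding.toIsInducing.specializes_iff.1 hzc⟩) y
    (fun V o _ u hu A hA a ha hsq => by
      obtain ⟨l, hl, hlk, -⟩ := exists_lift_cons f hconn hmeet specializes_rfl
        ⟨_, (hclopen y specializes_rfl).isOpen⟩ rfl (hclopen y specializes_rfl).isClosed hT A
        (V.fromSpecResidueField u ≫ o ≫ i) a ha (by rw [hsq]; simp only [Category.assoc])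
        (by rw [Scheme.Hom.comp_apply, Scheme.Hom.comp_apply, Scheme.fromSpecResidueField_apply]; exact hu)
      have hrange : Set.range l.base ⊆ Set.range i.base := by
        rw [hi]
        rintro _ ⟨w, rfl⟩
        have hsp : (Spec.map (CommRingCat.ofHom A.subtype)).base (closedPoint _) ⤳ w := by
          refine (PrimeSpectrum.le_iff_specializes _ w).1 ?_
          show (maximalIdeal (V.residueField u)).comap A.subtype ≤ w.asIdeal
          rw [show maximalIdeal (V.residueField u) = ⊥ from IsLocalRing.maximalIdeal_eq_bot,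
            Ideal.comap_bot_of_injective _ Subtype.val_injective]
          exact bot_le
        refine (hsp.map l.continuous).mem_closed isClosed_closure (subset_closure ?_)
        rw [← Scheme.Hom.comp_apply, hlk, Scheme.Hom.comp_apply, Scheme.Hom.comp_apply,
          Scheme.fromSpecResidueField_apply]
        exact hu
      obtain ⟨l', hl'⟩ := Groth.PropsBasic2.exists_lift_of_isReduced l i hrange
      refine ⟨l', by rw [← Category.assoc, hl', hl], ?_⟩
      rw [← cancel_mono i, Category.assoc, hl', hlk, Category.assoc])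
  -- step 2: over generizations of `y` the closure adds nothing
  have hstep : ∀ p₀ : X, p₀ ∈ closure Z → f.base p₀ ⤳ y → p₀ ∈ Z := by
    intro p₀ hp₀ hy'
    obtain ⟨c, hc, hcp⟩ := Groth.Limits.exists_specializes_of_mem_closure hpcZ hp₀
    by_cases hne : p₀ = c
    · exact hne ▸ hc
    let y' := f.base p₀
    let T : (f.fiber y').Opens := ⟨_, (hclopen y' hy').isOpen⟩
    have hy'U : y' ∈ U := hy'.mem_open U.isOpen hyU
    have hTp : IsProper (T.ι ≫ f.fiberToSpecResidueField y') := by
      haveI : IsProper ((i ≫ f).fiberToSpecResidueField y') := by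
        let θ := IsOpenImmersion.lift U.ι (Y.fromSpecResidueField y') (by
          rw [Scheme.range_fromSpecResidueField, Scheme.Opens.range_ι, Set.singleton_subset_iff]
          exact hy'U)
        have hbig : IsPullback (pullback.fst ((i ≫ f) ∣_ U) θ ≫ ((i ≫ f) ⁻¹ᵁ U).ι)
            (pullback.snd ((i ≫ f) ∣_ U) θ) (i ≫ f) (θ ≫ U.ι) :=
          (IsPullback.of_hasPullback _ θ).paste_horiz (isPullback_morphismRestrict (i ≫ f) U).flip
        rw [IsOpenImmersion.lift_fac] at hbig
        haveI := hU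
        have h2 : IsProper (pullback.snd ((i ≫ f) ∣_ U) θ) := MorphismProperty.pullback_snd _ _ hU
        rw [← hbig.isoPullback_hom_snd] at h2
        exact (MorphismProperty.cancel_left_of_respectsIso @IsProper _ _).1 h2
      let e : (i ≫ f).fiber y' ⟶ f.fiber y' :=
        pullback.lift ((i ≫ f).fiberι y' ≫ i) ((i ≫ f).fiberToSpecResidueField y')
          (by rw [Category.assoc]; exact pullback.condition)
      have he1 : e ≫ f.fiberι y' = (i ≫ f).fiberι y' ≫ i := pullback.lift_fst ..
      have he2 : e ≫ f.fiberToSpecResidueField y' = (i ≫ f).fiberToSpecResidueField y' := pullback.lift_snd ..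
      let T' : Closeds ↥((i ≫ f).fiber y') := ⟨e.base ⁻¹' (T : Set ↥(f.fiber y')),
        (hclopen y' hy').isClosed.preimage e.continuous⟩
      let R := (Scheme.IdealSheafData.vanishingIdeal T').subscheme
      let r := (Scheme.IdealSheafData.vanishingIdeal T').subschemeι
      have hr : Set.range r.base = (T' : Set ↥((i ≫ f).fiber y')) :=
        Groth.PropsBasic2.range_vanishingIdeal_subschemeι T'
      have hRT : Set.range (r ≫ e).base ⊆ Set.range T.ι.base := by
        rw [Scheme.Opens.range_ι]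
        rintro _ ⟨w, rfl⟩
        exact hr.le ⟨w, rfl⟩
      let ρ := IsOpenImmersion.lift T.ι (r ≫ e) hRT
      have hρ : ρ ≫ T.ι ≫ f.fiberToSpecResidueField y' = r ≫ (i ≫ f).fiberToSpecResidueField y' := by
        rw [IsOpenImmersion.lift_fac_assoc, Category.assoc, he2]
      haveI : Surjective ρ := ⟨fun t => by
        have htZ : (f.fiberι y').base (T.ι.base t) ∈ Z := t.2
        obtain ⟨w, hw⟩ := hi.ge (subset_closure htZ)
        obtain ⟨w', rfl⟩ : w ∈ Set.range ((i ≫ f).fiberι y').base := ((i ≫ f).range_fiberι y').ge (by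
          show (i ≫ f).base w = y'
          rw [Scheme.Hom.comp_apply, hw, Groth.FibreDim.apply_fiberι])
        have hew : e.base w' = T.ι.base t := (f.fiberι y').isEmbedding.injective (by
          rw [← Scheme.Hom.comp_apply, he1, Scheme.Hom.comp_apply, hw])
        obtain ⟨v, hv⟩ := hr.ge (show w' ∈ (T' : Set _) by
          show e.base w' ∈ T
          rw [hew]; exact t.2)
        refine ⟨v, T.ι.isEmbedding.injective ?_⟩
        rw [← Scheme.Hom.comp_apply, IsOpenImmersion.lift_fac, Scheme.Hom.comp_apply, hv, hew]⟩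
      haveI : UniversallyClosed (ρ ≫ T.ι ≫ f.fiberToSpecResidueField y') := by
        rw [hρ]; infer_instance
      haveI : UniversallyClosed (T.ι ≫ f.fiberToSpecResidueField y') :=
        UniversallyClosed.of_comp_surjective ρ _
      haveI : IsSeparated (f.fiberToSpecResidueField y') :=
        inferInstanceAs (IsSeparated (pullback.snd f (Y.fromSpecResidueField y')))
      haveI : LocallyOfFiniteType (f.fiberToSpecResidueField y') :=
        inferInstanceAs (LocallyOfFiniteType (pullback.snd f (Y.fromSpecResidueField y')))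
      exact {}
    obtain ⟨A, hA, hAdvr, hAc, hAg⟩ := Groth.Limits.exists_dvr_residueField (𝟙 X) c p₀ hcp hne
    obtain ⟨l, hl, hlk, hlc⟩ := exists_lift_cons f hconn hmeet hy' T rfl (hclopen y' hy').isClosed hTp A
      (X.fromSpecResidueField c) (hA ≫ f) (by rw [Scheme.Hom.comp_apply, hAc])
      (by rw [reassoc_of% hAg]) (by rw [Scheme.fromSpecResidueField_apply]; exact hc)
    have : l = hA := Groth.Limits.dvr_lift_unique f A (X.residueField c) l hA hl (by
      change Spec.map (CommRingCat.ofHom A.subtype) ≫ l = Spec.map (CommRingCat.ofHom A.subtype) ≫ hA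
      rw [hlk, hAg]; rfl)
    rwa [this, hAc] at hlc
  -- step 3: shrink
  obtain ⟨W, hW, hyW, -⟩ := exists_isAffineOpen_mem_and_subset (U := (⊤ : Y.Opens)) (Set.mem_univ y)
  let D : Set X := closure Z ∩ Zᶜ
  have hD : Groth.Limits.PC D := (Groth.Limits.pc_of_isClosed isClosed_closure).inter
    (Groth.Limits.pc_of_isLocallyConstructible (Groth.EGA41Two.isLocallyConstructible_compl hZ))
  obtain ⟨R, b, hb⟩ := (hD.qcImage_inter_isCompact (f ⁻¹ᵁ W) (f.isCompact_preimage hW.isCompact)).image f
  have hbW : Set.range b.base ⊆ Set.range W.ι.base := by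
    rw [hb, Scheme.Opens.range_ι]
    rintro _ ⟨x, hx, rfl⟩
    exact hx.2
  let b' := IsOpenImmersion.lift W.ι b hbW
  haveI : IsAffine W.toScheme := hW
  have hnot : (⟨y, hyW⟩ : W.toScheme) ∉ closure (Set.range b'.base) := fun hy => by
    obtain ⟨v, hv⟩ := Groth.DescentBase.exists_specializes_of_mem_closure_range b' hy
    have hv' : b.base v ⤳ y := by
      have := hv.map W.ι.continuous
      rw [← Scheme.Hom.comp_apply, IsOpenImmersion.lift_fac] at this
      exact this
    obtain ⟨x, ⟨hxD, -⟩, hx⟩ := hb.le ⟨v, rfl⟩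
    exact hxD.2 (hstep x hxD.1 (hx ▸ hv'))
  let U' : Y.Opens := U ⊓ W.ι ''ᵁ ⟨(closure (Set.range b'.base))ᶜ, isClosed_closure.isOpen_compl⟩
  have hU'Z : (f ⁻¹ᵁ U').ι.base ⁻¹' Z = (f ⁻¹ᵁ U').ι.base ⁻¹' closure Z := by
    refine Set.Subset.antisymm (Set.preimage_mono subset_closure) fun x hx => ?_
    by_contra hxZ
    obtain ⟨w, hw, hwe⟩ := x.2.2
    have hxW : f.base x.1 ∈ W := hwe ▸ w.2
    obtain ⟨v, hv⟩ : f.base x.1 ∈ Set.range b.base := hb.ge ⟨x.1, ⟨⟨hx, hxZ⟩, hxW⟩, rfl⟩
    refine hw (subset_closure ⟨v, W.ι.isEmbedding.injective ?_⟩)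
    rw [← Scheme.Hom.comp_apply, IsOpenImmersion.lift_fac, hv]
    exact hwe.symm
  have hC : IsClosed ((f ⁻¹ᵁ U').ι.base ⁻¹' Z) := by
    rw [hU'Z]
    exact isClosed_closure.preimage (f ⁻¹ᵁ U').ι.continuous
  refine ⟨U', ⟨hyU, ⟨y, hyW⟩, hnot, rfl⟩, hC, ?_⟩
  let j := (Scheme.IdealSheafData.vanishingIdeal (X := (f ⁻¹ᵁ U').toScheme)
    (⟨(f ⁻¹ᵁ U').ι.base ⁻¹' Z, hC⟩ : Closeds ↥((f ⁻¹ᵁ U').toScheme))).subschemeι
  haveI := Groth.PropsBasic2.isReduced_vanishingIdeal_subscheme (X := (f ⁻¹ᵁ U').toScheme)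
    (⟨(f ⁻¹ᵁ U').ι.base ⁻¹' Z, hC⟩ : Closeds ↥((f ⁻¹ᵁ U').toScheme))
  haveI hci : IsClosedImmersion (i ∣_ (f ⁻¹ᵁ U')) := IsZariskiLocalAtTarget.restrict (P := @IsClosedImmersion)
    (f := i) inferInstance _
  obtain ⟨e, he⟩ := Groth.PropsBasic2.exists_iso_of_range_eq j (i ∣_ (f ⁻¹ᵁ U')) (by
    rw [Groth.PropsBasic2.range_vanishingIdeal_subschemeι]
    show (f ⁻¹ᵁ U').ι.base ⁻¹' Z = _
    rw [hU'Z, ← hi]
    ext x
    constructor
    · rintro ⟨w, hw⟩
      refine ⟨⟨w, show i.base w ∈ f ⁻¹ᵁ U' by rw [hw]; exact x.2⟩, ?_⟩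
      exact Subtype.ext ((morphismRestrict_base_coe i _ _).trans hw)
    · rintro ⟨w, rfl⟩
      exact ⟨w.1, (morphismRestrict_base_coe i _ w).symm⟩)
  show IsProper (j ≫ f ∣_ U')
  have hP : IsProper ((i ≫ f) ∣_ U') := by
    haveI := hU
    have hsub : U' ≤ U := inf_le_left
    have h1 : IsProper (((i ≫ f) ∣_ U) ∣_ (U.ι ⁻¹ᵁ U')) := IsZariskiLocalAtTarget.restrict hU _
    rw [MorphismProperty.arrow_mk_iso_iff @IsProper (morphismRestrictRestrict (i ≫ f) U (U.ι ⁻¹ᵁ U'))] at h1
    rwa [show U.ι ''ᵁ U.ι ⁻¹ᵁ U' = U' from by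
      rw [Scheme.Hom.image_preimage_eq_opensRange_inf, Scheme.Opens.opensRange_ι]
      exact inf_eq_right.2 hsub] at h1
  rw [morphismRestrict_comp] at hP
  rw [← he, Category.assoc]
  exact MorphismProperty.comp_mem @IsProper _ _ inferInstance hP

end Groth.EGA43Topo.ProperConn
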