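import Groth.Agent.EGA43Topo.ProperAtCons
import Groth.Agent.EGA43Topo.FibreComponent
import Groth.Agent.GeomComp.SectionModel
import Groth.Agent.SpectralTopology.SpreadInstances
import Mathlib.AlgebraicGeometry.Morphisms.FlatDescent

/-!
# Properness near a point of the components along a section (EGA IV 15.7.10)
-/

set_option autoImplicit false
set_option linter.style.haveILetI false
universe u

open CategoryTheory CategoryTheory.Limits AlgebraicGeometry TopologicalSpace Topology IsLocalRing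
open Groth.SpectralTopology

namespace Groth.EGA43Topo.ProperConn

variable {X Y X' Y' : Scheme.{u}} {f : X ⟶ Y} {f' : X' ⟶ Y'} {g' : X' ⟶ X} {g : Y' ⟶ Y}

/-- A closed set proper over the base stays so after base change, with reduced structures. -/
theorem properClosed_pullback (hc : IsPullback g' f' f g) {C : Set X} (hC : IsClosed C)
    (hP : IsProper ((Scheme.IdealSheafData.vanishingIdeal (⟨C, hC⟩ : Closeds X)).subschemeι ≫ f)) :
    ∃ hC' : IsClosed (g'.base ⁻¹' C),
      IsProper ((Scheme.IdealSheafData.vanishingIdeal (⟨g'.base ⁻¹' C, hC'⟩ : Closeds X')).subschemeι ≫ f') := by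
  have hC' : IsClosed (g'.base ⁻¹' C) := hC.preimage g'.continuous
  refine ⟨hC', ?_⟩
  let j := (Scheme.IdealSheafData.vanishingIdeal (⟨C, hC⟩ : Closeds X)).subschemeι
  let j' := (Scheme.IdealSheafData.vanishingIdeal (⟨g'.base ⁻¹' C, hC'⟩ : Closeds X')).subschemeι
  haveI := Groth.PropsBasic2.isReduced_vanishingIdeal_subscheme (⟨g'.base ⁻¹' C, hC'⟩ : Closeds X')
  let P := pullback j g'
  haveI : IsProper (pullback.snd j g' ≫ f') :=
    MorphismProperty.of_isPullback ((IsPullback.of_hasPullback j g').paste_vert hc) hP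
  haveI : IsClosedImmersion (pullback.snd j g') := MorphismProperty.pullback_snd _ _ inferInstance
  have hr : Set.range j'.base ⊆ Set.range (pullback.snd j g').base := by
    rw [Groth.PropsBasic2.range_vanishingIdeal_subschemeι, Scheme.Pullback.range_snd,
      Groth.PropsBasic2.range_vanishingIdeal_subschemeι]
    rfl
  obtain ⟨l, hl⟩ := Groth.PropsBasic2.exists_lift_of_isReduced j' (pullback.snd j g') hr
  haveI : IsClosedImmersion (l ≫ pullback.snd j g') := by rw [hl]; infer_instance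
  haveI : IsClosedImmersion l := IsClosedImmersion.of_comp l (pullback.snd j g')
  show IsProper (j' ≫ f')
  rw [← hl, Category.assoc]
  exact MorphismProperty.comp_mem @IsProper _ _ inferInstance ‹_›

/-- Properness of an open piece of a fibre can be tested after a base change. -/
theorem isProper_piece_iff (hc : IsPullback g' f' f g) [IsSeparated f] [LocallyOfFiniteType f] (y' : Y') {y : Y}
    (hy : g.base y' = y) (C : Set X) (ho : IsOpen ((f.fiberι y).base ⁻¹' C))
    (ho' : IsOpen ((f'.fiberι y').base ⁻¹' (g'.base ⁻¹' C))) :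
    IsProper (Scheme.Opens.ι (⟨(f'.fiberι y').base ⁻¹' (g'.base ⁻¹' C), ho'⟩ : (f'.fiber y').Opens) ≫
      f'.fiberToSpecResidueField y') ↔
    IsProper (Scheme.Opens.ι (⟨(f.fiberι y).base ⁻¹' C, ho⟩ : (f.fiber y).Opens) ≫
      f.fiberToSpecResidueField y) := by
  subst hy
  let τ := g.residueFieldMap y'
  let v : f'.fiber y' ⟶ f.fiber (g.base y') := pullback.lift (f'.fiberι y' ≫ g')
    (f'.fiberToSpecResidueField y' ≫ Spec.map τ) (by
      rw [Category.assoc, hc.w, reassoc_of% (f'.fiber_fac y'), Category.assoc,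
        Scheme.Hom.SpecMap_residueFieldMap_fromSpecResidueField])
  have hv1 : v ≫ f.fiberι (g.base y') = f'.fiberι y' ≫ g' := pullback.lift_fst ..
  have hv2 : v ≫ f.fiberToSpecResidueField (g.base y') = f'.fiberToSpecResidueField y' ≫ Spec.map τ :=
    pullback.lift_snd ..
  have hsqv : IsPullback v (f'.fiberToSpecResidueField y') (f.fiberToSpecResidueField (g.base y'))
      (Spec.map τ) := by
    have hbig := (IsPullback.of_hasPullback f' (Y'.fromSpecResidueField y')).paste_horiz hc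
    have hτ : Spec.map τ ≫ Y.fromSpecResidueField (g.base y') = Y'.fromSpecResidueField y' ≫ g :=
      Scheme.Hom.SpecMap_residueFieldMap_fromSpecResidueField g y'
    rw [← hτ] at hbig
    have hbig' : IsPullback (v ≫ f.fiberι (g.base y')) (f'.fiberToSpecResidueField y') f
        (Spec.map τ ≫ Y.fromSpecResidueField (g.base y')) := hv1.symm ▸ hbig
    exact hbig'.of_right hv2 (IsPullback.of_hasPullback f (Y.fromSpecResidueField (g.base y')))
  let T : (f.fiber (g.base y')).Opens := ⟨_, ho⟩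
  have hT : v ⁻¹ᵁ T = (⟨(f'.fiberι y').base ⁻¹' (g'.base ⁻¹' C), ho'⟩ : (f'.fiber y').Opens) := by
    refine SetLike.coe_injective ?_
    show v.base ⁻¹' ((f.fiberι (g.base y')).base ⁻¹' C) = (f'.fiberι y').base ⁻¹' (g'.base ⁻¹' C)
    ext w
    simp only [Set.mem_preimage, ← Scheme.Hom.comp_apply, hv1]
  rw [← hT]
  have hpaste := (isPullback_morphismRestrict v T).paste_vert hsqv
  refine ⟨fun h => ?_, fun h => MorphismProperty.of_isPullback hpaste h⟩
  haveI := h
  haveI : IsSeparated (f.fiberToSpecResidueField (g.base y')) :=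
    inferInstanceAs (IsSeparated (pullback.snd f (Y.fromSpecResidueField (g.base y'))))
  haveI : LocallyOfFiniteType (f.fiberToSpecResidueField (g.base y')) :=
    inferInstanceAs (LocallyOfFiniteType (pullback.snd f (Y.fromSpecResidueField (g.base y'))))
  haveI : Surjective (Spec.map τ) := ⟨fun a => ⟨closedPoint _, Subsingleton.elim _ _⟩⟩
  haveI : Flat (Spec.map τ) := by
    rw [HasRingHomProperty.Spec_iff (P := @Flat)]
    letI := τ.hom.toAlgebra
    exact RingHom.flat_algebraMap_iff.2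
      (inferInstance : Module.Flat (Y.residueField (g.base y')) (Y'.residueField y'))
  haveI : UniversallyClosed (T.ι ≫ f.fiberToSpecResidueField (g.base y')) :=
    MorphismProperty.of_isPullback_of_descendsAlong (P := @UniversallyClosed)
      (Q := @Surjective ⊓ @Flat ⊓ @QuasiCompact) hpaste.flip
      ⟨⟨inferInstance, inferInstance⟩, inferInstance⟩ inferInstance
  exact {}

/-- In a base change, the piece of a fibre over a point with connected component. -/
theorem sectionComponents_inter (g₀ : Y ⟶ X) (y : Y) :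
    (f.fiberι y).base ⁻¹' MoreMor.sectionComponents f g₀ =
      (f.fiberι y).base ⁻¹' connectedComponentIn (f.base ⁻¹' {y}) (g₀.base y) := by
  ext w
  show (f.fiberι y).base w ∈ connectedComponentIn (f.base ⁻¹' {f.base ((f.fiberι y).base w)})
    (g₀.base (f.base ((f.fiberι y).base w))) ↔ _
  rw [Groth.FibreDim.apply_fiberι]
  rfl

/-- **EGA IV 15.7.10** over a locally Noetherian base. -/
theorem exists_proper_nhd_section_noeth [IsLocallyNoetherian Y] [IsSeparated f] [LocallyOfFiniteType f]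
    [QuasiCompact f] (g₀ : Y ⟶ X) (hg : g₀ ≫ f = 𝟙 Y) (y : Y)
    (ho : IsOpen ((f.fiberι y).base ⁻¹' MoreMor.sectionComponents f g₀))
    (hT : IsProper (Scheme.Opens.ι (⟨(f.fiberι y).base ⁻¹' MoreMor.sectionComponents f g₀, ho⟩ : (f.fiber y).Opens) ≫
      f.fiberToSpecResidueField y)) :
    ∃ U : Y.Opens, y ∈ U ∧ ∃ hC : IsClosed ((f ⁻¹ᵁ U).ι.base ⁻¹' MoreMor.sectionComponents f g₀),
      IsProper ((Scheme.IdealSheafData.vanishingIdeal
        (⟨(f ⁻¹ᵁ U).ι.base ⁻¹' MoreMor.sectionComponents f g₀, hC⟩ : Closeds ↥(f ⁻¹ᵁ U))).subschemeι ≫ (f ∣_ U)) := by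
  haveI : LocallyOfFinitePresentation f := inferInstance
  have hgy : ∀ v : Y, f.base (g₀.base v) = v := fun v => by
    rw [← Scheme.Hom.comp_apply, hg]
    rfl
  have hmem : ∀ v : Y, g₀.base v ∈ MoreMor.sectionComponents f g₀ := fun v => by
    show g₀.base v ∈ connectedComponentIn (f.base ⁻¹' {f.base (g₀.base v)}) (g₀.base (f.base (g₀.base v)))
    rw [hgy]
    exact mem_connectedComponentIn (hgy v)
  refine exists_proper_nhd_cons f (Groth.GeomComp.isLocallyConstructible_sectionComponents f g₀ hg)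
    (fun y' _ => ?_) (fun y' _ L _ m hm => ?_) (fun A _ _ _ a _ => ?_) hT
  · rw [sectionComponents_inter]
    exact isClopen_preimage_connectedComponentIn f (hgy y')
  · let σ : Spec (CommRingCat.of L) ⟶ pullback f m := pullback.lift (m ≫ g₀) (𝟙 _)
      (by rw [Category.assoc, hg, Category.comp_id, Category.id_comp])
    rw [← Groth.GrpschAbsch.SectionComp.preimage_sectionComponents hg (IsPullback.of_hasPullback f m)
      (pullback.lift_snd _ _ _ : σ ≫ pullback.snd f m = 𝟙 _) (pullback.lift_fst _ _ _)]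
    have huniv : MoreMor.sectionComponents (pullback.snd f m) σ =
        connectedComponentIn Set.univ (σ.base (closedPoint L)) := by
      ext w
      show w ∈ connectedComponentIn ((pullback.snd f m).base ⁻¹' {(pullback.snd f m).base w})
        (σ.base ((pullback.snd f m).base w)) ↔ _
      have : (pullback.snd f m).base ⁻¹' {(pullback.snd f m).base w} = Set.univ :=
        Set.eq_univ_of_forall fun v => Subsingleton.elim (α := ↥(Spec (CommRingCat.of L))) _ _
      rw [this, Subsingleton.elim (α := ↥(Spec (CommRingCat.of L))) ((pullback.snd f m).base w) (closedPoint L)]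
    rw [huniv]
    exact isPreconnected_connectedComponentIn
  · let σ : Spec (CommRingCat.of A) ⟶ pullback f a := pullback.lift (a ≫ g₀) (𝟙 _)
      (by rw [Category.assoc, hg, Category.comp_id, Category.id_comp])
    have hσ1 : σ ≫ pullback.fst f a = a ≫ g₀ := pullback.lift_fst ..
    have hσ2 : σ ≫ pullback.snd f a = 𝟙 _ := pullback.lift_snd ..
    have h2 : ∀ z, (pullback.snd f a).base (σ.base z) = z := fun z => by
      rw [← Scheme.Hom.comp_apply, hσ2]
      rfl
    have h1 : ∀ z, (pullback.fst f a).base (σ.base z) ∈ MoreMor.sectionComponents f g₀ := fun z => by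
      rw [← Scheme.Hom.comp_apply, hσ1]
      exact hmem _
    refine ⟨σ.base (⟨⊥, Ideal.isPrime_bot⟩ : PrimeSpectrum A), σ.base (closedPoint A),
      (IsLocalRing.specializes_closedPoint _).map σ.continuous, ?_, h1 _, h2 _, h1 _⟩
    rw [h2]
    exact fun he => IsDiscreteValuationRing.not_a_field A (congrArg PrimeSpectrum.asIdeal he).symm

/-- **EGA IV 15.7.10**: the union of the components along a section is closed and proper near a point
where the component is proper. -/
theorem exists_proper_nhd_section [IsSeparated f] [LocallyOfFinitePresentation f] [QuasiCompact f]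
    [QuasiSeparated f] (g₀ : Y ⟶ X) (hg : g₀ ≫ f = 𝟙 Y) (y : Y)
    (ho : IsOpen ((f.fiberι y).base ⁻¹' MoreMor.sectionComponents f g₀))
    (hT : IsProper (Scheme.Opens.ι (⟨(f.fiberι y).base ⁻¹' MoreMor.sectionComponents f g₀, ho⟩ : (f.fiber y).Opens) ≫
      f.fiberToSpecResidueField y)) :
    ∃ U : Y.Opens, y ∈ U ∧ ∃ hC : IsClosed ((f ⁻¹ᵁ U).ι.base ⁻¹' MoreMor.sectionComponents f g₀),
      IsProper ((Scheme.IdealSheafData.vanishingIdeal
        (⟨(f ⁻¹ᵁ U).ι.base ⁻¹' MoreMor.sectionComponents f g₀, hC⟩ : Closeds ↥(f ⁻¹ᵁ U))).subschemeι ≫ (f ∣_ U)) := by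
  obtain ⟨V, hV, hyV, -⟩ := exists_isAffineOpen_mem_and_subset (U := (⊤ : Y.Opens)) (Set.mem_univ y)
  let A : CommRingCat.{u} := Γ(Y, V)
  let f₁ : pullback f hV.fromSpec ⟶ (fgCone A).pt := pullback.snd f hV.fromSpec
  let g₁ : (fgCone A).pt ⟶ pullback f hV.fromSpec :=
    pullback.lift (hV.fromSpec ≫ g₀) (𝟙 _) (by rw [Category.assoc, hg, Category.comp_id]; exact (Category.id_comp _).symm)
  have hg₁ : g₁ ≫ f₁ = 𝟙 _ := pullback.lift_snd _ _ _
  haveI : LocallyOfFinitePresentation f₁ := MorphismProperty.pullback_snd _ _ inferInstance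
  haveI : QuasiCompact f₁ := MorphismProperty.pullback_snd _ _ inferInstance
  haveI : QuasiSeparated f₁ := MorphismProperty.pullback_snd _ _ inferInstance
  haveI hsep₁ : IsSeparated f₁ := MorphismProperty.pullback_snd _ _ inferInstance
  obtain ⟨k₀, M, s₀, hs₀, hcomp⟩ := Groth.GeomComp.exists_section_model f₁ g₁ hg₁
  obtain ⟨k, φ, hsep⟩ := spreads_isSeparated (fgSchemes A) (fgCone A) (isLimitFgCone A) M.hom
    (𝟙 ((fgSchemes A).obj k₀)) f₁ (𝟙 (fgCone A).pt) ((fgCone A).π.app k₀) M.map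
    (IsPullback.of_vert_isIso ⟨by rw [Category.comp_id, Category.id_comp]⟩) M.sq hsep₁
  -- the model at the later stage
  let N := M.pull φ
  haveI hNsep : IsSeparated N.hom := by
    let a := pullback.snd ((fgSchemes A).map φ) (𝟙 ((fgSchemes A).obj k₀))
    let e := pullback.fst ((fgSchemes A).map φ) (𝟙 ((fgSchemes A).obj k₀))
    have hea : e ≫ (fgSchemes A).map φ = a := by rw [pullback.condition, Category.comp_id]
    have he : inv e ≫ a = (fgSchemes A).map φ := by rw [← hea, IsIso.inv_hom_id_assoc]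
    have hbig : IsPullback (pullback.fst (pullback.snd M.hom a) (inv e) ≫ pullback.fst M.hom a)
        (pullback.snd (pullback.snd M.hom a) (inv e)) M.hom ((fgSchemes A).map φ) := by
      have key : ∀ m, m = inv e ≫ a → IsPullback (pullback.fst (pullback.snd M.hom a) (inv e) ≫ pullback.fst M.hom a)
          (pullback.snd (pullback.snd M.hom a) (inv e)) M.hom m := fun m hm => by
        subst hm
        exact (IsPullback.of_hasPullback (pullback.snd M.hom a) (inv e)).paste_horiz (IsPullback.of_hasPullback M.hom a)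
      exact key _ he.symm
    haveI : IsSeparated (pullback.snd M.hom a) := hsep
    have h1 : IsSeparated (pullback.snd (pullback.snd M.hom a) (inv e)) :=
      MorphismProperty.pullback_snd _ _ inferInstance
    have hN : IsPullback (M.proj φ) N.hom M.hom ((fgSchemes A).map φ) := (IsPullback.of_hasPullback _ _).flip
    rw [← hN.isoIsPullback_hom_snd _ _ hbig]
    exact MorphismProperty.comp_mem @IsSeparated _ _ inferInstance h1
  let s : (fgSchemes A).obj k ⟶ N.obj := pullback.lift (𝟙 _) ((fgSchemes A).map φ ≫ s₀)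
    (by rw [Category.assoc, hs₀, Category.id_comp, Category.comp_id])
  have hs : s ≫ N.hom = 𝟙 _ := pullback.lift_fst _ _ _
  have hcompk : g₁ ≫ N.map = (fgCone A).π.app k ≫ s := by
    apply pullback.hom_ext
    · show g₁ ≫ pullback.lift (f₁ ≫ (fgCone A).π.app k) M.map _ ≫ pullback.fst _ _ = _
      rw [pullback.lift_fst, ← Category.assoc, hg₁, Category.id_comp, Category.assoc]
      simp only [s, pullback.lift_fst, Category.comp_id]
    · show g₁ ≫ pullback.lift (f₁ ≫ (fgCone A).π.app k) M.map _ ≫ pullback.snd _ _ = _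
      rw [pullback.lift_snd, hcomp, Category.assoc]
      simp only [s, pullback.lift_snd]
      rw [← Category.assoc, (fgCone A).w]
  have e1 := Groth.GrpschAbsch.SectionComp.preimage_sectionComponents hg (IsPullback.of_hasPullback f hV.fromSpec)
    hg₁ (pullback.lift_fst _ _ _)
  have e2 := Groth.GrpschAbsch.SectionComp.preimage_sectionComponents hs N.sq hg₁ hcompk
  -- transfer the hypothesis
  obtain ⟨y₁, hy₁⟩ : y ∈ Set.range hV.fromSpec.base := hV.range_fromSpec.ge hyV
  have hopen : ∀ {X₀ Y₀ : Scheme.{u}} (f₀ : X₀ ⟶ Y₀) [LocallyOfFiniteType f₀] (σ₀ : Y₀ ⟶ X₀) (_ : σ₀ ≫ f₀ = 𝟙 _)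
      (v : Y₀), IsOpen ((f₀.fiberι v).base ⁻¹' MoreMor.sectionComponents f₀ σ₀) := fun f₀ _ σ₀ h₀ v => by
    rw [sectionComponents_inter]
    exact (isClopen_preimage_connectedComponentIn f₀ (by rw [← Scheme.Hom.comp_apply, h₀]; rfl)).isOpen
  have ho₁ := hopen f₁ g₁ hg₁ y₁
  let yk := ((fgCone A).π.app k).base y₁
  have hok := hopen N.hom s hs yk
  have h₁ : IsProper (Scheme.Opens.ι (⟨(f₁.fiberι y₁).base ⁻¹' ((pullback.fst f hV.fromSpec).base ⁻¹'
      MoreMor.sectionComponents f g₀), e1 ▸ ho₁⟩ : (f₁.fiber y₁).Opens) ≫ f₁.fiberToSpecResidueField y₁) :=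
    (isProper_piece_iff (IsPullback.of_hasPullback f hV.fromSpec) y₁ hy₁ _ ho (e1 ▸ ho₁)).2 hT
  have h₂ : IsProper (Scheme.Opens.ι (⟨(N.hom.fiberι yk).base ⁻¹' MoreMor.sectionComponents N.hom s, hok⟩ :
      (N.hom.fiber yk).Opens) ≫ N.hom.fiberToSpecResidueField yk) := by
    refine (isProper_piece_iff N.sq y₁ rfl _ hok (e2 ▸ ho₁)).1 ?_
    have key : ∀ (C C' : Set ↥(pullback f hV.fromSpec)) (_ : C = C') (hC : IsOpen ((f₁.fiberι y₁).base ⁻¹' C))
        (hC' : IsOpen ((f₁.fiberι y₁).base ⁻¹' C')),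
        IsProper (Scheme.Opens.ι (⟨_, hC⟩ : (f₁.fiber y₁).Opens) ≫ f₁.fiberToSpecResidueField y₁) →
        IsProper (Scheme.Opens.ι (⟨_, hC'⟩ : (f₁.fiber y₁).Opens) ≫ f₁.fiberToSpecResidueField y₁) := by
      rintro C _ rfl _ _ h
      exact h
    exact key _ _ (e1.symm.trans e2) _ _ h₁
  obtain ⟨Uk, hykU, hCk, hPk⟩ := exists_proper_nhd_section_noeth s hs yk hok h₂
  -- pull back to a neighbourhood of `y`
  let U : Y.Opens := hV.fromSpec ''ᵁ ((fgCone A).π.app k ⁻¹ᵁ Uk)
  have hyU : y ∈ U := ⟨y₁, hykU, hy₁⟩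
  have hUr : Set.range U.ι.base ⊆ Set.range hV.fromSpec.base := by
    rw [Scheme.Opens.range_ι]
    rintro _ ⟨w, -, rfl⟩
    exact ⟨w, rfl⟩
  let w := IsOpenImmersion.lift hV.fromSpec U.ι hUr
  have hw : w ≫ hV.fromSpec = U.ι := IsOpenImmersion.lift_fac ..
  let ι₁ : (f ⁻¹ᵁ U).toScheme ⟶ pullback f hV.fromSpec := pullback.lift (f ⁻¹ᵁ U).ι (f ∣_ U ≫ w)
    (by rw [Category.assoc, hw, morphismRestrict_ι])
  have hsq₁ : IsPullback ι₁ (f ∣_ U) f₁ w := by
    refine IsPullback.of_right ?_ (pullback.lift_snd _ _ _) (IsPullback.of_hasPullback f hV.fromSpec)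
    convert (isPullback_morphismRestrict f U).flip using 1
    · exact pullback.lift_fst _ _ _
    · exact hw
  have hwU : Set.range (w ≫ (fgCone A).π.app k).base ⊆ Set.range Uk.ι.base := by
    rw [Scheme.Opens.range_ι]
    rintro _ ⟨v, rfl⟩
    obtain ⟨v', hv', hve⟩ : U.ι.base v ∈ U := v.2
    rw [Scheme.Hom.comp_apply]
    rw [← hw, Scheme.Hom.comp_apply] at hve
    exact hV.fromSpec.isOpenEmbedding.injective hve ▸ hv'
  let h := IsOpenImmersion.lift Uk.ι (w ≫ (fgCone A).π.app k) hwU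
  have hh : h ≫ Uk.ι = w ≫ (fgCone A).π.app k := IsOpenImmersion.lift_fac ..
  have hbig : IsPullback (ι₁ ≫ N.map) (f ∣_ U) N.hom (h ≫ Uk.ι) := by
    rw [hh]
    exact hsq₁.paste_horiz N.sq
  have hrN : Set.range (ι₁ ≫ N.map).base ⊆ Set.range (N.hom ⁻¹ᵁ Uk).ι.base := by
    rw [Scheme.Opens.range_ι]
    rintro _ ⟨v, rfl⟩
    show N.hom.base ((ι₁ ≫ N.map).base v) ∈ Uk
    rw [← Scheme.Hom.comp_apply, hbig.w, Scheme.Hom.comp_apply, Scheme.Hom.comp_apply]
    exact (h.base _).2
  let t := IsOpenImmersion.lift (N.hom ⁻¹ᵁ Uk).ι (ι₁ ≫ N.map) hrN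
  have ht : t ≫ (N.hom ⁻¹ᵁ Uk).ι = ι₁ ≫ N.map := IsOpenImmersion.lift_fac ..
  have hsqt : IsPullback t (f ∣_ U) (N.hom ∣_ Uk) h := by
    refine IsPullback.of_right (t := isPullback_morphismRestrict N.hom Uk |>.flip) ?_ ?_
    · rw [ht]; exact hbig
    · rw [← cancel_mono Uk.ι, Category.assoc, morphismRestrict_ι, reassoc_of% ht, Category.assoc,
        ← hbig.w, Category.assoc]
  obtain ⟨hC', hP'⟩ := properClosed_pullback hsqt hCk hPk
  have hset : (f ⁻¹ᵁ U).ι.base ⁻¹' MoreMor.sectionComponents f g₀ =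
      t.base ⁻¹' ((N.hom ⁻¹ᵁ Uk).ι.base ⁻¹' MoreMor.sectionComponents N.hom s) := by
    ext v
    have he := congrArg (fun S : Set ↥(pullback f hV.fromSpec) => ι₁.base v ∈ S) (e1.symm.trans e2)
    simp only [Set.mem_preimage, ← Scheme.Hom.comp_apply] at he ⊢
    rw [ht]
    rw [show ι₁ ≫ pullback.fst f hV.fromSpec = (f ⁻¹ᵁ U).ι from pullback.lift_fst ..] at he
    exact Iff.of_eq he
  have key : ∀ C : Set ↥((f ⁻¹ᵁ U).toScheme), C = t.base ⁻¹' ((N.hom ⁻¹ᵁ Uk).ι.base ⁻¹'
      MoreMor.sectionComponents N.hom s) → ∃ hC : IsClosed C, IsProper ((Scheme.IdealSheafData.vanishingIdeal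
        (X := (f ⁻¹ᵁ U).toScheme) (⟨C, hC⟩ : Closeds ↥((f ⁻¹ᵁ U).toScheme))).subschemeι ≫ (f ∣_ U)) := by
    rintro C rfl
    exact ⟨hC', hP'⟩
  exact ⟨U, hyU, key _ hset⟩

end Groth.EGA43Topo.ProperConn
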