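import Groth.Agent.CMMor.QFChart
import Groth.Agent.Misc6.Equidim
import Groth.Agent.FibreDim.Equidim
import Groth.Agent.FibreDim.OpenFibre
import Groth.Agent.FibreDim.Composition
import Groth.Agent.EGA43Topo.DVRCriterion
import Groth.Agent.EGA43Topo.UnibranchApps
import Groth.Agent.GrpschAbsch.AffineSpaceExtra

/-!
# Equidimensionality through quasi-finite morphisms to affine spaces (EGA IV 13.3.1)
-/

universe u

set_option linter.style.haveILetI false

open CategoryTheory CategoryTheory.Limits AlgebraicGeometry TopologicalSpace Topology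

namespace Groth.EGA43Topo

open Groth.FibreDim Groth.Misc6.Equidim

variable {X Y S : Scheme.{u}}

/-- Fibres of locally quasi-finite morphisms have no specializations. -/
lemma eq_of_specializes_of_lqf (g : X ⟶ Y) [LocallyQuasiFinite g] {t t' : X}
    (h1 : g.base t' = g.base t) (h2 : t' ⤳ t) : t' = t := by
  obtain ⟨a, ha⟩ : t ∈ Set.range (g.fiberι (g.base t)).base := (g.range_fiberι _).ge rfl
  obtain ⟨a', ha'⟩ : t' ∈ Set.range (g.fiberι (g.base t)).base := (g.range_fiberι _).ge h1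
  have h3 : a' ⤳ a := (g.fiberι _).isEmbedding.toIsInducing.specializes_iff.1 (by rw [ha, ha']; exact h2)
  rw [← ha, ← ha', specializes_iff_eq.1 h3]

lemma fibreDimAt_of_lqf (g : X ⟶ Y) [LocallyQuasiFinite g] [LocallyOfFiniteType g] (t : X) :
    FlatMor.fibreDimAt g t = (0 : WithBot ℕ∞) := by
  rw [(fibreDimAt_eq_height_of_max g fun _ h1 h2 => eq_of_specializes_of_lqf g h1 h2).1,
    Order.height_eq_zero.2 fun b hb => le_of_eq (specializes_iff_eq.1 hb)]
  rfl

/-- Heights in fibres are unchanged by locally quasi-finite morphisms. -/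
theorem fh_comp_of_lqf (g : X ⟶ Y) (p : Y ⟶ S) [LocallyQuasiFinite g] [LocallyOfFiniteType g]
    [LocallyOfFiniteType p] (x : X) : fh (g ≫ p) x = fh p (g.base x) := by
  obtain ⟨s, a, rfl⟩ : ∃ (s : S) (a : (g ≫ p).fiber s), ((g ≫ p).fiberι s).base a = x :=
    ⟨_, _, (g ≫ p).fiberι_asFiber x⟩
  let φ := Groth.FibreDim.fiberMap g p s
  haveI : LocallyOfFiniteType ((g ≫ p).fiberToSpecResidueField s) :=
    inferInstanceAs (LocallyOfFiniteType (pullback.snd (g ≫ p) (S.fromSpecResidueField s)))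
  haveI : LocallyOfFiniteType (p.fiberToSpecResidueField s) :=
    inferInstanceAs (LocallyOfFiniteType (pullback.snd p (S.fromSpecResidueField s)))
  have hφ : ∀ b, (p.fiberι s).base (φ.base b) = g.base (((g ≫ p).fiberι s).base b) := fun b => by
    rw [← Scheme.Hom.comp_apply, fiberMap_fiberι]; rfl
  have h1 := Groth.Variety2.Dim.height_fiber_add (k := S.residueField s) ((g ≫ p).fiberToSpecResidueField s)
    (p.fiberToSpecResidueField s) φ (fiberMap_toSpec g p s) (φ.base a) (φ.asFiber a)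
  have h0 : Order.height (φ.asFiber a) = 0 := Order.height_eq_zero.2 fun b hb => by
    refine le_of_eq ((φ.fiberι _).isEmbedding.injective (((g ≫ p).fiberι s).isEmbedding.injective ?_))
    refine eq_of_specializes_of_lqf g ?_ (((show φ.asFiber a ⤳ b from hb).map
      (φ.fiberι _).continuous).map ((g ≫ p).fiberι s).continuous)
    rw [← hφ, ← hφ, apply_fiberι φ, apply_fiberι φ]
  rw [h0, zero_add, φ.fiberι_asFiber] at h1
  rw [fh_fiberι, ← hφ, fh_fiberι]
  exact h1.symm

/-- a ⇒ b of EGA IV 13.3.1. -/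
theorem exists_toAffineSpace_of_isEquidimAt (f : X ⟶ Y) [LocallyOfFiniteType f] {x : X}
    (h : EGA43.IsEquidimAt f x) :
    ∃ (e : ℕ) (U : X.Opens) (g : (U : Scheme.{u}) ⟶ 𝔸(ULift.{u} (Fin e); Y)),
      x ∈ U ∧ g ≫ (𝔸(ULift.{u} (Fin e); Y) ↘ Y) = U.ι ≫ f ∧ LocallyQuasiFinite g ∧
      ∀ Z ∈ irreducibleComponents (↥U : Type u),
        closure (g.base '' Z) ∈ irreducibleComponents (↥𝔸(ULift.{u} (Fin e); Y) : Type u) := by
  obtain ⟨e, U₀, hxU₀, h1, h2⟩ := (isEquidimAt_iff f x).1 h
  obtain ⟨U₁, g₁, hxU₁, hg₁, hlqf⟩ := Groth.CMMor.exists_lqf_toAffineSpace f x e (h2 x hxU₀).le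
  let p := 𝔸(ULift.{u} (Fin e); Y) ↘ Y
  let U := U₀ ⊓ U₁
  let g := X.homOfLE (inf_le_right : U ≤ U₁) ≫ g₁
  have hg : g ≫ p = U.ι ≫ f := by
    show (_ ≫ g₁) ≫ p = _
    rw [Category.assoc, hg₁, ← Category.assoc, Scheme.homOfLE_ι]
  haveI : LocallyQuasiFinite g := inferInstanceAs (LocallyQuasiFinite (_ ≫ _))
  haveI : LocallyOfFiniteType p := by
    haveI : Smooth p := Groth.GrpschAbsch.smooth_affineSpace _ Y
    infer_instance
  haveI : LocallyOfFiniteType (g ≫ p) := hg ▸ inferInstance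
  haveI : LocallyOfFiniteType g := locallyOfFiniteType_of_comp g p
  refine ⟨e, U, g, ⟨hxU₀, hxU₁⟩, hg, inferInstance, fun Z₀ hZ₀ => ?_⟩
  let Z : Set U.toScheme := Z₀
  have hZ : Z ∈ irreducibleComponents U.toScheme := hZ₀
  show closure (g.base '' Z) ∈ _
  have hgen := hZ.1.isGenericPoint_genericPoint (isClosed_of_mem_irreducibleComponents Z hZ)
  generalize hZ.1.genericPoint = η at hgen
  rw [← hgen.def] at hZ ⊢
  rw [closure_image_closure_singleton]
  have hm : IsMax η := isMax_of_mem_genericPoints hZ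
  have hm' : IsMax (U.ι.base η) := (isMax_iff_of_openImmersion U η).1 hm
  have hfmax := (h1 _ η.2.1 hm').1
  have hpg : p.base (g.base η) = f.base (U.ι.base η) := by
    rw [← Scheme.Hom.comp_apply, hg]; rfl
  have he : fh p (g.base η) = e := by
    rw [← fh_comp_of_lqf g p η]
    have := fibreDimAt_eq_fh_of_isMax (g ≫ p) hm
    rw [show FlatMor.fibreDimAt (g ≫ p) η = FlatMor.fibreDimAt (U.ι ≫ f) η by rw [hg],
      fibreDimAt_openImmersion_comp, h2 (U.ι.base η) η.2.1] at this
    exact_mod_cast this.symm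
  refine mem_irreducibleComponents_of_isMax fun a ha => ?_
  have hpa : p.base a = p.base (g.base η) :=
    (((show a ⤳ g.base η from ha).map p.continuous).antisymm
      (show p.base (g.base η) ⤳ p.base a from hpg ▸ hfmax (hpg ▸ (show a ⤳ g.base η from ha).map p.continuous))).eq
  by_contra hne
  obtain ⟨za, hza⟩ : a ∈ Set.range (p.fiberι (p.base (g.base η))).base := (p.range_fiberι _).ge hpa
  have hlt : p.asFiber (g.base η) < za := by
    refine lt_of_le_not_ge ((le_iff_of_isEmbedding _ (p.fiberι _).isEmbedding _ _).1 ?_)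
      fun hle => hne ?_
    · rw [p.fiberι_asFiber, hza]; exact ha
    · have := (le_iff_of_isEmbedding _ (p.fiberι _).isEmbedding _ _).2 hle
      rwa [p.fiberι_asFiber, hza] at this
  have hfin : Order.height (p.asFiber (g.base η)) < ⊤ := by
    rw [show Order.height (p.asFiber (g.base η)) = e from he]; exact ENat.coe_lt_top e
  have hlt' := Order.height_strictMono hlt hfin
  rw [show Order.height (p.asFiber (g.base η)) = e from he] at hlt'
  have hle := fh_le_fibreDimAt p a
  rw [← hza, fh_fiberι, Groth.CMMor.fibreDimAt_affineSpace] at hle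
  exact (lt_of_lt_of_le hlt' (by exact_mod_cast hle)).ne rfl

/-- b ⇒ a of EGA IV 13.3.1, over a locally Noetherian base. -/
theorem isEquidimAt_of_toAffineSpace [IsLocallyNoetherian Y] (f : X ⟶ Y) [LocallyOfFiniteType f] {x : X}
    {e : ℕ} {U : X.Opens} (g : (U : Scheme.{u}) ⟶ 𝔸(ULift.{u} (Fin e); Y)) (hxU : x ∈ U)
    (hg : g ≫ (𝔸(ULift.{u} (Fin e); Y) ↘ Y) = U.ι ≫ f) [LocallyQuasiFinite g]
    (hcomp : ∀ Z ∈ irreducibleComponents (↥U : Type u),
      closure (g.base '' Z) ∈ irreducibleComponents (↥𝔸(ULift.{u} (Fin e); Y) : Type u)) :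
    EGA43.IsEquidimAt f x := by
  classical
  let p := 𝔸(ULift.{u} (Fin e); Y) ↘ Y
  haveI : Smooth p := Groth.GrpschAbsch.smooth_affineSpace _ Y
  haveI : LocallyOfFiniteType (g ≫ p) := hg ▸ inferInstance
  haveI : LocallyOfFiniteType g := locallyOfFiniteType_of_comp g p
  haveI : IsLocallyNoetherian X := LocallyOfFiniteType.isLocallyNoetherian f
  have key : ∀ η : U.toScheme, IsMax η →
      IsMax (f.base (U.ι.base η)) ∧ (e : WithBot ℕ∞) ≤ FlatMor.fibreDimAt f (U.ι.base η) := fun η hη => by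
    have hgmax : IsMax (g.base η) := by
      have := hcomp _ (mem_irreducibleComponents_of_isMax (Z := U.toScheme) hη)
      rw [closure_image_closure_singleton] at this
      exact isMax_of_mem_genericPoints this
    have hpg : p.base (g.base η) = f.base (U.ι.base η) := by
      rw [← Scheme.Hom.comp_apply, hg]; rfl
    refine ⟨hpg ▸ fun w hw => ?_, ?_⟩
    · obtain ⟨a, ha, rfl⟩ := exists_specializes_of_isOpenAt (p := p) (x := g.base η)
        (fun V hV => p.isOpenMap.image_mem_nhds hV) (show w ⤳ p.base (g.base η) from hw)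
      exact ((show g.base η ⤳ a from hgmax ha).map p.continuous)
    · rw [← fibreDimAt_openImmersion_comp U.ι f η, ← hg]
      refine le_trans ?_ (fh_le_fibreDimAt (g ≫ p) η)
      rw [fh_comp_of_lqf g p η, ← fibreDimAt_eq_fh_of_isMax p hgmax, Groth.CMMor.fibreDimAt_affineSpace]
  obtain ⟨V, hV, hxV, hVU⟩ := exists_isAffineOpen_mem_and_subset (U := U) (x := x) hxU
  haveI : IsAffine V.toScheme := hV
  haveI : IsNoetherian V.toScheme := {}
  let M : Set V.toScheme := {v | IsMax v}
  have hM : M.Finite := by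
    refine Set.Finite.of_finite_image (f := fun v => closure {v}) ?_ fun a _ b _ hab =>
      ((specializes_iff_mem_closure.2 (hab.ge (subset_closure rfl))).antisymm
        (specializes_iff_mem_closure.2 (hab.le (subset_closure rfl)))).eq
    refine (NoetherianSpace.finite_irreducibleComponents).subset ?_
    rintro _ ⟨v, hv, rfl⟩
    exact mem_irreducibleComponents_of_isMax hv
  let C : Set X := ⋃ v ∈ M ∩ {v | ¬ V.ι.base v ⤳ x}, closure {V.ι.base v}
  have hC : IsClosed C := (hM.inter_of_left _).isClosed_biUnion fun _ _ => isClosed_closure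
  refine (isEquidimAt_iff f x).2 ⟨e, V ⊓ ⟨Cᶜ, hC.isOpen_compl⟩, ⟨hxV, fun hxC => ?_⟩, ?_, ?_⟩
  · obtain ⟨v, hv, hxv⟩ := Set.mem_iUnion₂.1 hxC
    exact hv.2 (specializes_iff_mem_closure.2 hxv)
  · intro η hη hmax
    refine ⟨(key ⟨η, hVU hη.1⟩ ((isMax_iff_of_openImmersion U _).2 hmax)).1, Specializes.map ?_ f.continuous⟩
    by_contra hc
    exact hη.2 (Set.mem_iUnion₂.2 ⟨⟨η, hη.1⟩, ⟨(isMax_iff_of_openImmersion V _).2 hmax, hc⟩, subset_closure rfl⟩)
  · intro x' hx'
    let x'' : U.toScheme := ⟨x', hVU hx'.1⟩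
    refine le_antisymm ?_ ?_
    · rw [show x' = U.ι.base x'' from rfl, ← fibreDimAt_openImmersion_comp U.ι f x'', ← hg]
      refine (fibreDimAt_comp g p x'').1.trans_eq ?_
      rw [fibreDimAt_of_lqf, Groth.CMMor.fibreDimAt_affineSpace, zero_add]
    · obtain ⟨η, hη, hηx⟩ := exists_max_specializes (X := U.toScheme) x''
      exact (key η hη).2.trans (Groth.FibreDim.fibreDimAt_le_of_specializes f (hηx.map U.ι.continuous))

end Groth.EGA43Topo
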