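import Mathlib.Topology.Constructible
import Mathlib.Topology.LocallyClosed
import Mathlib.Topology.NoetherianSpace
import Mathlib.Topology.JacobsonSpace

/-!
# Quasi-constructible sets, very dense subsets and quasi-homeomorphisms (EGA IV §10.1-10.2)
-/

open Set TopologicalSpace Topology
open scoped Set.Notation

namespace Groth.EGA43Topo

universe u v

variable {X : Type u} {Y : Type v} [TopologicalSpace X] [TopologicalSpace Y]

/-- A finite union of locally closed subsets. -/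
def IsQC (Z : Set X) : Prop :=
  ∃ T : Set (Set X), T.Finite ∧ (∀ t ∈ T, IsLocallyClosed t) ∧ Z = ⋃₀ T

/-- Locally a finite union of locally closed subsets. -/
def IsLQC (Z : Set X) : Prop :=
  ∀ x : X, ∃ U : Set X, IsOpen U ∧ x ∈ U ∧
    ∃ T : Set (Set X), T.Finite ∧ (∀ t ∈ T, IsLocallyClosed t) ∧ U ∩ Z = ⋃₀ T

lemma isLQC_iff {Z : Set X} :
    IsLQC Z ↔ ∀ x : X, ∃ U : Set X, IsOpen U ∧ x ∈ U ∧ IsQC (U ∩ Z) := Iff.rfl

lemma IsQC.of_isLocallyClosed {Z : Set X} (h : IsLocallyClosed Z) : IsQC Z :=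
  ⟨{Z}, finite_singleton Z, by simp [h], by simp⟩

lemma IsQC.empty : IsQC (∅ : Set X) := ⟨∅, finite_empty, by simp, by simp⟩

lemma IsQC.univ : IsQC (univ : Set X) := .of_isLocallyClosed isOpen_univ.isLocallyClosed

lemma IsQC.union {Z Z' : Set X} (h : IsQC Z) (h' : IsQC Z') : IsQC (Z ∪ Z') := by
  obtain ⟨T, hT, hT', rfl⟩ := h
  obtain ⟨S, hS, hS', rfl⟩ := h'
  exact ⟨T ∪ S, hT.union hS, fun t ht => ht.elim (hT' t) (hS' t), sUnion_union T S |>.symm⟩

lemma IsQC.sUnion {T : Set (Set X)} (hT : T.Finite) (h : ∀ t ∈ T, IsQC t) : IsQC (⋃₀ T) := by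
  induction T, hT using Set.Finite.induction_on with
  | empty => simpa using IsQC.empty
  | @insert a s _ _ ih =>
    rw [sUnion_insert]
    exact (h a (mem_insert _ _)).union (ih fun t ht => h t (mem_insert_of_mem _ ht))

lemma IsQC.inter {Z Z' : Set X} (h : IsQC Z) (h' : IsQC Z') : IsQC (Z ∩ Z') := by
  obtain ⟨T, hT, hT', rfl⟩ := h
  obtain ⟨S, hS, hS', rfl⟩ := h'
  refine ⟨image2 (· ∩ ·) T S, hT.image2 _ hS, ?_, ?_⟩
  · rintro t ⟨a, ha, b, hb, rfl⟩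
    exact (hT' a ha).inter (hS' b hb)
  · ext x
    constructor
    · rintro ⟨⟨a, ha, hxa⟩, ⟨b, hb, hxb⟩⟩
      exact ⟨a ∩ b, mem_image2_of_mem ha hb, hxa, hxb⟩
    · rintro ⟨t, ⟨a, ha, b, hb, rfl⟩, hxa, hxb⟩
      exact ⟨⟨a, ha, hxa⟩, ⟨b, hb, hxb⟩⟩

lemma IsQC.compl {Z : Set X} (h : IsQC Z) : IsQC Zᶜ := by
  obtain ⟨T, hT, hT', rfl⟩ := h
  induction T, hT using Set.Finite.induction_on with
  | empty => simpa using IsQC.univ
  | @insert a s _ _ ih =>
    rw [sUnion_insert, compl_union]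
    refine IsQC.inter ?_ (ih fun t ht => hT' t (mem_insert_of_mem _ ht))
    obtain ⟨A, F, hA, hF, rfl⟩ := hT' a (mem_insert _ _)
    rw [compl_inter]
    exact (IsQC.of_isLocallyClosed hA.isClosed_compl.isLocallyClosed).union
      (IsQC.of_isLocallyClosed hF.isOpen_compl.isLocallyClosed)

lemma IsQC.isLQC {Z : Set X} (h : IsQC Z) : IsLQC Z :=
  isLQC_iff.2 fun _ => ⟨Set.univ, isOpen_univ, trivial, by simpa using h⟩

lemma IsLQC.of_isLocallyClosed {Z : Set X} (h : IsLocallyClosed Z) : IsLQC Z :=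
  (IsQC.of_isLocallyClosed h).isLQC

lemma IsLQC.of_isOpen {Z : Set X} (h : IsOpen Z) : IsLQC Z := .of_isLocallyClosed h.isLocallyClosed

lemma IsLQC.inter {Z Z' : Set X} (h : IsLQC Z) (h' : IsLQC Z') : IsLQC (Z ∩ Z') := by
  refine isLQC_iff.2 fun x => ?_
  obtain ⟨U, hU, hxU, hZ⟩ := isLQC_iff.1 h x
  obtain ⟨V, hV, hxV, hZ'⟩ := isLQC_iff.1 h' x
  refine ⟨U ∩ V, hU.inter hV, ⟨hxU, hxV⟩, ?_⟩
  rw [inter_inter_inter_comm]
  exact hZ.inter hZ'

lemma IsLQC.compl {Z : Set X} (h : IsLQC Z) : IsLQC Zᶜ := by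
  refine isLQC_iff.2 fun x => ?_
  obtain ⟨U, hU, hxU, hZ⟩ := isLQC_iff.1 h x
  refine ⟨U, hU, hxU, ?_⟩
  have : U ∩ Zᶜ = U ∩ (U ∩ Z)ᶜ := by ext; simp +contextual
  rw [this]
  exact (IsQC.of_isLocallyClosed hU.isLocallyClosed).inter hZ.compl

lemma IsLQC.sdiff {Z Z' : Set X} (h : IsLQC Z) (h' : IsLQC Z') : IsLQC (Z \ Z') :=
  h.inter h'.compl

lemma IsLQC.union {Z Z' : Set X} (h : IsLQC Z) (h' : IsLQC Z') : IsLQC (Z ∪ Z') := by
  simpa [compl_inter] using (h.compl.inter h'.compl).compl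

lemma IsLQC.exists_isLocallyClosed_subset {Z : Set X} (h : IsLQC Z) {z : X} (hz : z ∈ Z) :
    ∃ t, IsLocallyClosed t ∧ z ∈ t ∧ t ⊆ Z := by
  obtain ⟨U, hU, hzU, T, -, hT, hUZ⟩ := h z
  obtain ⟨t, ht, hzt⟩ : z ∈ ⋃₀ T := hUZ ▸ ⟨hzU, hz⟩
  exact ⟨t, hT t ht, hzt, (subset_sUnion_of_mem ht).trans (hUZ ▸ inter_subset_right)⟩

/-- An inducing map pulls locally closed sets onto all locally closed sets. -/
lemma IsLQC.preimage {f : X → Y} (hf : Continuous f) {Z : Set Y} (h : IsLQC Z) :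
    IsLQC (f ⁻¹' Z) := by
  intro x
  obtain ⟨U, hU, hxU, T, hT, hT', hUZ⟩ := h (f x)
  refine ⟨f ⁻¹' U, hU.preimage hf, hxU, (f ⁻¹' ·) '' T, hT.image _, ?_, ?_⟩
  · rintro _ ⟨t, ht, rfl⟩
    exact (hT' t ht).preimage hf
  · rw [← preimage_inter, hUZ, sUnion_image, preimage_sUnion]

lemma IsQC.preimage {f : X → Y} (hf : Continuous f) {Z : Set Y} (h : IsQC Z) : IsQC (f ⁻¹' Z) := by
  obtain ⟨T, hT, hT', rfl⟩ := h
  refine ⟨(f ⁻¹' ·) '' T, hT.image _, ?_, ?_⟩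
  · rintro _ ⟨t, ht, rfl⟩
    exact (hT' t ht).preimage hf
  · rw [sUnion_image, preimage_sUnion]

/-- The formulation of `IsLQC` through the subspace topology. -/
lemma isLQC_iff_preimage_val {Z : Set X} :
    IsLQC Z ↔ ∀ x : X, ∃ V : Set X, IsOpen V ∧ x ∈ V ∧ IsQC (V ↓∩ Z) := by
  constructor
  · intro h x
    obtain ⟨U, hU, hxU, hUZ⟩ := isLQC_iff.1 h x
    refine ⟨U, hU, hxU, ?_⟩
    convert! hUZ.preimage continuous_subtype_val using 1
    ext y
    simp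
  · intro h
    refine isLQC_iff.2 fun x => ?_
    obtain ⟨V, hV, hxV, T, hT, hT', hVZ⟩ := h x
    refine ⟨V, hV, hxV, (Subtype.val '' ·) '' T, hT.image _, ?_, ?_⟩
    · rintro _ ⟨t, ht, rfl⟩
      refine (hT' t ht).image IsEmbedding.subtypeVal.isInducing ?_
      rw [Subtype.range_coe]
      exact hV.isLocallyClosed
    · rw [← image_sUnion, ← hVZ, Subtype.image_preimage_coe]

lemma isQC_of_isConstructible {Z : Set X} (h : IsConstructible Z) : IsQC Z := by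
  induction h using IsConstructible.empty_union_induction with
  | open_retrocompact U hU _ => exact .of_isLocallyClosed hU.isLocallyClosed
  | union s _ t _ hs ht => exact hs.union ht
  | compl s _ hs => exact hs.compl

lemma isLQC_of_isLocallyConstructible {Z : Set X} (h : IsLocallyConstructible Z) : IsLQC Z := by
  refine isLQC_iff_preimage_val.2 fun x => ?_
  obtain ⟨U, hxU, hU, hUZ⟩ := h x
  exact ⟨U, hU, mem_of_mem_nhds hxU, isQC_of_isConstructible hUZ⟩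

/-- Very dense subset. -/
def IsVeryDense (X₀ : Set X) : Prop :=
  ∀ Z : Set X, IsLocallyClosed Z → Z.Nonempty → (Z ∩ X₀).Nonempty

lemma IsVeryDense.inter_nonempty {X₀ Z : Set X} (h : IsVeryDense X₀) (hZ : IsLQC Z)
    (hne : Z.Nonempty) : (Z ∩ X₀).Nonempty := by
  obtain ⟨z, hz⟩ := hne
  obtain ⟨t, ht, hzt, htZ⟩ := hZ.exists_isLocallyClosed_subset hz
  exact (h t ht ⟨z, hzt⟩).mono (inter_subset_inter_left _ htZ)

lemma IsVeryDense.eq_of_inter_eq {X₀ Z Z' : Set X} (h : IsVeryDense X₀) (hZ : IsLQC Z)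
    (hZ' : IsLQC Z') (he : Z ∩ X₀ = Z' ∩ X₀) : Z = Z' := by
  have key : ∀ A B : Set X, IsLQC A → IsLQC B → A ∩ X₀ = B ∩ X₀ → A ⊆ B := by
    intro A B hA hB he a ha
    by_contra hab
    obtain ⟨z, ⟨hzA, hzB⟩, hz⟩ := h.inter_nonempty (hA.sdiff hB) ⟨a, ha, hab⟩
    exact hzB (he ▸ ⟨hzA, hz⟩ : z ∈ B ∩ X₀).1
  exact (key _ _ hZ hZ' he).antisymm (key _ _ hZ' hZ he.symm)

lemma IsVeryDense.isLocallyClosed_of_open_inter {X₀ : Set X}
    (h : ∀ U V : Set X, IsOpen U → IsOpen V → U ∩ X₀ = V ∩ X₀ → U = V) : IsVeryDense X₀ := by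
  intro Z hZ hne
  obtain ⟨U, F, hU, hF, rfl⟩ := hZ
  by_contra hempty
  rw [not_nonempty_iff_eq_empty] at hempty
  have : U = U ∩ Fᶜ := by
    refine h _ _ hU (hU.inter hF.isOpen_compl) ?_
    ext x
    refine ⟨fun hx => ⟨⟨hx.1, fun hxF => ?_⟩, hx.2⟩, fun hx => ⟨hx.1.1, hx.2⟩⟩
    exact eq_empty_iff_forall_notMem.1 hempty x ⟨⟨hx.1, hxF⟩, hx.2⟩
  obtain ⟨x, hxU, hxF⟩ := hne
  exact (this ▸ hxU : x ∈ U ∩ Fᶜ).2 hxF

/-- Quasi-homeomorphism. -/
structure QH (f : X → Y) : Prop where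
  cont : Continuous f
  inj : ∀ U₁ U₂ : Set Y, IsOpen U₁ → IsOpen U₂ → f ⁻¹' U₁ = f ⁻¹' U₂ → U₁ = U₂
  surj : ∀ V : Set X, IsOpen V → ∃ U : Set Y, IsOpen U ∧ f ⁻¹' U = V

namespace QH

lemma of_bijective {f : X → Y} (hf : Continuous f)
    (h : Function.Bijective (fun U : Opens Y =>
      (⟨f ⁻¹' (U : Set Y), U.isOpen.preimage hf⟩ : Opens X))) : QH f where
  cont := hf
  inj U₁ U₂ h₁ h₂ he :=
    congrArg SetLike.coe (h.1 (a₁ := ⟨U₁, h₁⟩) (a₂ := ⟨U₂, h₂⟩) (Opens.ext he))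
  surj V hV := by
    obtain ⟨U, hU⟩ := h.2 ⟨V, hV⟩
    exact ⟨U, U.isOpen, congrArg SetLike.coe hU⟩

lemma bijective {f : X → Y} (h : QH f) : Function.Bijective (fun U : Opens Y =>
      (⟨f ⁻¹' (U : Set Y), U.isOpen.preimage h.cont⟩ : Opens X)) := by
  refine ⟨fun U₁ U₂ he => Opens.ext (h.inj _ _ U₁.isOpen U₂.isOpen (congrArg SetLike.coe he)),
    fun V => ?_⟩
  obtain ⟨U, hU, hUV⟩ := h.surj V V.isOpen
  exact ⟨⟨U, hU⟩, Opens.ext hUV⟩

lemma isVeryDense_range {f : X → Y} (h : QH f) : IsVeryDense (range f) := by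
  refine IsVeryDense.isLocallyClosed_of_open_inter fun U V hU hV he => h.inj U V hU hV ?_
  rw [← preimage_inter_range, he, preimage_inter_range]

lemma eq_of_preimage_eq {f : X → Y} (h : QH f) {Z Z' : Set Y} (hZ : IsLQC Z) (hZ' : IsLQC Z')
    (he : f ⁻¹' Z = f ⁻¹' Z') : Z = Z' := by
  refine h.isVeryDense_range.eq_of_inter_eq hZ hZ' ?_
  rw [← image_preimage_eq_inter_range, he, image_preimage_eq_inter_range]

lemma exists_isClosed {f : X → Y} (h : QH f) {F : Set X} (hF : IsClosed F) :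
    ∃ G : Set Y, IsClosed G ∧ f ⁻¹' G = F := by
  obtain ⟨U, hU, hUF⟩ := h.surj Fᶜ hF.isOpen_compl
  exact ⟨Uᶜ, hU.isClosed_compl, by rw [preimage_compl, hUF, compl_compl]⟩

lemma exists_isLocallyClosed {f : X → Y} (h : QH f) {Z : Set X} (hZ : IsLocallyClosed Z) :
    ∃ Z' : Set Y, IsLocallyClosed Z' ∧ f ⁻¹' Z' = Z := by
  obtain ⟨V, F, hV, hF, rfl⟩ := hZ
  obtain ⟨U, hU, rfl⟩ := h.surj V hV
  obtain ⟨G, hG, rfl⟩ := h.exists_isClosed hF
  exact ⟨U ∩ G, ⟨U, G, hU, hG, rfl⟩, rfl⟩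

lemma exists_isQC {f : X → Y} (h : QH f) {Z : Set X} (hZ : IsQC Z) :
    ∃ Z' : Set Y, IsQC Z' ∧ f ⁻¹' Z' = Z := by
  obtain ⟨T, hT, hT', rfl⟩ := hZ
  induction T, hT using Set.Finite.induction_on with
  | empty => exact ⟨∅, .empty, by simp⟩
  | @insert a s _ _ ih =>
    obtain ⟨A, hA, hA'⟩ := h.exists_isLocallyClosed (hT' a (mem_insert _ _))
    obtain ⟨B, hB, hB'⟩ := ih fun t ht => hT' t (mem_insert_of_mem _ ht)
    exact ⟨A ∪ B, (IsQC.of_isLocallyClosed hA).union hB,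
      by rw [preimage_union, hA', hB', sUnion_insert]⟩

lemma exists_isLQC {f : X → Y} (h : QH f) {Z : Set X} (hZ : IsLQC Z) :
    ∃ Z' : Set Y, IsLQC Z' ∧ f ⁻¹' Z' = Z := by
  choose V hV hxV hVZ using isLQC_iff.1 hZ
  choose U hU hUV using fun x => h.surj (V x) (hV x)
  choose W hW hWV using fun x => h.exists_isQC (hVZ x)
  have hWU : ∀ x, IsQC (U x ∩ W x) := fun x =>
    (IsQC.of_isLocallyClosed (hU x).isLocallyClosed).inter (hW x)
  have hcov : ⋃ x, U x = Set.univ := by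
    refine h.inj _ _ (isOpen_iUnion hU) isOpen_univ ?_
    refine eq_univ_of_forall fun x => ?_
    rw [preimage_iUnion]
    exact mem_iUnion.2 ⟨x, (hUV x).symm ▸ hxV x⟩
  refine ⟨⋃ x, U x ∩ W x, isLQC_iff.2 fun y => ?_, ?_⟩
  · obtain ⟨x, hx⟩ := mem_iUnion.1 (hcov.symm ▸ mem_univ y : y ∈ ⋃ x, U x)
    refine ⟨U x, hU x, hx, ?_⟩
    have : U x ∩ ⋃ z, U z ∩ W z = U x ∩ W x := by
      refine Subset.antisymm ?_ fun w hw => ⟨hw.1, mem_iUnion.2 ⟨x, hw⟩⟩
      rintro w ⟨hwx, hw⟩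
      obtain ⟨z, hwz, hwW⟩ := mem_iUnion.1 hw
      have he : U x ∩ (U z ∩ W z) = U z ∩ (U x ∩ W x) := by
        refine h.eq_of_preimage_eq ((IsLQC.of_isOpen (hU x)).inter (hWU z).isLQC)
          ((IsLQC.of_isOpen (hU z)).inter (hWU x).isLQC) ?_
        simp only [preimage_inter, hUV, hWV]
        ext; simp; tauto
      exact (he ▸ ⟨hwx, hwz, hwW⟩ : w ∈ U z ∩ (U x ∩ W x)).2
    rw [this]
    exact hWU x
  · simp only [preimage_iUnion, preimage_inter, hUV, hWV]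
    ext w
    simp only [mem_iUnion, mem_inter_iff]
    exact ⟨fun ⟨_, _, _, hw⟩ => hw, fun hw => ⟨w, hxV w, hxV w, hw⟩⟩

lemma restrictPreimage {f : X → Y} (h : QH f) {S : Set Y} (hS : IsLQC S) :
    QH (S.restrictPreimage f) where
  cont := h.cont.restrictPreimage
  inj U₁ U₂ h₁ h₂ he := by
    obtain ⟨A, hA, rfl⟩ := isOpen_induced_iff.1 h₁
    obtain ⟨B, hB, rfl⟩ := isOpen_induced_iff.1 h₂
    have : A ∩ S = B ∩ S := by
      refine h.eq_of_preimage_eq ((IsLQC.of_isOpen hA).inter hS) ((IsLQC.of_isOpen hB).inter hS) ?_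
      ext x
      refine ⟨fun hx => ⟨?_, hx.2⟩, fun hx => ⟨?_, hx.2⟩⟩
      · exact (Set.ext_iff.1 he ⟨x, hx.2⟩).1 hx.1
      · exact (Set.ext_iff.1 he ⟨x, hx.2⟩).2 hx.1
    ext ⟨y, hy⟩
    simpa [hy] using Set.ext_iff.1 this y
  surj V hV := by
    obtain ⟨W, hW, rfl⟩ := isOpen_induced_iff.1 hV
    obtain ⟨U, hU, rfl⟩ := h.surj W hW
    exact ⟨_, hU.preimage continuous_subtype_val, rfl⟩

lemma of_openCover {f : X → Y} (hf : Continuous f) {ι : Sort*} {W : ι → Set Y}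
    (hWo : ∀ i, IsOpen (W i)) (hWc : ⋃ i, W i = Set.univ)
    (h : ∀ i, QH ((W i).restrictPreimage f)) : QH f where
  cont := hf
  inj U₁ U₂ h₁ h₂ he := by
    ext y
    obtain ⟨i, hi⟩ := mem_iUnion.1 (hWc.symm ▸ mem_univ y : y ∈ ⋃ i, W i)
    refine Set.ext_iff.1 ((h i).inj (W i ↓∩ U₁) (W i ↓∩ U₂) (h₁.preimage continuous_subtype_val)
      (h₂.preimage continuous_subtype_val) ?_) ⟨y, hi⟩
    ext ⟨x, hx⟩
    exact Set.ext_iff.1 he x
  surj V hV := by
    choose U hU hUV using fun i => (h i).surj ((f ⁻¹' W i) ↓∩ V) (hV.preimage continuous_subtype_val)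
    refine ⟨⋃ i, Subtype.val '' U i,
      isOpen_iUnion fun i => (hWo i).isOpenMap_subtype_val _ (hU i), ?_⟩
    ext x
    simp only [mem_preimage, mem_iUnion, mem_image]
    constructor
    · rintro ⟨i, ⟨y, hy⟩, hyU, rfl⟩
      exact (Set.ext_iff.1 (hUV i) ⟨x, hy⟩).1 hyU
    · intro hx
      obtain ⟨i, hi⟩ := mem_iUnion.1 (hWc.symm ▸ mem_univ (f x) : f x ∈ ⋃ i, W i)
      exact ⟨i, ⟨f x, hi⟩, (Set.ext_iff.1 (hUV i) ⟨x, hi⟩).2 hx, rfl⟩

lemma isCompact_iff {f : X → Y} (h : QH f) {S : Set Y} (hS : IsLQC S) :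
    IsCompact (f ⁻¹' S) ↔ IsCompact S := by
  constructor
  · intro hc
    refine isCompact_of_finite_subcover fun {ι} U hU hSU => ?_
    obtain ⟨t, ht⟩ := hc.elim_finite_subcover (fun i => f ⁻¹' U i) (fun i => (hU i).preimage h.cont)
      (by rw [← preimage_iUnion]; exact preimage_mono hSU)
    refine ⟨t, fun y hy => ?_⟩
    have hopen : IsOpen (⋃ i ∈ t, U i) := isOpen_biUnion fun i _ => hU i
    have he : S ∩ (⋃ i ∈ t, U i) = S := by
      refine h.eq_of_preimage_eq (hS.inter (.of_isOpen hopen)) hS ?_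
      rw [preimage_inter, preimage_iUnion₂, inter_eq_left]
      exact ht
    exact (he.symm ▸ hy : y ∈ S ∩ ⋃ i ∈ t, U i).2
  · intro hc
    refine isCompact_of_finite_subcover fun {ι} V hV hSV => ?_
    choose U hU hUV using fun i => h.surj (V i) (hV i)
    have hsub : S ⊆ ⋃ i, U i := by
      have he : S ∩ (⋃ i, U i) = S := by
        refine h.eq_of_preimage_eq (hS.inter (.of_isOpen (isOpen_iUnion hU))) hS ?_
        rw [preimage_inter, preimage_iUnion, inter_eq_left]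
        simpa only [hUV] using hSV
      exact fun y hy => (he.symm ▸ hy : y ∈ S ∩ ⋃ i, U i).2
    obtain ⟨t, ht⟩ := hc.elim_finite_subcover U hU hsub
    refine ⟨t, (preimage_mono ht).trans ?_⟩
    simp [preimage_iUnion₂, hUV]

omit [TopologicalSpace Y] in
lemma noetherianSpace_subtype_iff (S : Set X) :
    NoetherianSpace S ↔ ∀ U : Set X, IsOpen U → IsCompact (S ∩ U) := by
  rw [noetherianSpace_iff_opens]
  constructor
  · intro h U hU
    have := h ⟨S ↓∩ U, hU.preimage continuous_subtype_val⟩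
    rw [Subtype.isCompact_iff] at this
    simpa [Subtype.image_preimage_coe] using this
  · rintro h ⟨U, hU⟩
    obtain ⟨V, hV, rfl⟩ := isOpen_induced_iff.1 hU
    rw [Subtype.isCompact_iff]
    simpa [Subtype.image_preimage_coe] using h V hV

lemma noetherianSpace_iff {f : X → Y} (h : QH f) {S : Set Y} (hS : IsLQC S) :
    NoetherianSpace ↥(f ⁻¹' S) ↔ NoetherianSpace S := by
  rw [noetherianSpace_subtype_iff, noetherianSpace_subtype_iff]
  constructor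
  · intro hn U hU
    rw [← h.isCompact_iff (hS.inter (.of_isOpen hU))]
    exact hn _ (hU.preimage h.cont)
  · intro hn V hV
    obtain ⟨U, hU, rfl⟩ := h.surj V hV
    rw [← preimage_inter, h.isCompact_iff (hS.inter (.of_isOpen hU))]
    exact hn U hU

lemma retrocompact_iff {f : X → Y} (h : QH f) {S : Set Y} (hS : IsLQC S) :
    IsRetrocompact (f ⁻¹' S) ↔ IsRetrocompact S := by
  constructor
  · intro hr U hUc hUo
    rw [← h.isCompact_iff (hS.inter (.of_isOpen hUo))]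
    exact hr ((h.isCompact_iff (.of_isOpen hUo)).2 hUc) (hUo.preimage h.cont)
  · intro hr V hVc hVo
    obtain ⟨U, hU, rfl⟩ := h.surj V hVo
    rw [← preimage_inter, h.isCompact_iff (hS.inter (.of_isOpen hU))]
    exact hr ((h.isCompact_iff (.of_isOpen hU)).1 hVc) hU

lemma isConstructible_preimage {f : X → Y} (h : QH f) {Z : Set Y} (hZ : IsConstructible Z) :
    IsConstructible (f ⁻¹' Z) :=
  hZ.preimage h.cont fun _ hs hs' => (h.retrocompact_iff (.of_isOpen hs)).2 hs'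

lemma exists_isConstructible {f : X → Y} (h : QH f) {Z : Set X} (hZ : IsConstructible Z) :
    ∃ Z' : Set Y, IsConstructible Z' ∧ f ⁻¹' Z' = Z := by
  induction hZ using IsConstructible.empty_union_induction with
  | open_retrocompact V hV hVr =>
    obtain ⟨U, hU, rfl⟩ := h.surj V hV
    exact ⟨U, ((h.retrocompact_iff (.of_isOpen hU)).1 hVr).isConstructible hU, rfl⟩
  | union s _ t _ hs ht =>
    obtain ⟨A, hA, rfl⟩ := hs
    obtain ⟨B, hB, rfl⟩ := ht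
    exact ⟨A ∪ B, hA.union hB, rfl⟩
  | compl s _ hs =>
    obtain ⟨A, hA, rfl⟩ := hs
    exact ⟨Aᶜ, hA.compl, rfl⟩

lemma isLocallyConstructible_preimage {f : X → Y} (h : QH f) {Z : Set Y}
    (hZ : IsLocallyConstructible Z) : IsLocallyConstructible (f ⁻¹' Z) := by
  intro x
  obtain ⟨U, hxU, hU, hUZ⟩ := hZ (f x)
  exact ⟨f ⁻¹' U, h.cont.continuousAt.preimage_mem_nhds hxU, hU.preimage h.cont,
    ((h.restrictPreimage (.of_isOpen hU)).isConstructible_preimage hUZ :)⟩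

lemma exists_isLocallyConstructible {f : X → Y} (h : QH f) {Z : Set X}
    (hZ : IsLocallyConstructible Z) : ∃ Z' : Set Y, IsLocallyConstructible Z' ∧ f ⁻¹' Z' = Z := by
  obtain ⟨Z', hZ', rfl⟩ := h.exists_isLQC (isLQC_of_isLocallyConstructible hZ)
  refine ⟨Z', fun y => ?_, rfl⟩
  choose V hxV hV hVZ using hZ
  choose U hU hUV using fun x => h.surj (V x) (hV x)
  obtain ⟨x, hx⟩ : ∃ x, y ∈ U x := by
    refine mem_iUnion.1 ?_
    rw [h.inj _ univ (isOpen_iUnion hU) isOpen_univ]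
    · trivial
    · refine eq_univ_of_forall fun x => ?_
      rw [preimage_iUnion]
      exact mem_iUnion.2 ⟨x, (hUV x).symm ▸ mem_of_mem_nhds (hxV x)⟩
  refine ⟨U x, (hU x).mem_nhds hx, hU x, ?_⟩
  have hr := h.restrictPreimage (IsLQC.of_isOpen (hU x))
  have h1 : IsConstructible ((U x).restrictPreimage f ⁻¹' (U x ↓∩ Z')) := by
    have h2 : IsConstructible (Subtype.val ⁻¹' (f ⁻¹' Z') : Set ↥(f ⁻¹' U x)) :=
      hUV x ▸ hVZ x
    exact h2
  obtain ⟨W, hW, hWe⟩ := hr.exists_isConstructible h1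
  rwa [← hr.eq_of_preimage_eq (isQC_of_isConstructible hW).isLQC
    (hZ'.preimage continuous_subtype_val) hWe]

/-- A very dense subset gives a quasi-homeomorphism. -/
lemma subtypeVal {X₀ : Set X} (h : IsVeryDense X₀) : QH (Subtype.val : X₀ → X) where
  cont := continuous_subtype_val
  inj U V hU hV he := by
    refine h.eq_of_inter_eq (.of_isOpen hU) (.of_isOpen hV) ?_
    rw [inter_comm U, inter_comm V]
    exact Subtype.preimage_coe_eq_preimage_coe_iff.1 he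
  surj V hV := isOpen_induced_iff.1 hV

end QH

end Groth.EGA43Topo
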