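import Groth.Agent.EGA43Topo.UnibranchGeneralBase
import Groth.Agent.EGA43Topo.UnibranchParams
import Mathlib.RingTheory.Ideal.KrullsHeightTheorem

/-!
# Quasi-sections, algebraic part (EGA IV 14.5.3)
-/

universe u

set_option linter.style.haveILetI false

open CategoryTheory AlgebraicGeometry TensorProduct

namespace Groth.EGA43Topo

variable {R S : Type u} [CommRing R] [CommRing S] [Algebra R S] [Algebra.FiniteType R S]

/-- At a closed point of a fibre of dimension `≤ D`, at most `D` elements of the prime cut out a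
point at which `S` is quasi-finite over the polynomial ring. -/
theorem exists_params_of_closed_point (p : Ideal R) [p.IsPrime] (n : Ideal S) [n.IsPrime] [n.LiesOver p]
    (hclosed : ∀ n' : Ideal S, n'.IsPrime → n ≤ n' → n'.comap (algebraMap R S) = p → n' = n)
    (D : ℕ) (hD : ringKrullDim (p.Fiber S) ≤ D) :
    ∃ (s : ℕ) (t : Fin s → S), s ≤ D ∧ (∀ i, t i ∈ n) ∧
      (letI := (MvPolynomial.aeval (R := R) t).toRingHom.toAlgebra;
        Algebra.QuasiFiniteAt (MvPolynomial (Fin s) R) n) := by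
  classical
  haveI : IsNoetherianRing (p.Fiber S) := Algebra.FiniteType.isNoetherianRing p.ResidueField _
  let P₀ : PrimeSpectrum R := ⟨p, inferInstance⟩
  let e := PrimeSpectrum.preimageOrderIsoFiber R S P₀
  let n₀ := e ⟨⟨n, inferInstance⟩, PrimeSpectrum.ext (n.over_def p).symm⟩
  let ι : S →+* p.Fiber S := Algebra.TensorProduct.includeRight.toRingHom
  have hcomap : ∀ w, (e w).asIdeal.comap ι = w.1.asIdeal := fun w =>
    congrArg (fun v => v.1.asIdeal) (e.symm_apply_apply w)
  have hn₀ : n₀.asIdeal.comap ι = n := hcomap _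
  obtain ⟨s₀, hs₀, hcard⟩ := Ideal.exists_finset_card_eq_height_of_isNoetherianRing n₀.asIdeal
  have hle : s₀.card ≤ D := by
    have h1 := (Ideal.height_le_ringKrullDim_of_ne_top n₀.isPrime.ne_top).trans hD
    rw [← hcard] at h1
    exact_mod_cast h1
  let g : Fin s₀.card → p.Fiber S := fun i => (s₀.equivFin.symm i).1
  choose r hr b hb using fun i => Ideal.Fiber.exists_smul_eq_one_tmul p (g i)
  have hunit : ∀ i, IsUnit (algebraMap R (p.Fiber S) (r i)) := fun i => by
    rw [IsScalarTower.algebraMap_apply R p.ResidueField (p.Fiber S)]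
    exact (IsUnit.mk0 _ fun h0 => hr i (Ideal.algebraMap_residueField_eq_zero.1 h0)).map _
  have hmem : ∀ (J : Ideal (p.Fiber S)) [J.IsPrime] (i), b i ∈ J.comap ι ↔ g i ∈ J := fun J _ i => by
    show (1 : p.ResidueField) ⊗ₜ[R] b i ∈ J ↔ _
    rw [← hb, Algebra.smul_def, Ideal.unit_mul_mem_iff_mem J (hunit i)]
  have hbn : ∀ i, b i ∈ n := fun i => by
    rw [← hn₀, hmem]
    exact hs₀.1.2 (Ideal.subset_span (s₀.equivFin.symm i).2)
  refine ⟨s₀.card, b, hle, hbn, ?_⟩
  letI := (MvPolynomial.aeval (R := R) b).toRingHom.toAlgebra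
  haveI : IsScalarTower R (MvPolynomial (Fin s₀.card) R) S :=
    IsScalarTower.of_algebraMap_eq fun a => ((MvPolynomial.aeval b).commutes a).symm
  haveI : Algebra.FiniteType (MvPolynomial (Fin s₀.card) R) S := .of_restrictScalars_finiteType R _ _
  refine quasiFiniteAt_of_comparable n fun n' hn' hcmp he => ?_
  have hp : n'.comap (algebraMap R S) = p := by
    rw [IsScalarTower.algebraMap_eq R (MvPolynomial (Fin s₀.card) R) S, ← Ideal.comap_comap, he,
      Ideal.comap_comap, ← IsScalarTower.algebraMap_eq]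
    exact (n.over_def p).symm
  rcases hcmp with hcmp | hcmp
  · let w : PrimeSpectrum.comap (algebraMap R S) ⁻¹' {P₀} := ⟨⟨n', hn'⟩, PrimeSpectrum.ext hp⟩
    have hspan : Ideal.span (s₀ : Set (p.Fiber S)) ≤ (e w).asIdeal := Ideal.span_le.2 fun x hx => by
      obtain ⟨i, rfl⟩ : ∃ i, g i = x := ⟨s₀.equivFin ⟨x, hx⟩, by simp [g]⟩
      rw [SetLike.mem_coe, ← hmem (e w).asIdeal i, hcomap]
      have h1 : MvPolynomial.aeval (R := R) b (MvPolynomial.X i) ∈ n := by rw [MvPolynomial.aeval_X]; exact hbn i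
      have h2 : (MvPolynomial.X i : MvPolynomial (Fin s₀.card) R) ∈ n'.comap (algebraMap (MvPolynomial (Fin s₀.card) R) S) := he.ge h1
      rw [Ideal.mem_comap, RingHom.algebraMap_toAlgebra] at h2
      change MvPolynomial.aeval b (MvPolynomial.X i) ∈ n' at h2
      rwa [MvPolynomial.aeval_X] at h2
    have hle' : e w ≤ n₀ := e.monotone hcmp
    have heq : (e w).asIdeal = n₀.asIdeal := le_antisymm hle' (hs₀.2 ⟨(e w).isPrime, hspan⟩ hle')
    have := congrArg (Ideal.comap ι) heq
    rwa [hcomap, hn₀] at this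
  · exact hclosed n' hn' hcmp hp

theorem exists_prime_over_params_core {N L : Type u} [CommRing N] [IsDomain N] [IsIntegrallyClosed N]
    [Algebra R N] [Algebra.IsIntegral R N] [Field L] [Algebra R L] (q : Ideal R)
    (hker : ∀ a : R, algebraMap R N a = 0 ↔ a ∈ q) (toL : S →ₐ[R] L) {d : ℕ} (t : Fin d → S)
    (hqf : ∀ n : PrimeSpectrum S, letI := (MvPolynomial.aeval (R := R) t).toRingHom.toAlgebra
      Algebra.QuasiFiniteAt (MvPolynomial (Fin d) R) n.asIdeal)
    (χ : MvPolynomial (Fin d) N →+* L) (hχ : Function.Injective χ)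
    (hχT : ∀ f : MvPolynomial (Fin d) R, χ (f.map (algebraMap R N)) = toL (MvPolynomial.aeval t f))
    (n : Ideal S) [n.IsPrime] (hPn : RingHom.ker toL.toRingHom ≤ n) (ht : ∀ i, t i ∈ n) :
    ∃ Q : Ideal S, Q.IsPrime ∧ RingHom.ker toL.toRingHom ≤ Q ∧ Q ≤ n ∧ (∀ i, t i ∈ Q) ∧
      Q.comap (algebraMap R S) = q := by
  let T := MvPolynomial (Fin d) R
  let T' := MvPolynomial (Fin d) N
  haveI : IsIntegrallyClosed T' := Groth.FlatMor2.isIntegrallyClosed_mvPolynomial _ d
  letI : Algebra T S := (MvPolynomial.aeval (R := R) t).toRingHom.toAlgebra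
  haveI : IsScalarTower R T S :=
    IsScalarTower.of_algebraMap_eq fun a => ((MvPolynomial.aeval t).commutes a).symm
  haveI : Algebra.FiniteType T S := .of_restrictScalars_finiteType R _ _
  haveI : Algebra.QuasiFinite T S := Groth.Calg4.quasiFinite_of_forall_quasiFiniteAt S hqf
  letI : Algebra T T' := (MvPolynomial.map (σ := Fin d) (algebraMap R N)).toAlgebra
  letI : Algebra T' L := χ.toAlgebra
  letI : Algebra T L := (toL.toRingHom.comp (algebraMap T S)).toAlgebra
  haveI : IsScalarTower T T' L := IsScalarTower.of_algebraMap_eq fun f => (hχT f).symm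
  let toL' : S →ₐ[T] L := { toL.toRingHom with commutes' := fun _ => rfl }
  let Φ : T' ⊗[T] S →ₐ[T'] L :=
    Algebra.TensorProduct.lift (Algebra.ofId T' L) toL' fun _ _ => Commute.all _ _
  let D := Φ.range
  haveI : Algebra.FiniteType T' D :=
    Algebra.FiniteType.of_surjective Φ.rangeRestrict Φ.rangeRestrict_surjective
  haveI : Algebra.QuasiFinite T' D :=
    Algebra.QuasiFinite.of_surjective_algHom Φ.rangeRestrict Φ.rangeRestrict_surjective
  haveI : FaithfulSMul T' D := (faithfulSMul_iff_algebraMap_injective _ _).2 fun x y h =>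
    hχ (congrArg Subtype.val h)
  let ψ : S →+* D := Φ.rangeRestrict.toRingHom.comp
    (Algebra.TensorProduct.includeRight : S →ₐ[T] T' ⊗[T] S).toRingHom
  have hval : ∀ z, (ψ z : L) = toL z := fun z => by
    show Φ (1 ⊗ₜ[T] z) = _
    rw [Algebra.TensorProduct.lift_tmul, map_one, one_mul]
    rfl
  have hψ : ψ.IsIntegral := by
    refine RingHom.IsIntegral.trans _ _ ?_ fun x => ?_
    · intro w
      haveI : Algebra.IsIntegral T T' := ⟨isIntegral_mvPolynomial_map d⟩
      obtain ⟨v, rfl⟩ := (Algebra.TensorProduct.comm T S T').surjective w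
      obtain ⟨g, hg, hgv⟩ := (Algebra.IsIntegral.isIntegral v : IsIntegral S v)
      refine ⟨g, hg, ?_⟩
      rw [show (Algebra.TensorProduct.includeRight : S →ₐ[T] T' ⊗[T] S).toRingHom =
          (Algebra.TensorProduct.comm T S T').toAlgHom.toRingHom.comp (algebraMap S (S ⊗[T] T')) from
        RingHom.ext fun a => (Algebra.TensorProduct.comm_tmul ..).symm]
      show Polynomial.eval₂ _ ((Algebra.TensorProduct.comm T S T').toAlgHom.toRingHom v) g = 0
      rw [← Polynomial.hom_eval₂, hgv, map_zero]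
    · obtain ⟨y, rfl⟩ := Φ.rangeRestrict_surjective x
      exact RingHom.isIntegralElem_map _
  have hkerψ : RingHom.ker ψ = RingHom.ker toL.toRingHom := by
    ext z
    rw [RingHom.mem_ker, RingHom.mem_ker]
    show _ ↔ toL z = 0
    rw [← hval, ZeroMemClass.coe_eq_zero]
  obtain ⟨Q, hQp, hQn⟩ : ∃ Q : Ideal D, Q.IsPrime ∧ Q.comap ψ = n := by
    letI := ψ.toAlgebra
    haveI : Algebra.IsIntegral S D := ⟨hψ⟩
    obtain ⟨Q, -, h1, h2⟩ := Ideal.exists_ideal_over_prime_of_isIntegral n (⊥ : Ideal D) (hkerψ.le.trans hPn)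
    exact ⟨Q, h1, h2⟩
  have hX : ∀ i, algebraMap T' D (MvPolynomial.X i) = ψ (t i) := fun i => Subtype.ext (by
    rw [hval]
    show χ (MvPolynomial.X i) = _
    rw [show (MvPolynomial.X i : T') = MvPolynomial.map (algebraMap R N) (MvPolynomial.X i) from
      (MvPolynomial.map_X _ _).symm, hχT, MvPolynomial.aeval_X])
  have hQT : ∀ f : T', MvPolynomial.constantCoeff f = 0 → algebraMap T' D f ∈ Q := fun f hf => by
    have key : ∀ g : T', algebraMap T' D (g - MvPolynomial.C (MvPolynomial.constantCoeff g)) ∈ Q := fun g => by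
      induction g using MvPolynomial.induction_on with
      | C a => simp
      | add a b ha hb =>
        have := Q.add_mem ha hb
        rwa [← map_add, show a - MvPolynomial.C (MvPolynomial.constantCoeff a) +
          (b - MvPolynomial.C (MvPolynomial.constantCoeff b)) =
          a + b - MvPolynomial.C (MvPolynomial.constantCoeff (a + b)) by rw [map_add, map_add]; ring] at this
      | mul_X a i ha =>
        rw [map_mul, MvPolynomial.constantCoeff_X, mul_zero, map_zero, sub_zero, map_mul, hX]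
        exact Q.mul_mem_left _ (show t i ∈ Q.comap ψ from hQn.ge (ht i))
    simpa [hf] using key f
  let q'' : Ideal T' := RingHom.ker (MvPolynomial.constantCoeff : T' →+* N)
  haveI : q''.IsPrime := RingHom.ker_isPrime _
  haveI := universallyOpen_of_quasiFinite (A := T') (D := D)
  obtain ⟨Q', hle, hQ'⟩ := exists_specializes_of_isOpenAt
    (p := Spec.map (CommRingCat.ofHom (algebraMap T' D))) (x := (⟨Q, hQp⟩ : PrimeSpectrum D))
    (fun U hU => (Spec.map (CommRingCat.ofHom (algebraMap T' D))).isOpenMap.image_mem_nhds hU)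
    (z := (⟨q'', inferInstance⟩ : PrimeSpectrum T'))
    ((PrimeSpectrum.le_iff_specializes (⟨q'', inferInstance⟩ : PrimeSpectrum T') (PrimeSpectrum.comap (algebraMap T' D) ⟨Q, hQp⟩)).1
      fun f hf => hQT f hf)
  have hle' : Q'.asIdeal ≤ Q := (PrimeSpectrum.le_iff_specializes Q' ⟨Q, hQp⟩).2 hle
  have hQ'' : ∀ f : T', algebraMap T' D f ∈ Q'.asIdeal ↔ MvPolynomial.constantCoeff f = 0 := fun f =>
    SetLike.ext_iff.1 (congrArg PrimeSpectrum.asIdeal hQ') f
  refine ⟨Q'.asIdeal.comap ψ, Ideal.comap_isPrime _ _, ?_, (Ideal.comap_mono hle').trans hQn.le, fun i => ?_, ?_⟩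
  · rw [← hkerψ]
    exact Ideal.comap_mono bot_le
  · rw [Ideal.mem_comap, ← hX, hQ'', MvPolynomial.constantCoeff_X]
  · ext a
    rw [Ideal.mem_comap, Ideal.mem_comap, show ψ (algebraMap R S a) = algebraMap T' D (MvPolynomial.C (algebraMap R N a)) from
      Subtype.ext (by
        rw [hval]
        show _ = χ _
        rw [← MvPolynomial.map_C, hχT, MvPolynomial.aeval_C]), hQ'', MvPolynomial.constantCoeff_C, hker]

theorem exists_prime_over_params_aux (q : Ideal R) [q.IsPrime] (P : Ideal S) [P.IsPrime] [P.LiesOver q] {d : ℕ}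
    (t : Fin d → S) (hind : ∀ f : MvPolynomial (Fin d) R, MvPolynomial.aeval t f ∈ P ↔ ∀ m, f.coeff m ∈ q)
    (hqf : ∀ n : PrimeSpectrum S, letI := (MvPolynomial.aeval (R := R) t).toRingHom.toAlgebra
      Algebra.QuasiFiniteAt (MvPolynomial (Fin d) R) n.asIdeal)
    (n : Ideal S) [n.IsPrime] (hPn : P ≤ n) (ht : ∀ i, t i ∈ n) :
    ∃ Q : Ideal S, Q.IsPrime ∧ P ≤ Q ∧ Q ≤ n ∧ (∀ i, t i ∈ Q) ∧ Q.comap (algebraMap R S) = q := by
  let K₀ := FractionRing (R ⧸ q)
  let L := FractionRing (S ⧸ P)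
  let toL : S →+* L := (algebraMap (S ⧸ P) L).comp (Ideal.Quotient.mk _)
  have htoL : ∀ z, toL z = 0 ↔ z ∈ P := fun z => by
    show algebraMap (S ⧸ P) L (Ideal.Quotient.mk _ z) = 0 ↔ _
    rw [map_eq_zero_iff _ (IsFractionRing.injective (S ⧸ P) L), Ideal.Quotient.eq_zero_iff_mem]
  have hR0 : ∀ a : R, algebraMap R K₀ a = 0 ↔ a ∈ q := fun a => by
    rw [IsScalarTower.algebraMap_apply R (R ⧸ q) K₀, map_eq_zero_iff _ (IsFractionRing.injective (R ⧸ q) K₀),
      Ideal.Quotient.algebraMap_eq, Ideal.Quotient.eq_zero_iff_mem]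
  have hRS : ∀ a : R, toL (algebraMap R S a) = 0 ↔ a ∈ q := fun a => by
    rw [htoL]; exact (Ideal.mem_of_liesOver P q a).symm
  let η : R ⧸ q →+* L := Ideal.Quotient.lift _ (toL.comp (algebraMap R S)) fun a ha => (hRS a).2 ha
  have hη : Function.Injective η := (injective_iff_map_eq_zero η).2 fun x hx => by
    obtain ⟨x, rfl⟩ := Ideal.Quotient.mk_surjective x
    exact Ideal.Quotient.eq_zero_iff_mem.2 ((hRS x).1 hx)
  let j : K₀ →+* L := IsFractionRing.lift hη
  have hj : ∀ a : R, j (algebraMap R K₀ a) = toL (algebraMap R S a) := fun a => by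
    rw [IsScalarTower.algebraMap_apply R (R ⧸ q) K₀]
    exact IsFractionRing.lift_algebraMap hη _
  let χK : MvPolynomial (Fin d) K₀ →+* L := MvPolynomial.eval₂Hom j fun i => toL (t i)
  have hχKm : ∀ f : MvPolynomial (Fin d) R,
      χK (f.map (algebraMap R K₀)) = toL (MvPolynomial.aeval t f) := by
    refine RingHom.congr_fun (f := χK.comp (MvPolynomial.map (algebraMap R K₀)))
      (g := toL.comp (MvPolynomial.aeval t).toRingHom) (MvPolynomial.ringHom_ext (fun a => ?_) fun i => ?_)
    · show χK (MvPolynomial.map _ (MvPolynomial.C a)) = toL (MvPolynomial.aeval t (MvPolynomial.C a))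
      rw [MvPolynomial.map_C, MvPolynomial.aeval_C, MvPolynomial.eval₂Hom_C, hj]
    · show χK (MvPolynomial.map _ (MvPolynomial.X i)) = toL (MvPolynomial.aeval t (MvPolynomial.X i))
      rw [MvPolynomial.map_X, MvPolynomial.aeval_X, MvPolynomial.eval₂Hom_X']
  have hχK : Function.Injective χK := by
    refine (injective_iff_map_eq_zero χK).2 fun f hf => ?_
    letI : Algebra (MvPolynomial (Fin d) (R ⧸ q)) (MvPolynomial (Fin d) K₀) := MvPolynomial.algebraMvPolynomial
    obtain ⟨⟨g, ⟨_, s, hs, rfl⟩⟩, hg⟩ := IsLocalization.surj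
      ((nonZeroDivisors (R ⧸ q)).map (MvPolynomial.C (σ := Fin d))) f
    obtain ⟨g, rfl⟩ := MvPolynomial.map_surjective _ Ideal.Quotient.mk_surjective g
    change f * MvPolynomial.map _ (MvPolynomial.C s) = MvPolynomial.map _ (g.map _) at hg
    rw [MvPolynomial.map_map, MvPolynomial.map_C,
      show (algebraMap (R ⧸ q) K₀).comp (Ideal.Quotient.mk _) = algebraMap R K₀ from
        (IsScalarTower.algebraMap_eq R (R ⧸ q) K₀).symm] at hg
    have h0 : MvPolynomial.map (algebraMap R K₀) g = 0 := by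
      refine MvPolynomial.ext _ _ fun m => ?_
      rw [MvPolynomial.coeff_map, MvPolynomial.coeff_zero, hR0]
      refine (hind g).1 ((htoL _).1 ?_) m
      rw [← hχKm, ← hg, map_mul, hf, zero_mul]
    rw [h0, mul_eq_zero] at hg
    refine hg.resolve_right fun h => nonZeroDivisors.ne_zero hs
      ((map_eq_zero_iff _ (IsFractionRing.injective (R ⧸ q) K₀)).1 ?_)
    rwa [MvPolynomial.C_eq_zero] at h
  let N := integralClosure R K₀
  haveI : IsFractionRing N K₀ := IsFractionRing.of_field _ _ fun z => by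
    obtain ⟨a, b, -, hab⟩ := IsFractionRing.div_surjective (R ⧸ q) z
    obtain ⟨a, rfl⟩ := Ideal.Quotient.mk_surjective a
    obtain ⟨b, rfl⟩ := Ideal.Quotient.mk_surjective b
    exact ⟨algebraMap R N a, algebraMap R N b, hab.symm⟩
  haveI : IsIntegrallyClosed N := (isIntegrallyClosed_iff_isIntegrallyClosedIn K₀).2 inferInstance
  haveI : Algebra.IsIntegral R N := ⟨fun x => (isIntegral_algHom_iff N.val Subtype.val_injective).1 x.2⟩
  have hker : ∀ a : R, algebraMap R N a = 0 ↔ a ∈ q := fun a =>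
    ⟨fun h => (hR0 a).1 (congrArg Subtype.val h), fun h => Subtype.ext ((hR0 a).2 h)⟩
  letI : Algebra R L := (toL.comp (algebraMap R S)).toAlgebra
  have hP : RingHom.ker toL = P := Ideal.ext htoL
  obtain ⟨Q, h⟩ := exists_prime_over_params_core (N := N) q hker { toL with commutes' := fun _ => rfl } t hqf
    (χK.comp (MvPolynomial.map N.val.toRingHom))
    (hχK.comp (MvPolynomial.map_injective _ Subtype.val_injective)) (fun f => by
      show χK (MvPolynomial.map _ (MvPolynomial.map _ f)) = toL (MvPolynomial.aeval t f)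
      rw [MvPolynomial.map_map, show N.val.toRingHom.comp (algebraMap R N) = algebraMap R K₀ from rfl, hχKm])
    n (hP.le.trans hPn) ht
  exact ⟨Q, h.1, hP.ge.trans h.2.1, h.2.2⟩

/-- **Cutting by parameters**: if the parameters are independent on the component `P` and `S` is
quasi-finite at `n ∋ t`, some prime between `P` and `n` contains them and lies over `q`. -/
theorem exists_prime_over_params (q : Ideal R) [q.IsPrime] (P : Ideal S) [P.IsPrime] [P.LiesOver q] {d : ℕ}
    (t : Fin d → S) (hind : ∀ f : MvPolynomial (Fin d) R, MvPolynomial.aeval t f ∈ P ↔ ∀ m, f.coeff m ∈ q)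
    (n : Ideal S) [n.IsPrime] (hPn : P ≤ n) (ht : ∀ i, t i ∈ n) (r : S) (hr : r ∉ n)
    (hqf : ∀ m : PrimeSpectrum S, r ∉ m.asIdeal → letI := (MvPolynomial.aeval (R := R) t).toRingHom.toAlgebra
      Algebra.QuasiFiniteAt (MvPolynomial (Fin d) R) m.asIdeal) :
    ∃ Q : Ideal S, Q.IsPrime ∧ P ≤ Q ∧ Q ≤ n ∧ (∀ i, t i ∈ Q) ∧ Q.comap (algebraMap R S) = q := by
  let S' := Localization.Away r
  haveI : Algebra.FiniteType S S' := IsLocalization.finiteType_of_monoid_fg (Submonoid.powers r) _
  haveI : Algebra.FiniteType R S' := Algebra.FiniteType.trans (S := S) ‹_› ‹_›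
  let φ := algebraMap S S'
  have hd : ∀ (J : Ideal S), J.IsPrime → J ≤ n → Disjoint (Submonoid.powers r : Set S) J :=
    fun J hJ hle => Set.disjoint_left.2 fun a ha h => by
      obtain ⟨k, rfl⟩ := ha
      exact hr (hle (hJ.mem_of_pow_mem k h))
  haveI hP' : (P.map φ).IsPrime :=
    IsLocalization.isPrime_of_isPrime_disjoint (Submonoid.powers r) S' _ ‹_› (hd P ‹_› hPn)
  haveI hn' : (n.map φ).IsPrime :=
    IsLocalization.isPrime_of_isPrime_disjoint (Submonoid.powers r) S' _ ‹_› (hd n ‹_› le_rfl)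
  have hPc : (P.map φ).comap φ = P :=
    IsLocalization.under_map_of_isPrime_disjoint (Submonoid.powers r) S' ‹_› (hd P ‹_› hPn)
  have hnc : (n.map φ).comap φ = n :=
    IsLocalization.under_map_of_isPrime_disjoint (Submonoid.powers r) S' ‹_› (hd n ‹_› le_rfl)
  haveI : (P.map φ).LiesOver q := ⟨by
    rw [Ideal.under_def, IsScalarTower.algebraMap_eq R S S', ← Ideal.comap_comap, hPc]
    exact P.over_def q⟩
  let t' : Fin d → S' := fun i => φ (t i)
  have hev : ∀ f, MvPolynomial.aeval t' f = φ (MvPolynomial.aeval t f) := fun f =>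
    (MvPolynomial.comp_aeval_apply t (IsScalarTower.toAlgHom R S S') f).symm
  have hqf' : ∀ n' : PrimeSpectrum S', letI := (MvPolynomial.aeval (R := R) t').toRingHom.toAlgebra
      Algebra.QuasiFiniteAt (MvPolynomial (Fin d) R) n'.asIdeal := fun n' => by
    let T := MvPolynomial (Fin d) R
    letI : Algebra T S := (MvPolynomial.aeval (R := R) t).toRingHom.toAlgebra
    letI := (MvPolynomial.aeval (R := R) t').toRingHom.toAlgebra
    let φ' : S →ₐ[T] S' := { φ with commutes' := fun g => (hev g).symm }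
    haveI : Algebra.QuasiFiniteAt T (n'.asIdeal.comap φ) :=
      hqf (n'.comap φ) ((PrimeSpectrum.localization_away_comap_range S' r).le ⟨n', rfl⟩)
    exact Algebra.QuasiFiniteAt.of_surjectiveOnStalks (n'.asIdeal.comap φ) φ'
      (RingHom.surjectiveOnStalks_of_isLocalization (M := Submonoid.powers r) (S := S')) _ rfl
  obtain ⟨Q, hQ, h1, h2, h3, h4⟩ := exists_prime_over_params_aux q (P.map φ) t'
    (fun f => by rw [hev, ← Ideal.mem_comap, hPc, hind]) hqf' (n.map φ) (Ideal.map_mono hPn)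
    (fun i => Ideal.mem_map_of_mem _ (ht i))
  refine ⟨Q.comap φ, Ideal.comap_isPrime _ _, hPc.ge.trans (Ideal.comap_mono h1),
    (Ideal.comap_mono h2).trans hnc.le, h3, ?_⟩
  rw [Ideal.comap_comap, ← IsScalarTower.algebraMap_eq, h4]

end Groth.EGA43Topo
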