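import Groth.Agent.EGA43Topo.SectionCompTransfer
import Groth.Agent.EGA43Topo.DVRCriterion
import Groth.Agent.Limits.FlatDescent
import Groth.Agent.Limits.SmoothDescent
import Groth.Agent.Limits.Stalk
import Groth.Agent.Limits.OpenPullback
import Groth.Agent.GrpschAbsch.FlatStage
import Groth.Agent.SpectralTopology.DescendFP
import Groth.Agent.SpectralTopology.NoethSystem
import Groth.Agent.PropsBasic2.StalkFlat

/-!
# Flat morphisms with geometrically reduced fibres over a reduced base (EGA IV 11.3.13)
-/

set_option autoImplicit false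
set_option linter.style.haveILetI false
universe u

open CategoryTheory CategoryTheory.Limits AlgebraicGeometry TopologicalSpace Topology Groth.SpectralTopology

namespace Groth.EGA43Topo.ReducedFlat

/-- Affine base. -/
theorem isReduced_stalk_affine {A : CommRingCat.{u}} [_root_.IsReduced A] {X : Scheme.{u}}
    (f : X ⟶ (fgCone A).pt) [LocallyOfFinitePresentation f] [QuasiCompact f] [QuasiSeparated f] [Flat f] (x : X)
    (hred : FBase.IsGeomReducedAt (f.fiberToSpecResidueField (f.base x)) (f.asFiber x)) :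
    _root_.IsReduced (X.presheaf.stalk x) := by
  obtain ⟨k, ⟨M⟩⟩ := exists_stageModel (isLimitFgCone A) f
  haveI : CompactSpace M.obj := QuasiCompact.compactSpace_of_compactSpace M.hom
  have hflat0 : Flat (pullback.snd M.hom ((fgCone A).π.app k)) := by
    rw [← M.sq.isoPullback_inv_snd]
    infer_instance
  obtain ⟨j, hj⟩ := Groth.Limits.exists_stage_of_ringDescends (P := @Flat) (Q := fun f => RingHom.Flat f)
    Groth.Limits.ringDescends_flat (fun _ _ g hg => by haveI := hg; infer_instance)
    (fgSchemes A) (fgCone A) (isLimitFgCone A) k M.hom hflat0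
  let D := fgSchemes A
  let C := Groth.Limits.pullbackCone D k M.hom (fgCone A)
  let hC : IsLimit C := Groth.Limits.isLimitPullbackCone D k M.hom (isLimitFgCone A)
  let e : X ≅ pullback ((fgCone A).π.app k) M.hom := M.sq.flip.isoPullback
  refine SecComp.isReduced_stalk_of_isIso e.hom x ?_
  let x₁ : C.pt := e.hom.base x
  refine ⟨fun b hb => ?_⟩
  obtain ⟨n, hn⟩ := hb
  obtain ⟨l₁, φ₁, b₁, hb₁⟩ := Groth.Limits.exists_stalkMap_eq (Groth.Limits.pullbackDiagram D k M.hom) C hC j x₁ b
  obtain ⟨l₂, φ₂, hz⟩ := Groth.Limits.exists_stalkMap_eq_zero (Groth.Limits.pullbackDiagram D k M.hom) C hC x₁ (b₁ ^ n)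
    (by rw [map_pow, hb₁]; exact hn)
  let tr := Groth.Limits.stalkTrans (Groth.Limits.pullbackDiagram D k M.hom) C φ₂ x₁
  have hb₂ : (C.π.app l₂).stalkMap x₁ (tr b₁) = b := by
    refine Eq.trans ?_ hb₁
    exact congrArg (fun m => (CommRingCat.Hom.hom m) b₁) (Groth.Limits.stalkTrans_π (Groth.Limits.pullbackDiagram D k M.hom) C φ₂ x₁)
  have hnil : tr b₁ ^ n = 0 := by
    rw [← map_pow]
    exact hz
  -- the stage is flat with geometrically reduced fibre at the point
  let fl : pullback (D.map l₂.hom) M.hom ⟶ D.obj l₂.left := pullback.fst (D.map l₂.hom) M.hom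
  haveI : Flat fl := by
    haveI := hj
    have hl : D.map (φ₂ ≫ φ₁).left ≫ D.map j.hom = D.map l₂.hom := by rw [← D.map_comp, Over.w]
    haveI : Flat (pullback.snd M.hom (D.map l₂.hom)) := by
      rw [← hl]
      exact Groth.GrpschAbsch.FlatStage.flat_snd_of_comp M.hom _ _
    show Flat (pullback.fst (D.map l₂.hom) M.hom)
    rw [← pullbackSymmetry_hom_comp_snd]
    infer_instance
  haveI : LocallyOfFinitePresentation fl := MorphismProperty.pullback_fst _ _ inferInstance
  haveI : _root_.IsReduced ((fgDiagram A).obj l₂.left.unop) :=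
    isReduced_of_injective ((l₂.left.unop.1).val.toRingHom) (Subtype.val_injective)
  haveI : IsReduced (D.obj l₂.left) := inferInstanceAs (IsReduced (Spec ((fgDiagram A).obj l₂.left.unop)))
  let p : pullback ((fgCone A).π.app k) M.hom ⟶ pullback (D.map l₂.hom) M.hom := C.π.app l₂
  have hp2 : p ≫ pullback.snd (D.map l₂.hom) M.hom = pullback.snd ((fgCone A).π.app k) M.hom := pullback.lift_snd ..
  have hp1 : p ≫ fl = pullback.fst ((fgCone A).π.app k) M.hom ≫ (fgCone A).π.app l₂.left := pullback.lift_fst ..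
  have hsq : IsPullback p (pullback.fst ((fgCone A).π.app k) M.hom) fl ((fgCone A).π.app l₂.left) := by
    refine IsPullback.of_right ?_ hp1 (IsPullback.of_hasPullback (D.map l₂.hom) M.hom).flip
    rw [hp2, (fgCone A).w l₂.hom]
    exact (IsPullback.of_hasPullback ((fgCone A).π.app k) M.hom).flip
  have hsqX : IsPullback (e.hom ≫ p) f fl ((fgCone A).π.app l₂.left) := by
    have he : e.hom ≫ pullback.fst ((fgCone A).π.app k) M.hom = f := M.sq.flip.isoPullback_hom_fst
    have h0 : IsPullback e.hom f (pullback.fst ((fgCone A).π.app k) M.hom) (𝟙 _) :=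
      IsPullback.of_horiz_isIso ⟨by rw [he, Category.comp_id]⟩
    have := h0.paste_horiz hsq
    rwa [Category.id_comp] at this
  have hred₂ := (SecComp.geomReducedAt_iff_of_isPullback hsqX x).1 hred
  have hopen := (universallyOpen_iff_forall_isUnivOpenAt fl).1 inferInstance
  haveI : _root_.IsReduced ((pullback (D.map l₂.hom) M.hom).presheaf.stalk (p.base x₁)) :=
    FlatUnivOpen.isReduced_stalk_of_goodFibre fl ⟨fun z _ _ => hopen _, hred₂⟩
  have h0 : tr b₁ = 0 := (IsNilpotent.eq_zero (R := (pullback (D.map l₂.hom) M.hom).presheaf.stalk (p.base x₁))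
    ⟨n, hnil⟩)
  rw [← hb₂, h0]
  exact map_zero _

/-- Geometric reducedness restricts to open subschemes. -/
theorem geomReducedAt_openImmersion {X Y : Scheme.{u}} (f : X ⟶ Y) {V : Scheme.{u}} (j : V ⟶ X)
    [IsOpenImmersion j] (v : V)
    (hred : FBase.IsGeomReducedAt (f.fiberToSpecResidueField (f.base (j.base v))) (f.asFiber (j.base v))) :
    FBase.IsGeomReducedAt ((j ≫ f).fiberToSpecResidueField ((j ≫ f).base v)) ((j ≫ f).asFiber v) := by
  rw [SecComp.geomReducedAt_iff (y := f.base (j.base v)) rfl] at hred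
  rw [SecComp.geomReducedAt_iff (y := f.base (j.base v)) (Scheme.Hom.comp_apply j f v)]
  intro K _ z hz p hp
  let m : pullback (j ≫ f) z ⟶ pullback f z := pullback.map _ _ _ _ j (𝟙 _) (𝟙 _) (by simp) (by simp)
  have hm : m ≫ pullback.fst f z = pullback.fst (j ≫ f) z ≫ j := pullback.lift_fst ..
  have h := hred K z hz (m.base p) (by rw [← Scheme.Hom.comp_apply, hm, Scheme.Hom.comp_apply, hp])
  exact isReduced_of_injective (asIso (m.stalkMap p)).commRingCatIsoToRingEquiv.symm.toRingHom
    (asIso (m.stalkMap p)).commRingCatIsoToRingEquiv.symm.injective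

/-- **EGA IV 11.3.13** . -/
theorem isReduced_stalk {X Y : Scheme.{u}} (f : X ⟶ Y) [Flat f] [LocallyOfFinitePresentation f] (x : X)
    [_root_.IsReduced (Y.presheaf.stalk (f.base x))]
    (hred : FBase.IsGeomReducedAt (f.fiberToSpecResidueField (f.base x)) (f.asFiber x)) :
    _root_.IsReduced (X.presheaf.stalk x) := by
  let A := Y.presheaf.stalk (f.base x)
  let h := Y.fromSpecStalk (f.base x)
  obtain ⟨x', hx', -⟩ := Scheme.Pullback.exists_preimage_pullback (f := f) (g := h) x (IsLocalRing.closedPoint A)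
    Scheme.fromSpecStalk_closedPoint.symm
  have hred' := (SecComp.geomReducedAt_iff_of_isPullback (IsPullback.of_hasPullback f h) x').2
    (by rw [hx']; exact hred)
  obtain ⟨V, hV, hxV, -⟩ := exists_isAffineOpen_mem_and_subset (U := ⊤) (Set.mem_univ x')
  obtain ⟨v, rfl⟩ : x' ∈ Set.range V.ι.base := by rw [Scheme.Opens.range_ι]; exact hxV
  haveI : IsAffine V := hV
  let f'' : (V : Scheme.{u}) ⟶ (fgCone A).pt := V.ι ≫ pullback.snd f h
  haveI : Flat f'' := inferInstanceAs (Flat (V.ι ≫ pullback.snd f h))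
  haveI : LocallyOfFinitePresentation f'' := inferInstanceAs (LocallyOfFinitePresentation (V.ι ≫ pullback.snd f h))
  haveI : QuasiCompact f'' := inferInstanceAs (QuasiCompact (V.ι ≫ pullback.snd f h))
  haveI : QuasiSeparated f'' := inferInstanceAs (QuasiSeparated (V.ι ≫ pullback.snd f h))
  haveI := isReduced_stalk_affine f'' v (geomReducedAt_openImmersion (pullback.snd f h) V.ι v hred')
  have h1 : _root_.IsReduced ((pullback f h).presheaf.stalk (V.ι.base v)) :=
    isReduced_of_injective (asIso (V.ι.stalkMap v)).commRingCatIsoToRingEquiv.toRingHom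
      (asIso (V.ι.stalkMap v)).commRingCatIsoToRingEquiv.injective
  rw [← hx']
  haveI := Groth.PropsBasic2.flat_fromSpecStalk (f.base x)
  haveI : Flat (pullback.fst f h) := MorphismProperty.pullback_fst _ _ inferInstance
  exact isReduced_of_injective ((pullback.fst f h).stalkMap (V.ι.base v)).hom
    (Groth.PropsBasic2.stalkMap_injective_of_flat (pullback.fst f h) (V.ι.base v))

end Groth.EGA43Topo.ReducedFlat
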