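import Groth.Agent.EGA43Topo.FlatUnivOpen
import Groth.Agent.EGA43Topo.OpenAt
import Groth.Agent.FibreDim.OpenFibre
import Groth.Agent.FibreDim.OpenFibreConst
import Groth.Agent.FibreDim.Equidim
import Groth.Agent.GrpschAbsch.SectionComp

/-!
# Components of the fibres along a section: dimensions and universal openness (EGA IV 15.6)
-/

set_option autoImplicit false
set_option linter.style.haveILetI false
universe u

open CategoryTheory CategoryTheory.Limits AlgebraicGeometry TopologicalSpace Topology

namespace Groth.EGA43Topo.SecComp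

variable {X Y : Scheme.{u}} (f : X ⟶ Y) (g : Y ⟶ X)

/-- The component of the fibre over `y` through the point of the section. -/
abbrev comp (y : Y) : Set X := connectedComponentIn (f.base ⁻¹' {y}) (g.base y)

/-- The component over `y` is geometrically irreducible. -/
def GeomIrr (y : Y) : Prop :=
  ∀ (K : Type u) [Field K] [Algebra (IsLocalRing.ResidueField (Y.presheaf.stalk y)) K],
    IsIrreducible ((FBase.bcπ (f.fiberToSpecResidueField y) K ≫ f.fiberι y).base ⁻¹' comp f g y)

variable {f g}

theorem apply_mem {y : Y} {x : X} (hx : x ∈ comp f g y) : f.base x = y :=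
  connectedComponentIn_subset (f.base ⁻¹' {y}) (g.base y) hx

theorem apply_section (hg : g ≫ f = 𝟙 Y) (y : Y) : f.base (g.base y) = y := by
  rw [← Scheme.Hom.comp_apply, hg]; rfl

theorem section_mem (hg : g ≫ f = 𝟙 Y) (y : Y) : g.base y ∈ comp f g y :=
  mem_connectedComponentIn (apply_section hg y)

theorem mem_comp_iff {x : X} : x ∈ MoreMor.sectionComponents f g ↔ x ∈ comp f g (f.base x) := Iff.rfl

theorem comp_eq (y : Y) : comp f g y = MoreMor.sectionComponents f g ∩ f.base ⁻¹' {y} := by
  ext x
  constructor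
  · intro hx
    refine ⟨?_, apply_mem hx⟩
    show x ∈ comp f g (f.base x)
    rw [apply_mem hx]
    exact hx
  · rintro ⟨hx, hxy⟩
    have hy : f.base x = y := hxy
    subst hy
    exact hx

/-- The component is stable under generization and specialization inside the fibre. -/
theorem mem_iff_of_specializes {y : Y} {z x : X} (hzx : z ⤳ x) (hz : f.base z = y) (hx : f.base x = y) :
    z ∈ comp f g y ↔ x ∈ comp f g y := by
  have hp : _root_.IsPreconnected ({z, x} : Set X) := isPreconnected_singleton.subset_closure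
    (Set.singleton_subset_iff.2 (Set.mem_insert _ _))
    (Set.insert_subset (subset_closure rfl) (Set.singleton_subset_iff.2 hzx.mem_closure))
  have hsub : ({z, x} : Set X) ⊆ f.base ⁻¹' {y} := Set.insert_subset hz (Set.singleton_subset_iff.2 hx)
  constructor
  · intro h
    show x ∈ connectedComponentIn _ _
    rw [connectedComponentIn_eq h]
    exact hp.subset_connectedComponentIn (Set.mem_insert _ _) hsub (Set.mem_insert_of_mem _ rfl)
  · intro h
    show z ∈ connectedComponentIn _ _
    rw [connectedComponentIn_eq h]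
    exact hp.subset_connectedComponentIn (Set.mem_insert_of_mem _ rfl) hsub (Set.mem_insert _ _)

theorem isIrreducible_of_geomIrr {y : Y} (h : GeomIrr f g y) : IsIrreducible (comp f g y) := by
  letI : Algebra (IsLocalRing.ResidueField (Y.presheaf.stalk y)) (IsLocalRing.ResidueField (Y.presheaf.stalk y)) :=
    Algebra.id _
  let b := FBase.bcπ (f.fiberToSpecResidueField y) (IsLocalRing.ResidueField (Y.presheaf.stalk y))
  haveI : Surjective b := by
    refine MorphismProperty.pullback_fst _ _ ⟨fun p => ⟨p, ?_⟩⟩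
    exact Subsingleton.elim (α := PrimeSpectrum (IsLocalRing.ResidueField (Y.presheaf.stalk y))) _ _
  have h1 := (h (IsLocalRing.ResidueField (Y.presheaf.stalk y))).image (b ≫ f.fiberι y).base
    (Scheme.Hom.continuous _).continuousOn
  rwa [Set.image_preimage_eq_of_subset] at h1
  intro x hx
  obtain ⟨a, rfl⟩ : x ∈ Set.range (f.fiberι y).base := by rw [f.range_fiberι]; exact apply_mem hx
  obtain ⟨a', rfl⟩ := b.surjective a
  exact ⟨a', rfl⟩

/-- The generic point of an irreducible component through the section. -/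
theorem exists_generic {y : Y} (hy : IsIrreducible (comp f g y)) :
    ∃ ξ : X, f.base ξ = y ∧ ξ ∈ comp f g y ∧ (∀ x ∈ comp f g y, ξ ⤳ x) ∧
      (∀ z', f.base z' = f.base ξ → z' ⤳ ξ → z' = ξ) ∧
      topologicalKrullDim ↥(comp f g y) = topologicalKrullDim ↥(closure ({f.asFiber ξ} : Set (f.fiber (f.base ξ)))) := by
  obtain ⟨x₀, hx₀⟩ := hy.1
  obtain ⟨a, ha⟩ : ∃ a : f.fiber y, (f.fiberι y).base a = x₀ :=
    (f.range_fiberι y).ge (show f.base x₀ = y from apply_mem hx₀)
  have hC : comp f g y = (f.fiberι y).base '' connectedComponent a := by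
    rw [← Groth.GrpschAbsch.NeutralSet.connectedComponentIn_range (f.fiberι y).isEmbedding a, ha,
      f.range_fiberι]
    exact connectedComponentIn_eq hx₀
  let S := connectedComponent a
  have hS : IsIrreducible S := by
    refine ⟨⟨a, mem_connectedComponent⟩, fun U V hU hV hSU hSV => ?_⟩
    obtain ⟨U', hU', rfl⟩ := (f.fiberι y).isEmbedding.isInducing.isOpen_iff.1 hU
    obtain ⟨V', hV', rfl⟩ := (f.fiberι y).isEmbedding.isInducing.isOpen_iff.1 hV
    obtain ⟨u, hu, hu'⟩ := hSU
    obtain ⟨v, hv, hv'⟩ := hSV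
    obtain ⟨w, hw, hwU, hwV⟩ := hy.2 U' V' hU' hV' ⟨_, hC.ge ⟨u, hu, rfl⟩, hu'⟩ ⟨_, hC.ge ⟨v, hv, rfl⟩, hv'⟩
    obtain ⟨w', hw', rfl⟩ := hC.le hw
    exact ⟨w', hw', hwU, hwV⟩
  obtain ⟨η, hη⟩ := QuasiSober.sober hS isClosed_connectedComponent
  let ξ := (f.fiberι y).base η
  have hξy : f.base ξ = y := Groth.FibreDim.apply_fiberι f y η
  have hξC : ξ ∈ comp f g y := hC.ge ⟨η, hη.mem, rfl⟩
  have hspec : ∀ x ∈ comp f g y, ξ ⤳ x := by
    intro x hx
    obtain ⟨x', hx', rfl⟩ := hC.le hx
    exact (hη.specializes hx').map (f.fiberι y).continuous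
  refine ⟨ξ, hξy, hξC, hspec, fun z' hz' hzξ => ?_, ?_⟩
  · exact (hzξ.antisymm (hspec z' ((mem_iff_of_specializes hzξ (hz'.trans hξy) hξy).2 hξC))).eq
  · have key : ∀ y' : Y, f.base ξ = y' → ∀ b : f.fiber y', (f.fiberι y').base b = ξ →
        comp f g y' = (f.fiberι y').base '' closure {b} →
        topologicalKrullDim ↥(comp f g y') = topologicalKrullDim ↥(closure ({f.asFiber ξ} : Set (f.fiber (f.base ξ)))) := by
      intro y' hy' b hb hCb
      subst hy'
      rw [show f.asFiber ξ = b from (f.fiberι _).isEmbedding.injective ((f.fiberι_asFiber ξ).trans hb.symm), hCb]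
      exact ((IsHomeomorph.topologicalKrullDim_eq _
        ((f.fiberι (f.base ξ)).isEmbedding.homeomorphImage (closure {b})).isHomeomorph)).symm
    refine key y hξy η rfl ?_
    rw [hη.def]
    exact hC

section Dim

variable [LocallyOfFiniteType f]

/-- The dimension of an irreducible component is the fibre dimension at each of its points. -/
theorem dim_eq_fibreDimAt {y : Y} (hy : IsIrreducible (comp f g y)) {x : X} (hx : x ∈ comp f g y) :
    topologicalKrullDim ↥(comp f g y) = FlatMor.fibreDimAt f x := by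
  obtain ⟨ξ, hξy, hξC, hspec, hmax, hdim⟩ := exists_generic hy
  obtain ⟨z, hz, hzx, hz0, hzd⟩ := Groth.FibreDim.exists_maximal_fibre_point f x
  have hzmax := (Groth.FibreDim.isMax_asFiber_iff f z).1 (Order.coheight_eq_zero.1 hz0)
  have hzy : f.base z = y := hz.trans (apply_mem hx)
  have hzξ : ξ = z := hzmax ξ (hξy.trans hzy.symm)
    (hspec z ((mem_iff_of_specializes hzx hzy (apply_mem hx)).2 hx))
  subst hzξ
  rw [hdim, Groth.Variety2.Dim.dim_closure_singleton]
  exact hzd

/-- Points of the closure of a maximal fibre point `ζ` have, over each point, fibre dimension at least that of `ζ`. -/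
theorem exists_point_over {ζ x : X} (h : ζ ⤳ x) :
    ∃ z : X, f.base z = f.base x ∧ z ⤳ x ∧ ζ ⤳ z ∧ Order.height (f.asFiber ζ) ≤ Order.height (f.asFiber z) := by
  obtain ⟨X', Y', i, j, g', _, _, _, _, _, _, hg', -, -, hri, hrj⟩ := Groth.FibreDim.exists_restrict f ζ
  obtain ⟨ζ', hζ'⟩ : ζ ∈ Set.range i.base := hri.ge (subset_closure rfl)
  obtain ⟨x', rfl⟩ : x ∈ Set.range i.base := hri.ge h.mem_closure
  have hj : ∀ w : X', j.base (g'.base w) = f.base (i.base w) := fun w => by
    rw [← Scheme.Hom.comp_apply, hg', Scheme.Hom.comp_apply]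
  have hgen : g'.base ζ' = genericPoint Y' := by
    refine (Specializes.antisymm ?_ ((genericPoint_spec Y').specializes trivial)).eq
    rw [← j.isEmbedding.toIsInducing.specializes_iff, hj, hζ', specializes_iff_mem_closure, ← hrj]
    exact ⟨_, rfl⟩
  have h1 : ((Order.height (g'.asFiber ζ') : ℕ∞) : WithBot ℕ∞) ≤
      topologicalKrullDim ↥(g'.fiber (genericPoint Y')) := by
    rw [← Groth.Variety2.Dim.dim_closure_singleton, ← hgen]
    exact topologicalKrullDim_subspace_le _ _
  obtain ⟨z', hz', hzx', -, hzd⟩ := Groth.FibreDim.exists_maximal_fibre_point g' x'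
  have h2 := WithBot.coe_le_coe.1 ((h1.trans (Groth.FibreDim.dim_generic_fiber_le g' x')).trans hzd.ge)
  refine ⟨i.base z', by rw [← hj, hz', hj], hzx'.map i.continuous,
    specializes_iff_mem_closure.2 (hri.le ⟨_, rfl⟩), ?_⟩
  rw [← hζ', ← (Groth.FibreDim.height_asFiber_restrict f i j g' hg' ζ').1,
    ← (Groth.FibreDim.height_asFiber_restrict f i j g' hg' z').1]
  exact h2

/-- If the fibre dimension along the section does not drop at a generization `y'` of `y`, the
component over `y` lies in the closure of a point of the component over `y'`. -/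
theorem exists_closure_point (hg : g ≫ f = 𝟙 Y) {y y' : Y} (hy : y' ⤳ y)
    (hirr : IsIrreducible (comp f g y))
    (hle : topologicalKrullDim ↥(comp f g y) ≤ FlatMor.fibreDimAt f (g.base y')) :
    ∃ ζ ∈ comp f g y', ∀ x ∈ comp f g y, ζ ⤳ x := by
  obtain ⟨ξ, hξy, hξC, hspec, hmax, hdim⟩ := exists_generic hirr
  obtain ⟨ζ, hζ, hζg, -, hζd⟩ := Groth.FibreDim.exists_maximal_fibre_point f (g.base y')
  have hζy : f.base ζ = y' := hζ.trans (apply_section hg y')
  refine ⟨ζ, (mem_iff_of_specializes hζg hζy (apply_section hg y')).2 (section_mem hg y'), ?_⟩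
  obtain ⟨z, hz, hzg, hζz, hh⟩ := exists_point_over (f := f) (hζg.trans (hy.map g.continuous))
  have hzy : f.base z = y := hz.trans (apply_section hg y)
  have hzC := (mem_iff_of_specializes hzg hzy (apply_section hg y)).2 (section_mem hg y)
  have hξz := hspec z hzC
  suffices hzξ : z = ξ by intro x hx; exact hζz.trans (hzξ ▸ hspec x hx)
  rw [hdim, Groth.Variety2.Dim.dim_closure_singleton, ← hζd, WithBot.coe_le_coe] at hle
  have key : ∀ y₁ : Y, ∀ a b : f.fiber y₁, b ⤳ a → Order.height b ≤ Order.height a →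
      (∃ n : ℕ, Order.height b = n) → a = b := by
    intro y₁ a b hab hle' hn
    by_contra hne
    have hlt : a < b := lt_of_le_not_ge hab fun hge => hne (Specializes.antisymm (hge : a ⤳ b) hab).eq
    obtain ⟨n, hn⟩ := hn
    have hfin : Order.height a < ⊤ := lt_of_le_of_lt (Order.height_mono hlt.le) (by rw [hn]; exact ENat.coe_lt_top n)
    exact absurd hle' (not_le.2 (Order.height_strictMono hlt hfin))
  obtain ⟨n, hn⟩ := Groth.FibreDim.fibreDimAt_ne_top f ξ
  rw [(Groth.FibreDim.fibreDimAt_eq_height_of_max f hmax).1] at hn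
  suffices H : ∀ y₁ : Y, f.base ξ = y₁ → ∀ a b : f.fiber y₁, (f.fiberι y₁).base a = z →
      (f.fiberι y₁).base b = ξ → Order.height b ≤ Order.height a → (∃ n : ℕ, Order.height b = n) → z = ξ by
    obtain ⟨a, ha⟩ : ∃ a, (f.fiberι (f.base ξ)).base a = z :=
      (f.range_fiberι _).ge (show f.base z = f.base ξ by rw [hzy, hξy])
    refine H _ rfl a (f.asFiber ξ) ha (f.fiberι_asFiber ξ) ?_ ⟨n, WithBot.coe_eq_coe.1 hn⟩
    refine (hle.trans hh).trans_eq ?_
    suffices e : ∀ y₁ : Y, f.base z = y₁ → ∀ c : f.fiber y₁, (f.fiberι y₁).base c = z →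
        Order.height (f.asFiber z) = Order.height c from e _ (hzy.trans hξy.symm) a ha
    intro y₁ hy₁ c hc
    subst hy₁
    rw [show c = f.asFiber z from (f.fiberι _).isEmbedding.injective (hc.trans (f.fiberι_asFiber z).symm)]
  intro y₁ _ a b ha hb hle' hn'
  rw [← ha, ← hb, key y₁ a b ?_ hle' hn']
  rw [← (f.fiberι y₁).isEmbedding.toIsInducing.specializes_iff, ha, hb]
  exact hξz

end Dim

section BaseChange

variable (hg : g ≫ f = 𝟙 Y) {Y' : Scheme.{u}} (h : Y' ⟶ Y)

include hg

/-- The base change of the section. -/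
noncomputable def pullbackSection : Y' ⟶ pullback f h :=
  pullback.lift (h ≫ g) (𝟙 _) (by rw [Category.assoc, hg, Category.comp_id, Category.id_comp])

omit hg in
theorem pullbackSection_snd (hg : g ≫ f = 𝟙 Y) : pullbackSection hg h ≫ pullback.snd f h = 𝟙 _ :=
  pullback.lift_snd ..

omit hg in
theorem fst_pullbackSection (hg : g ≫ f = 𝟙 Y) (y' : Y') :
    (pullback.fst f h).base ((pullbackSection hg h).base y') = g.base (h.base y') := by
  rw [← Scheme.Hom.comp_apply, pullbackSection, pullback.lift_fst]
  rfl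

theorem comp_pullback (y' : Y') : comp (pullback.snd f h) (pullbackSection hg h) y' =
    (pullback.fst f h).base ⁻¹' comp f g (h.base y') ∩ (pullback.snd f h).base ⁻¹' {y'} := by
  rw [comp_eq, Groth.GrpschAbsch.SectionComp.preimage_sectionComponents hg (IsPullback.of_hasPullback f h)
    (pullbackSection_snd h hg) (pullback.lift_fst ..)]
  refine Set.ext fun x => and_congr_left fun hx => ?_
  have h2 : f.base ((pullback.fst f h).base x) = h.base y' := by
    rw [← Scheme.Hom.comp_apply, pullback.condition, Scheme.Hom.comp_apply, show (pullback.snd f h).base x = y' from hx]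
  rw [Set.mem_preimage, mem_comp_iff, h2]
  rfl

theorem isIrreducible_comp_pullback {y : Y} (hy : GeomIrr f g y) {y' : Y'} (hy' : h.base y' = y) :
    IsIrreducible (comp (pullback.snd f h) (pullbackSection hg h) y') := by
  subst hy'
  rw [comp_pullback hg h]
  obtain ⟨q, hq, hsq⟩ := FlatUnivOpen.exists_fibre_isPullback f h y'
  let K : Type u := IsLocalRing.ResidueField (Y'.presheaf.stalk y')
  letI : Algebra (IsLocalRing.ResidueField (Y.presheaf.stalk (h.base y'))) K := (h.residueFieldMap y').hom.toAlgebra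
  let e := hsq.isoPullback
  let ι' := (pullback.snd f h).fiberι y'
  have hset : ι'.base '' (e.hom.base ⁻¹'
      ((FBase.bcπ (f.fiberToSpecResidueField (h.base y')) K ≫ f.fiberι (h.base y')).base ⁻¹' comp f g (h.base y'))) =
      (pullback.fst f h).base ⁻¹' comp f g (h.base y') ∩ (pullback.snd f h).base ⁻¹' {y'} := by
    have he : ∀ z, (f.fiberι (h.base y')).base ((FBase.bcπ (f.fiberToSpecResidueField (h.base y')) K).base (e.hom.base z))
        = (pullback.fst f h).base (ι'.base z) := fun z => by
      refine (congrArg (fun m => (f.fiberι (h.base y')).base (m.base z)) hsq.isoPullback_hom_fst).trans ?_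
      exact congrArg (fun m => m.base z) hq
    ext x
    constructor
    · rintro ⟨z, hz, rfl⟩
      refine ⟨?_, Groth.FibreDim.apply_fiberι _ y' z⟩
      show (pullback.fst f h).base (ι'.base z) ∈ comp f g (h.base y')
      rw [← he]
      exact hz
    · rintro ⟨hxC, hxy⟩
      obtain ⟨z, rfl⟩ : x ∈ Set.range ι'.base := by rw [(pullback.snd f h).range_fiberι]; exact hxy
      exact ⟨z, show _ ∈ comp f g _ from (he z).symm ▸ hxC, rfl⟩
  rw [← hset]
  have h1 := (hy K).image e.inv.base (Scheme.Hom.continuous _).continuousOn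
  refine IsIrreducible.image ?_ _ (Scheme.Hom.continuous _).continuousOn
  convert h1 using 1
  ext z
  constructor
  · intro hz
    exact ⟨e.hom.base z, hz, by rw [← Scheme.Hom.comp_apply, e.hom_inv_id]; rfl⟩
  · rintro ⟨w, hw, rfl⟩
    rw [Set.mem_preimage, show e.hom.base (e.inv.base w) = w from congrArg (fun m => m.base w) e.inv_hom_id]
    exact hw

theorem dim_comp_pullback [LocallyOfFiniteType f] {y : Y} (hy : GeomIrr f g y) {y' : Y'} (hy' : h.base y' = y) :
    topologicalKrullDim ↥(comp (pullback.snd f h) (pullbackSection hg h) y') =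
      topologicalKrullDim ↥(comp f g y) := by
  rw [dim_eq_fibreDimAt (isIrreducible_comp_pullback hg h hy hy') (section_mem (pullbackSection_snd h hg) y'),
    dim_eq_fibreDimAt (isIrreducible_of_geomIrr hy) (section_mem hg y),
    Groth.FibreDim.fibreDimAt_baseChange f h _ _ (IsPullback.of_hasPullback f h), fst_pullbackSection, hy']

/-- Generizations lift at points of the component, after any base change. -/
theorem exists_specializes_pullback [LocallyOfFiniteType f] {y : Y} (hy : GeomIrr f g y)
    (hd : ∀ z, z ⤳ y → topologicalKrullDim ↥(comp f g y) ≤ FlatMor.fibreDimAt f (g.base z))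
    (x' : ↥(pullback f h)) (hx' : (pullback.fst f h).base x' ∈ comp f g y)
    {z : Y'} (hz : z ⤳ (pullback.snd f h).base x') :
    ∃ w ∈ comp (pullback.snd f h) (pullbackSection hg h) z, w ⤳ x' := by
  let y' := (pullback.snd f h).base x'
  have hyy : h.base y' = y := by
    rw [← Scheme.Hom.comp_apply, ← pullback.condition, Scheme.Hom.comp_apply, apply_mem hx']
  have hgd : topologicalKrullDim ↥(comp (pullback.snd f h) (pullbackSection hg h) y') ≤
      FlatMor.fibreDimAt (pullback.snd f h) ((pullbackSection hg h).base z) := by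
    rw [dim_comp_pullback hg h hy hyy, Groth.FibreDim.fibreDimAt_baseChange f h _ _ (IsPullback.of_hasPullback f h),
      fst_pullbackSection]
    exact hd _ (hyy ▸ hz.map h.continuous)
  obtain ⟨w, hw, hwC⟩ := exists_closure_point (pullbackSection_snd h hg) hz
    (isIrreducible_comp_pullback hg h hy hyy) hgd
  refine ⟨w, hw, hwC x' ?_⟩
  rw [comp_pullback hg h]
  exact ⟨by rw [Set.mem_preimage, hyy]; exact hx', rfl⟩

end BaseChange

/-- **EGA IV 15.6.3** : no drop of dimension along generizations gives universal openness. -/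
theorem isUnivOpenAt_of_dim [LocallyOfFinitePresentation f] (hg : g ≫ f = 𝟙 Y) {y : Y} (hy : GeomIrr f g y)
    (hd : ∀ z, z ⤳ y → topologicalKrullDim ↥(comp f g y) ≤ FlatMor.fibreDimAt f (g.base z))
    {x : X} (hx : x ∈ comp f g y) : EGA43.IsUnivOpenAt f x := by
  intro Y' h x' hx'
  refine isOpenAt_of_generizations _ _ fun U hxU z hz => ?_
  obtain ⟨w, hw, hwx⟩ := exists_specializes_pullback hg h hy hd x' (hx'.symm ▸ hx) hz
  exact ⟨w, hwx.mem_open U.isOpen hxU, apply_mem hw⟩

end Groth.EGA43Topo.SecComp
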