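import Groth.Agent.EGA43Topo.SectionComp

/-!
# Semicontinuity of the dimension of the components along a section (EGA IV 15.6)
-/

set_option autoImplicit false
set_option linter.style.haveILetI false
universe u

open CategoryTheory CategoryTheory.Limits AlgebraicGeometry TopologicalSpace Topology

namespace Groth.EGA43Topo.SecComp

variable {X Y : Scheme.{u}} {f : X ⟶ Y} {g : Y ⟶ X} [LocallyOfFiniteType f]

/-- The component contains, at each of its points, the full fibre dimension. -/
theorem fibreDimAt_le_dim {y : Y} {x : X} (hx : x ∈ comp f g y) :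
    FlatMor.fibreDimAt f x ≤ topologicalKrullDim ↥(comp f g y) := by
  obtain ⟨z, hz, hzx, -, hzd⟩ := Groth.FibreDim.exists_maximal_fibre_point f x
  rw [← hzd, ← Groth.Variety2.Dim.dim_closure_singleton]
  have hzy : f.base z = y := hz.trans (apply_mem hx)
  have hmem : ∀ b ∈ closure ({f.asFiber z} : Set (f.fiber (f.base z))), (f.fiberι _).base b ∈ comp f g y := by
    intro b hb
    have h1 : z ⤳ (f.fiberι _).base b := by
      have := (specializes_iff_mem_closure.2 hb).map (f.fiberι (f.base z)).continuous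
      rwa [f.fiberι_asFiber] at this
    exact (mem_iff_of_specializes h1 hzy ((Groth.FibreDim.apply_fiberι f _ b).trans hzy)).1
      ((mem_iff_of_specializes hzx hzy (apply_mem hx)).2 hx)
  let m : ↥(closure ({f.asFiber z} : Set (f.fiber (f.base z)))) → ↥(comp f g y) :=
    fun b => ⟨(f.fiberι _).base b.1, hmem b.1 b.2⟩
  have hm : IsInducing m := by
    have h2 : IsInducing (Subtype.val ∘ m) := ((f.fiberι (f.base z)).isEmbedding.comp IsEmbedding.subtypeVal).isInducing
    exact IsInducing.subtypeVal.of_comp_iff.1 h2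
  exact hm.topologicalKrullDim_le

theorem upperSemicontinuous_fibreDimAt_section : UpperSemicontinuous (fun y : Y => FlatMor.fibreDimAt f (g.base y)) := by
  refine upperSemicontinuous_iff_isOpen_preimage.2 fun c => ?_
  have : (fun y : Y => FlatMor.fibreDimAt f (g.base y)) ⁻¹' Set.Iio c =
      ⋃ n : {n : ℕ // (n : WithBot ℕ∞) < c}, g.base ⁻¹' {x | FlatMor.fibreDimAt f x ≤ n.1} := by
    ext y
    obtain ⟨m, hm⟩ := Groth.FibreDim.fibreDimAt_ne_top f (g.base y)
    simp only [Set.mem_preimage, Set.mem_Iio, Set.mem_iUnion, Set.mem_setOf_eq]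
    exact ⟨fun h => ⟨⟨m, hm ▸ h⟩, hm.le⟩, fun ⟨⟨n, hn⟩, hle⟩ => hle.trans_lt hn⟩
  rw [this]
  exact isOpen_iUnion fun n => (Groth.FibreDim.isOpen_fibreDimAt_le f n.1).preimage g.continuous

theorem upperSemicontinuous_dim (hg : g ≫ f = 𝟙 Y) (hirr : ∀ y, IsIrreducible (comp f g y)) :
    UpperSemicontinuous (fun y : Y => topologicalKrullDim ↥(comp f g y)) := by
  simp_rw [dim_eq_fibreDimAt (hirr _) (section_mem hg _)]
  exact upperSemicontinuous_fibreDimAt_section

/-- Constancy near `y` bounds the dimension at the generizations of `y`. -/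
theorem le_fibreDimAt_of_eventually (hg : g ≫ f = 𝟙 Y) (hirr : ∀ y, IsIrreducible (comp f g y)) {y : Y}
    (hc : ∃ V ∈ nhds y, ∀ z ∈ V, topologicalKrullDim ↥(comp f g z) = topologicalKrullDim ↥(comp f g y))
    {z : Y} (hz : z ⤳ y) : topologicalKrullDim ↥(comp f g y) ≤ FlatMor.fibreDimAt f (g.base z) := by
  obtain ⟨V, hV, hVc⟩ := hc
  rw [← dim_eq_fibreDimAt (hirr z) (section_mem hg z), hVc z (mem_of_mem_nhds (hz hV))]

/-- A geometrically reduced point of a component with universally open generic point is good. -/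
theorem goodFibre_of {y : Y} (hirr : IsIrreducible (comp f g y))
    (hopen : ∀ ξ ∈ comp f g y, comp f g y ⊆ closure {ξ} → EGA43.IsUnivOpenAt f ξ)
    {x : X} (hx : x ∈ comp f g y)
    (hred : FBase.IsGeomReducedAt (f.fiberToSpecResidueField (f.base x)) (f.asFiber x)) :
    FlatUnivOpen.GoodFibre f x := by
  refine ⟨fun z hz hmax => ?_, hred⟩
  obtain ⟨ξ, hξy, hξC, hspec, -, -⟩ := exists_generic hirr
  have hzx : (f.fiberι _).base z ⤳ x := by
    have := (specializes_iff_mem_closure.2 hz).map (f.fiberι (f.base x)).continuous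
    rwa [f.fiberι_asFiber] at this
  have hzy : f.base ((f.fiberι _).base z) = y := (Groth.FibreDim.apply_fiberι f _ z).trans (apply_mem hx)
  have hzC := (mem_iff_of_specializes hzx hzy (apply_mem hx)).2 hx
  obtain ⟨ξ', hξ'⟩ : ξ ∈ Set.range (f.fiberι (f.base x)).base := by
    rw [f.range_fiberι]
    exact hξy.trans (apply_mem hx).symm
  have hzξ : ξ' = z := hmax ξ' (specializes_iff_mem_closure.1
    ((f.fiberι (f.base x)).isEmbedding.toIsInducing.specializes_iff.1 (hξ' ▸ hspec _ hzC)))
  rw [← hzξ, hξ']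
  exact hopen ξ hξC fun a ha => (hspec a ha).mem_closure

theorem goodFibre_of_dim [LocallyOfFinitePresentation f] (hg : g ≫ f = 𝟙 Y) {y : Y} (hy : GeomIrr f g y)
    (hd : ∀ z, z ⤳ y → topologicalKrullDim ↥(comp f g y) ≤ FlatMor.fibreDimAt f (g.base z))
    {x : X} (hx : x ∈ comp f g y)
    (hred : FBase.IsGeomReducedAt (f.fiberToSpecResidueField (f.base x)) (f.asFiber x)) :
    FlatUnivOpen.GoodFibre f x :=
  goodFibre_of (isIrreducible_of_geomIrr hy) (fun _ hξ _ => isUnivOpenAt_of_dim hg hy hd hξ) hx hred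

end Groth.EGA43Topo.SecComp
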