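import Groth.Agent.EGA43Valuative.DominatingDVR
import Mathlib.RingTheory.TensorProduct.DirectLimitFG
import Mathlib.RingTheory.LocalRing.ResidueField.Ideal
import Mathlib.RingTheory.Spectrum.Prime.Basic

/-!
# Lifting generizations in a tensor product: reduction to discrete valuation rings
-/

namespace Groth.EGA43Topo

open TensorProduct

universe u v w

/-- A prime `p` lifts below `q` as soon as no `g ∉ q` has a multiple by an element outside `p` in
the ideal generated by `p`. -/
lemma exists_le_comap_eq {R : Type u} {S : Type v} [CommRing R] [CommRing S] (f : R →+* S)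
    (q : Ideal S) [q.IsPrime] (p : Ideal R) [p.IsPrime]
    (h : ∀ g ∉ q, ∀ r ∉ p, g * f r ∉ p.map f) :
    ∃ q' : Ideal S, q'.IsPrime ∧ q' ≤ q ∧ q'.comap f = p := by
  let M : Submonoid S := q.primeCompl ⊔ p.primeCompl.map (f : R →* S)
  have hdis : Disjoint (p.map f : Set S) M := by
    rw [Set.disjoint_left]
    intro x hx hxM
    obtain ⟨g, hg, _, ⟨r, hr, rfl⟩, rfl⟩ := Submonoid.mem_sup.1 hxM
    exact h g hg r hr hx
  obtain ⟨q', hq', hle, hdisj⟩ := Ideal.exists_le_prime_disjoint (p.map f) M hdis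
  refine ⟨q', hq', fun x hx => by_contra fun hxq => ?_, le_antisymm (fun r hr => by_contra fun hrp => ?_)
    (Ideal.map_le_iff_le_comap.1 hle)⟩
  · exact Set.disjoint_left.1 hdisj hx (Submonoid.mem_sup_left hxq)
  · exact Set.disjoint_left.1 hdisj hr (Submonoid.mem_sup_right ⟨r, hrp, rfl⟩)

section Field

variable {R A B D : Type*} [CommRing R] [CommRing A] [CommRing B] [CommRing D]
  [Algebra R A] [Algebra R B] [Algebra R D]

/-- A prime of `D ⊗ B` and a prime of an algebra over `D` with the same trace on `D` come from a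
common prime. -/
lemma exists_prime_tensor (φ : D →ₐ[R] A) (P : Ideal A) [P.IsPrime] (Q : Ideal (D ⊗[R] B))
    [Q.IsPrime] (h : P.comap φ = Q.comap Algebra.TensorProduct.includeLeftRingHom) :
    ∃ Q' : Ideal (A ⊗[R] B), Q'.IsPrime ∧
      Q'.comap Algebra.TensorProduct.includeLeftRingHom = P ∧
      Q'.comap (Algebra.TensorProduct.map φ (AlgHom.id R B)).toRingHom = Q := by
  let p : Ideal D := P.comap φ
  haveI : p.IsPrime := Ideal.IsPrime.comap _
  let ι : D →+* D ⊗[R] B := Algebra.TensorProduct.includeLeftRingHom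
  letI : Algebra p.ResidueField P.ResidueField :=
    (Ideal.ResidueField.map p P φ.toRingHom rfl).toAlgebra
  letI : Algebra p.ResidueField Q.ResidueField :=
    (Ideal.ResidueField.map p Q ι h).toAlgebra
  let T := P.ResidueField ⊗[p.ResidueField] Q.ResidueField
  haveI : Nontrivial T := inferInstance
  obtain ⟨M, hM⟩ := Ideal.exists_maximal T
  let i₁ : P.ResidueField →+* T := Algebra.TensorProduct.includeLeftRingHom
  let i₂ : Q.ResidueField →+* T :=
    (Algebra.TensorProduct.includeRight (R := p.ResidueField) (A := P.ResidueField)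
      (B := Q.ResidueField)).toRingHom
  let a : A →+* T := i₁.comp (algebraMap A P.ResidueField)
  let e : D ⊗[R] B →+* T := i₂.comp (algebraMap (D ⊗[R] B) Q.ResidueField)
  have hD : a.comp φ.toRingHom = e.comp ι := by
    ext d
    have h1 : i₁ ((algebraMap p.ResidueField P.ResidueField) (algebraMap D p.ResidueField d)) =
        i₂ ((algebraMap p.ResidueField Q.ResidueField) (algebraMap D p.ResidueField d)) :=
      (Algebra.TensorProduct.includeLeft (R := p.ResidueField) (S := p.ResidueField)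
        (A := P.ResidueField) (B := Q.ResidueField)).commutes _ |>.trans
      ((Algebra.TensorProduct.includeRight (R := p.ResidueField) (A := P.ResidueField)
        (B := Q.ResidueField)).commutes _).symm
    simp only [RingHom.algebraMap_toAlgebra, Ideal.ResidueField.map_algebraMap] at h1
    exact h1
  letI : Algebra R T := ((a.comp φ.toRingHom).comp (algebraMap R D)).toAlgebra
  let aR : A →ₐ[R] T :=
    { a with
      commutes' := fun r => by
        show a (algebraMap R A r) = a (φ (algebraMap R D r))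
        rw [φ.commutes] }
  let bR : B →ₐ[R] T :=
    { e.comp (Algebra.TensorProduct.includeRight (R := R) (A := D) (B := B)).toRingHom with
      commutes' := fun r => by
        show e (Algebra.TensorProduct.includeRight (algebraMap R B r)) = _
        rw [AlgHom.commutes]
        exact (RingHom.congr_fun hD (algebraMap R D r)).symm }
  let u : A ⊗[R] B →ₐ[R] T := Algebra.TensorProduct.productMap aR bR
  have hu₁ : ∀ x y, u (x ⊗ₜ y) = aR x * bR y := fun x y =>
    Algebra.TensorProduct.productMap_apply_tmul _ _ x y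
  have hu : u.toRingHom.comp (Algebra.TensorProduct.map φ (AlgHom.id R B)).toRingHom = e := by
    refine Algebra.TensorProduct.ringHom_ext (RingHom.ext fun d => ?_) (RingHom.ext fun b => ?_)
    · show u ((φ d) ⊗ₜ (1 : B)) = e (d ⊗ₜ 1)
      rw [hu₁, map_one, mul_one]
      exact RingHom.congr_fun hD d
    · show u ((φ 1) ⊗ₜ b) = e (1 ⊗ₜ b)
      rw [hu₁, map_one, map_one, one_mul]
      rfl
  refine ⟨M.comap u.toRingHom, Ideal.IsPrime.comap _, ?_, ?_⟩
  · rw [Ideal.comap_comap, show u.toRingHom.comp Algebra.TensorProduct.includeLeftRingHom = a from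
      RingHom.ext fun x => by
        show u (x ⊗ₜ (1 : B)) = a x
        rw [hu₁, map_one, mul_one]; rfl]
    rw [← Ideal.comap_comap,
      (Ideal.eq_bot_or_top (M.comap i₁)).resolve_right (Ideal.comap_ne_top _ hM.ne_top),
      ← RingHom.ker_eq_comap_bot, Ideal.ker_algebraMap_residueField]
  · rw [Ideal.comap_comap, hu, ← Ideal.comap_comap,
      (Ideal.eq_bot_or_top (M.comap i₂)).resolve_right (Ideal.comap_ne_top _ hM.ne_top),
      ← RingHom.ker_eq_comap_bot, Ideal.ker_algebraMap_residueField]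

end Field

/-- Over a Noetherian ring, lifting generizations in all tensor products follows from the case of
discrete valuation rings. -/
theorem exists_le_comap_eq_tensor {R : Type u} [CommRing R] [IsNoetherianRing R]
    {B : Type u} [CommRing B] [Algebra R B] (q : Ideal B)
    (h : ∀ (A : Type u) [CommRing A] [IsDomain A] [IsDiscreteValuationRing A] [Algebra R A]
      (Q : Ideal (A ⊗[R] B)) [Q.IsPrime],
      Q.comap Algebra.TensorProduct.includeLeftRingHom = IsLocalRing.maximalIdeal A →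
      Q.comap Algebra.TensorProduct.includeRight.toRingHom = q →
      ∃ Q' : Ideal (A ⊗[R] B), Q'.IsPrime ∧ Q' ≤ Q ∧
        Q'.comap Algebra.TensorProduct.includeLeftRingHom ≠ IsLocalRing.maximalIdeal A)
    (D : Type u) [CommRing D] [Algebra R D] (Q : Ideal (D ⊗[R] B)) [Q.IsPrime]
    (hq : Q.comap Algebra.TensorProduct.includeRight.toRingHom = q)
    (p0 : Ideal D) [p0.IsPrime] (hp0 : p0 ≤ Q.comap Algebra.TensorProduct.includeLeftRingHom) :
    ∃ Q' : Ideal (D ⊗[R] B), Q'.IsPrime ∧ Q' ≤ Q ∧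
      Q'.comap Algebra.TensorProduct.includeLeftRingHom = p0 := by
  refine exists_le_comap_eq _ Q p0 fun g hg r hr hgr => ?_
  -- push to the domain `D ⧸ p0`, then descend to a finitely generated subalgebra
  let π : D ⊗[R] B →ₐ[R] (D ⧸ p0) ⊗[R] B :=
    Algebra.TensorProduct.map (Ideal.Quotient.mkₐ R p0) (AlgHom.id R B)
  have hπ0 : π (g * r ⊗ₜ 1) = 0 := by
    have h1 : p0.map Algebra.TensorProduct.includeLeftRingHom ≤ RingHom.ker π.toRingHom := by
      rw [Ideal.map_le_iff_le_comap]
      intro c hc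
      show π (c ⊗ₜ 1) = 0
      rw [Algebra.TensorProduct.map_tmul, Ideal.Quotient.mkₐ_eq_mk,
        Ideal.Quotient.eq_zero_iff_mem.2 hc, zero_tmul]
    exact h1 hgr
  obtain ⟨A₀, hA₀, g₀, hg₀⟩ := TensorProduct.Algebra.exists_of_fg (π g)
  let A₁ := A₀ ⊔ Algebra.adjoin R {Ideal.Quotient.mk p0 r}
  have hA₁ : A₁.FG := hA₀.sup ⟨{Ideal.Quotient.mk p0 r}, by rw [Finset.coe_singleton]⟩
  have hrA₁ : Ideal.Quotient.mk p0 r ∈ A₁ :=
    SetLike.le_def.1 le_sup_right (Algebra.self_mem_adjoin_singleton _ _)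
  let g₁ : A₁ ⊗[R] B := (Algebra.TensorProduct.map (Subalgebra.inclusion (le_sup_left : A₀ ≤ A₁))
    (AlgHom.id R B) : A₀ ⊗[R] B →ₐ[R] A₁ ⊗[R] B) g₀
  have hval : ∀ (C : Subalgebra R (D ⧸ p0)) (z : C ⊗[R] B),
      C.val.toLinearMap.rTensor B z = Algebra.TensorProduct.map C.val (AlgHom.id R B) z := fun C z => by
    induction z with
    | zero => simp
    | tmul c b => simp
    | add x y hx hy => simp [hx, hy]
  let z₁ : A₁ ⊗[R] B := g₁ * (⟨_, hrA₁⟩ : A₁) ⊗ₜ 1
  have hz₁ : Algebra.TensorProduct.map A₁.val (AlgHom.id R B) g₁ = π g := by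
    rw [← hg₀, hval]
    exact (AlgHom.congr_fun (Algebra.TensorProduct.map_comp _ _ _ _) g₀).symm
  obtain ⟨A₂, hle, hA₂, hz⟩ := TensorProduct.Algebra.eq_of_fg_of_subtype_eq hA₁ (t := z₁) (t' := 0)
    (by
      rw [map_zero, hval, map_mul, hz₁, Algebra.TensorProduct.map_tmul, map_one]
      refine Eq.trans ?_ hπ0
      rw [map_mul]
      rfl)
  rw [map_zero] at hz
  haveI : Algebra.FiniteType R A₂ := (Subalgebra.fg_iff_finiteType A₂).1 hA₂
  haveI : IsNoetherianRing A₂ := Algebra.FiniteType.isNoetherianRing R A₂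
  let j : A₂ ⊗[R] B →ₐ[R] (D ⧸ p0) ⊗[R] B := Algebra.TensorProduct.map A₂.val (AlgHom.id R B)
  let g₂ : A₂ ⊗[R] B := Algebra.TensorProduct.map (Subalgebra.inclusion hle) (AlgHom.id R B) g₁
  let r₂ : A₂ := ⟨_, hle hrA₁⟩
  have hg₂r : g₂ * r₂ ⊗ₜ 1 = 0 := by
    rw [← hz]
    have : ∀ z : A₁ ⊗[R] B, (Subalgebra.inclusion hle).toLinearMap.rTensor B z =
        Algebra.TensorProduct.map (Subalgebra.inclusion hle) (AlgHom.id R B) z := fun z => by
      induction z with
      | zero => simp
      | tmul c b => simp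
      | add x y hx hy => simp [hx, hy]
    rw [this, map_mul, Algebra.TensorProduct.map_tmul, map_one]
    rfl
  have hjg₂ : j g₂ = π g := by
    rw [← hz₁]
    exact (AlgHom.congr_fun (Algebra.TensorProduct.map_comp _ _ _ _) g₁).symm
  -- the prime of `(D ⧸ p0) ⊗ B` image of `Q`
  haveI : ((Q.comap (Algebra.TensorProduct.includeLeftRingHom : D →+* D ⊗[R] B)).map
      (Ideal.Quotient.mk p0)).IsPrime :=
    Ideal.map_isPrime_of_surjective Ideal.Quotient.mk_surjective (by rwa [Ideal.mk_ker])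
  obtain ⟨Qbar, hQbar, -, hQQ⟩ := exists_prime_tensor (A := D ⧸ p0) (B := B)
    (Ideal.Quotient.mkₐ R p0)
    ((Q.comap Algebra.TensorProduct.includeLeftRingHom).map (Ideal.Quotient.mk p0))
    Q (by
      show Ideal.comap (Ideal.Quotient.mk p0) _ = _
      rw [Ideal.comap_map_of_surjective _ Ideal.Quotient.mk_surjective, ← RingHom.ker_eq_comap_bot,
        Ideal.mk_ker, sup_of_le_left hp0])
  let Q₂ : Ideal (A₂ ⊗[R] B) := Qbar.comap j.toRingHom
  haveI : Q₂.IsPrime := Ideal.IsPrime.comap _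
  have hgQ₂ : g₂ ∉ Q₂ := fun hm => hg (by
    rw [← hQQ, Ideal.mem_comap]
    show π g ∈ Qbar
    rw [← hjg₂]
    exact hm)
  have hr₂ : r₂ ≠ 0 := fun h0 => hr (Ideal.Quotient.eq_zero_iff_mem.1 (congrArg Subtype.val h0))
  let p : Ideal A₂ := Q₂.comap Algebra.TensorProduct.includeLeftRingHom
  haveI : p.IsPrime := Ideal.IsPrime.comap _
  by_cases hp : p = ⊥
  · rcases (‹Q₂.IsPrime›).mem_or_mem (hg₂r ▸ Q₂.zero_mem : g₂ * r₂ ⊗ₜ 1 ∈ Q₂) with hm | hm
    · exact hgQ₂ hm
    · exact hr₂ ((Submodule.eq_bot_iff _).1 hp r₂ hm)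
  -- a discrete valuation ring dominating `(A₂)_p`
  let L := Localization.AtPrime p
  have hL : ¬ IsField L := fun hf => hp (by
    rw [← IsLocalization.AtPrime.comap_maximalIdeal L p, IsLocalRing.isField_iff_maximalIdeal_eq.1 hf]
    exact Ideal.comap_bot_of_injective _
      (IsLocalization.injective L p.primeCompl_le_nonZeroDivisors))
  obtain ⟨V, _, _, _, φ, hφ, hφloc⟩ := Groth.EGA43Val.exists_dvr_dominating L hL
  haveI := hφloc
  let ψ : A₂ →+* V := φ.comp (algebraMap A₂ L)
  letI : Algebra R V := (ψ.comp (algebraMap R A₂)).toAlgebra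
  let ψR : A₂ →ₐ[R] V := { ψ with commutes' := fun _ => rfl }
  obtain ⟨Q₃, hQ₃, hQ₃V, hQ₃Q⟩ := exists_prime_tensor (B := B) ψR (IsLocalRing.maximalIdeal V) Q₂ (by
    show Ideal.comap (φ.comp (algebraMap A₂ L)) _ = p
    rw [← Ideal.comap_comap,
      IsLocalRing.maximalIdeal_comap φ]
    exact IsLocalization.AtPrime.comap_maximalIdeal L p)
  let m : A₂ ⊗[R] B →ₐ[R] V ⊗[R] B := Algebra.TensorProduct.map ψR (AlgHom.id R B)
  obtain ⟨Q', hQ', hle', hne⟩ := h V Q₃ hQ₃V (by
    rw [← hq, ← hQQ]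
    have h1 : Q₃.comap (Algebra.TensorProduct.includeRight (R := R) (A := V) (B := B)).toRingHom =
        Q₂.comap (Algebra.TensorProduct.includeRight (R := R) (A := A₂) (B := B)).toRingHom := by
      rw [← hQ₃Q, Ideal.comap_comap]
      congr 1
      refine RingHom.ext fun b => ?_
      simp
    rw [h1, Ideal.comap_comap, Ideal.comap_comap]
    congr 1)
  haveI := hQ'
  have hbot : Q'.comap (Algebra.TensorProduct.includeLeftRingHom : V →+* V ⊗[R] B) = ⊥ := by
    by_contra h0
    exact hne (IsLocalRing.eq_maximalIdeal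
      ((inferInstance : Ideal.IsPrime (Q'.comap (Algebra.TensorProduct.includeLeftRingHom :
        V →+* V ⊗[R] B))).isMaximal h0))
  rcases hQ'.mem_or_mem (show m g₂ * m (r₂ ⊗ₜ 1) ∈ Q' by
      rw [← map_mul, hg₂r, map_zero]; exact Q'.zero_mem) with hm | hm
  · exact hgQ₂ (by rw [← hQ₃Q]; exact hle' hm)
  · have h1 : ψ r₂ ∈ Q'.comap (Algebra.TensorProduct.includeLeftRingHom : V →+* V ⊗[R] B) := by
      simpa [m, ψR] using hm
    rw [hbot, Ideal.mem_bot, ← map_zero ψ] at h1
    exact hr₂ ((hφ.comp (IsLocalization.injective L p.primeCompl_le_nonZeroDivisors)) h1)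

end Groth.EGA43Topo
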