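import Groth.Agent.EGA43Topo.UnibranchLift
import Groth.Agent.FlatMor2.FibreDense
import Groth.Agent.Hensel1.Unibranch

/-!
# Chevalley's criterion, ring-theoretic form (EGA IV 14.4.1)
-/

universe u

open TensorProduct

namespace Groth.EGA43Topo

lemma isIntegral_mvPolynomial_map {A₁ A' : Type u} [CommRing A₁] [CommRing A'] [Algebra A₁ A']
    [Algebra.IsIntegral A₁ A'] (d : ℕ) :
    (MvPolynomial.map (σ := Fin d) (algebraMap A₁ A')).IsIntegral := fun b => by
  induction b using MvPolynomial.induction_on with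
  | C a =>
    obtain ⟨p, hp, hpa⟩ := Algebra.IsIntegral.isIntegral (R := A₁) a
    refine ⟨p.map MvPolynomial.C, hp.map _, ?_⟩
    rw [Polynomial.eval₂_map, show (MvPolynomial.map (σ := Fin d) (algebraMap A₁ A')).comp MvPolynomial.C =
      (MvPolynomial.C : A' →+* _).comp (algebraMap A₁ A') from RingHom.ext fun a => MvPolynomial.map_C _ a,
      ← Polynomial.hom_eval₂, hpa, map_zero]
  | add p q hp hq => exact RingHom.IsIntegralElem.add _ hp hq
  | mul_X p i hp =>
    refine RingHom.IsIntegralElem.mul _ hp ?_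
    rw [← MvPolynomial.map_X (algebraMap A₁ A') i]
    exact RingHom.isIntegralElem_map _

/-- An integrally closed integral extension inside the fraction field is the normalization. -/
lemma exists_surjective_normalization {R₁ B F : Type u} [CommRing R₁] [IsDomain R₁] [CommRing B]
    [IsDomain B] [IsIntegrallyClosed B] [Field F] [Algebra R₁ F] [IsFractionRing R₁ F]
    (μ : R₁ →+* B) (hμ : μ.IsIntegral) (ψ₀ : B →+* F) (hψμ : ψ₀.comp μ = algebraMap R₁ F) :
    ∃ ψ : B →+* integralClosure R₁ F, Function.Surjective ψ ∧ (∀ r, ψ (μ r) = algebraMap R₁ _ r) := by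
  letI := μ.toAlgebra
  letI := ψ₀.toAlgebra
  haveI : IsScalarTower R₁ B F := IsScalarTower.of_algebraMap_eq' hψμ.symm
  haveI : Algebra.IsIntegral R₁ B := ⟨hμ⟩
  have hψinj : Function.Injective ψ₀ := by
    rw [RingHom.injective_iff_ker_eq_bot]
    haveI := RingHom.ker_isPrime ψ₀
    refine Ideal.eq_bot_of_comap_eq_bot (R := R₁) ?_
    rw [RingHom.comap_ker]
    show RingHom.ker (ψ₀.comp μ) = ⊥
    rw [hψμ]
    exact (RingHom.injective_iff_ker_eq_bot _).1 (IsFractionRing.injective R₁ F)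
  haveI : FaithfulSMul B F := (faithfulSMul_iff_algebraMap_injective _ _).2 hψinj
  haveI : IsFractionRing B F := IsFractionRing.of_field _ _ fun z => by
    obtain ⟨a, b, -, rfl⟩ := IsFractionRing.div_surjective (A := R₁) z
    exact ⟨μ a, μ b, by
      rw [show algebraMap B F (μ a) = algebraMap R₁ F a from RingHom.congr_fun hψμ a,
        show algebraMap B F (μ b) = algebraMap R₁ F b from RingHom.congr_fun hψμ b]⟩
  refine ⟨ψ₀.codRestrict (integralClosure R₁ F).toSubsemiring
    fun b => (Algebra.IsIntegral.isIntegral (R := R₁) b).map (IsScalarTower.toAlgHom R₁ B F),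
    fun y => ?_, fun r => Subtype.ext (RingHom.congr_fun hψμ r)⟩
  obtain ⟨b, hb⟩ := IsIntegrallyClosed.isIntegral_iff.1 ((y.2 : IsIntegral R₁ (y : F)).tower_top (A := B))
  exact ⟨b, Subtype.ext hb⟩

/-- The agreement property passes to polynomial rings. -/
theorem agree_mvPolynomial (A₁ : Type u) [CommRing A₁] [IsDomain A₁] (d : ℕ) {k : Type u} [Field k]
    (e₀ : MvPolynomial (Fin d) A₁ →+* k)
    (h : ∀ e₁ e₂ : integralClosure A₁ (FractionRing A₁) →+* k,
      (∀ a, e₁ (algebraMap A₁ _ a) = e₀ (MvPolynomial.C a)) →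
      (∀ a, e₂ (algebraMap A₁ _ a) = e₀ (MvPolynomial.C a)) → e₁ = e₂)
    (e₁ e₂ : integralClosure (MvPolynomial (Fin d) A₁) (FractionRing (MvPolynomial (Fin d) A₁)) →+* k)
    (h₁ : ∀ a, e₁ (algebraMap _ _ a) = e₀ a) (h₂ : ∀ a, e₂ (algebraMap _ _ a) = e₀ a) : e₁ = e₂ := by
  haveI : IsIntegrallyClosed (integralClosure A₁ (FractionRing A₁)) :=
    Groth.Hensel1.isIntegrallyClosed_normalization A₁
  haveI : IsIntegrallyClosed (MvPolynomial (Fin d) (integralClosure A₁ (FractionRing A₁))) :=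
    Groth.FlatMor2.isIntegrallyClosed_mvPolynomial _ d
  have hC : Function.Injective ((algebraMap (MvPolynomial (Fin d) A₁)
      (FractionRing (MvPolynomial (Fin d) A₁))).comp MvPolynomial.C) :=
    (IsFractionRing.injective (MvPolynomial (Fin d) A₁) _).comp (MvPolynomial.C_injective _ _)
  obtain ⟨ψ, hsurj, hψR⟩ := exists_surjective_normalization (F := FractionRing (MvPolynomial (Fin d) A₁))
    (B := MvPolynomial (Fin d) (integralClosure A₁ (FractionRing A₁)))
    (MvPolynomial.map (σ := Fin d) (algebraMap A₁ (integralClosure A₁ (FractionRing A₁))))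
    (isIntegral_mvPolynomial_map d)
    (MvPolynomial.eval₂Hom ((IsFractionRing.lift hC).comp (algebraMap _ (FractionRing A₁)))
      fun i => algebraMap _ (FractionRing (MvPolynomial (Fin d) A₁)) (MvPolynomial.X i))
    (MvPolynomial.ringHom_ext
      (fun a => by
        simp only [RingHom.comp_apply, MvPolynomial.map_C, MvPolynomial.eval₂Hom_C]
        exact IsFractionRing.lift_algebraMap hC a)
      (fun i => by rw [RingHom.comp_apply, MvPolynomial.map_X, MvPolynomial.eval₂Hom_X']))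
  have hC' : ∀ e : integralClosure (MvPolynomial (Fin d) A₁) (FractionRing (MvPolynomial (Fin d) A₁)) →+* k,
      (∀ a, e (algebraMap _ _ a) = e₀ a) →
      ∀ a, ((e.comp ψ).comp MvPolynomial.C) (algebraMap A₁ _ a) = e₀ (MvPolynomial.C a) := fun e he a => by
    rw [← he, RingHom.comp_apply, RingHom.comp_apply, ← hψR, MvPolynomial.map_C]
  have key : e₁.comp ψ = e₂.comp ψ := MvPolynomial.ringHom_ext
    (fun a => RingHom.congr_fun (h ((e₁.comp ψ).comp MvPolynomial.C) ((e₂.comp ψ).comp MvPolynomial.C)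
      (hC' e₁ h₁) (hC' e₂ h₂)) a)
    (fun i => by
      rw [RingHom.comp_apply, RingHom.comp_apply,
        ← MvPolynomial.map_X (algebraMap A₁ (integralClosure A₁ (FractionRing A₁))) i, hψR, h₁, h₂])
  ext x
  obtain ⟨b, rfl⟩ := hsurj x
  exact RingHom.congr_fun key b

/-- A common algebraically closed extension of two extensions of a residue field. -/
theorem exists_common_extension {R k₁ k₂ : Type u} [CommRing R] [Field k₁] [Field k₂]
    (f₁ : R →+* k₁) (f₂ : R →+* k₂) (h : RingHom.ker f₁ = RingHom.ker f₂) :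
    ∃ (k : Type u) (_ : Field k) (_ : IsAlgClosed k) (j₁ : k₁ →+* k) (j₂ : k₂ →+* k),
      j₁.comp f₁ = j₂.comp f₂ := by
  let p := RingHom.ker f₁
  haveI : p.IsPrime := RingHom.ker_isPrime f₁
  let g₁ : p.ResidueField →+* k₁ := Ideal.ResidueField.lift p f₁ le_rfl fun a ha => by
    simpa [IsUnit.mem_submonoid_iff, p] using ha
  let g₂ : p.ResidueField →+* k₂ := Ideal.ResidueField.lift p f₂ h.le fun a ha => by
    simpa [IsUnit.mem_submonoid_iff, p, h] using ha
  letI := g₁.toAlgebra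
  letI := g₂.toAlgebra
  haveI : Nontrivial (k₁ ⊗[p.ResidueField] k₂) := inferInstance
  obtain ⟨m, hm⟩ := Ideal.exists_maximal (k₁ ⊗[p.ResidueField] k₂)
  letI := Ideal.Quotient.field m
  let ι := algebraMap ((k₁ ⊗[p.ResidueField] k₂) ⧸ m) (AlgebraicClosure ((k₁ ⊗[p.ResidueField] k₂) ⧸ m))
  refine ⟨_, inferInstance, AlgebraicClosure.isAlgClosed _,
    ι.comp ((Ideal.Quotient.mk m).comp Algebra.TensorProduct.includeLeftRingHom),
    ι.comp ((Ideal.Quotient.mk m).comp
      (Algebra.TensorProduct.includeRight : k₂ →ₐ[p.ResidueField] k₁ ⊗[p.ResidueField] k₂).toRingHom),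
    RingHom.ext fun r => ?_⟩
  simp only [RingHom.comp_apply]
  congr 2
  rw [← show g₁ (algebraMap R _ r) = f₁ r from Ideal.ResidueField.lift_algebraMap ..,
    ← show g₂ (algebraMap R _ r) = f₂ r from Ideal.ResidueField.lift_algebraMap ..]
  exact ((Algebra.TensorProduct.includeRight :
    k₂ →ₐ[p.ResidueField] k₁ ⊗[p.ResidueField] k₂).commutes _).symm

/-- Extension of valued points to an algebra which is integral after inverting `r`. -/
theorem exists_extension_of_integral (R₁ : Type u) [CommRing R₁] [IsDomain R₁] {S : Type u} [CommRing S]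
    [IsDomain S] [Algebra R₁ S] [Algebra.FiniteType R₁ S] (hinj : Function.Injective (algebraMap R₁ S))
    (r : S) (hr : IsIntegral R₁ r) (hint : ∀ x : S, ∃ m : ℕ, IsIntegral R₁ (r ^ m * x))
    {Ω : Type u} [Field Ω] [IsAlgClosed Ω] (O : ValuationSubring Ω) {k : Type u} [Field k] [IsAlgClosed k]
    (res : O →+* k) (hres : ∀ x : O, ¬ IsUnit x → res x = 0) (χ₀ : R₁ →+* O)
    (hagree : ∀ e₁ e₂ : integralClosure R₁ (FractionRing R₁) →+* k,
      (∀ a, e₁ (algebraMap R₁ _ a) = res (χ₀ a)) → (∀ a, e₂ (algebraMap R₁ _ a) = res (χ₀ a)) → e₁ = e₂)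
    (ε : S →+* k) (hεr : ε r ≠ 0) (hε : ∀ a, ε (algebraMap R₁ S a) = res (χ₀ a)) :
    ∃ χ : S →+* O, (∀ a, χ (algebraMap R₁ S a) = χ₀ a) ∧ ∀ x, res (χ x) = ε x := by
  classical
  let C := integralClosure R₁ S
  have hCinj : Function.Injective (algebraMap R₁ C) := fun a b hab => hinj (congrArg Subtype.val hab)
  let rC : C := ⟨r, hr⟩
  have hr0 : r ≠ 0 := fun h => hεr (by rw [h, map_zero])
  choose m hm using hint
  obtain ⟨g, hg⟩ := (Algebra.FiniteType.out : (⊤ : Subalgebra R₁ S).FG)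
  let gC : S → C := fun x => ⟨r ^ m x * x, hm x⟩
  let s : Finset C := insert rC (g.image gC)
  have hrs : rC ∈ Algebra.adjoin R₁ (s : Set C) := Algebra.subset_adjoin (Finset.mem_insert_self _ _)
  have hadj : ∀ x : S, ∃ (N : ℕ) (c : C), c ∈ Algebra.adjoin R₁ (s : Set C) ∧ (c : S) = r ^ N * x := fun x => by
    have hxg : x ∈ Algebra.adjoin R₁ (g : Set S) := by rw [hg]; exact Algebra.mem_top
    induction hxg using Algebra.adjoin_induction with
    | mem x hx =>
      exact ⟨m x, gC x, Algebra.subset_adjoin (Finset.mem_insert_of_mem (Finset.mem_image_of_mem _ hx)), rfl⟩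
    | algebraMap a =>
      exact ⟨0, algebraMap R₁ C a, Subalgebra.algebraMap_mem _ _, by rw [pow_zero, one_mul]; rfl⟩
    | add x y _ _ hx hy =>
      obtain ⟨N, c, hc, hce⟩ := hx
      obtain ⟨N', c', hc', hce'⟩ := hy
      refine ⟨N + N', rC ^ N' * c + rC ^ N * c', add_mem (mul_mem (pow_mem hrs _) hc) (mul_mem (pow_mem hrs _) hc'), ?_⟩
      push_cast [hce, hce', rC]
      ring
    | mul x y _ _ hx hy =>
      obtain ⟨N, c, hc, hce⟩ := hx
      obtain ⟨N', c', hc', hce'⟩ := hy
      refine ⟨N + N', c * c', mul_mem hc hc', ?_⟩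
      push_cast [hce, hce']
      ring
  have hgen : ∃ s : Finset C, ∀ c : C, ∃ b : C, b ≠ 0 ∧ b ∈ Algebra.adjoin R₁ (s : Set C) ∧
      b * c ∈ Algebra.adjoin R₁ (s : Set C) := by
    refine ⟨s, fun c => ?_⟩
    obtain ⟨N, c', hc', hce'⟩ := hadj (c : S)
    refine ⟨rC ^ N, pow_ne_zero _ fun h => hr0 (congrArg Subtype.val h), pow_mem hrs _, ?_⟩
    rwa [show rC ^ N * c = c' from Subtype.ext (by push_cast [hce', rC]; rfl)]
  obtain ⟨χ, hχ, hχε⟩ := exists_lift_of_agree R₁ (C := C) hCinj hgen O res χ₀ hagree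
    (ε.comp C.val.toRingHom) (fun a => hε a)
  have hru : IsUnit (χ rC) := by
    by_contra hu
    exact hεr (by rw [← hres _ hu, hχε]; rfl)
  have hbij : Function.Bijective (Localization.awayMap C.val.toRingHom rC) := by
    refine ⟨IsLocalization.map_injective_of_injective _ _ _ Subtype.val_injective, ?_⟩
    rw [Localization.awayMap_surjective_iff]
    intro y
    exact ⟨gC y, m y, rfl⟩
  let eR := RingEquiv.ofBijective _ hbij
  let χ' : S →+* O :=
    ((IsLocalization.Away.lift rC hru).comp eR.symm.toRingHom).comp (algebraMap _ (Localization.Away (C.val.toRingHom rC)))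
  have hχ'C : ∀ c : C, χ' (c : S) = χ c := fun c => by
    show IsLocalization.Away.lift rC hru (eR.symm (algebraMap _ _ (C.val.toRingHom c))) = _
    have hc : eR (algebraMap C (Localization.Away rC) c) =
        algebraMap S (Localization.Away (C.val.toRingHom rC)) (C.val.toRingHom c) := by
      show Localization.awayMap C.val.toRingHom rC _ = _
      simp only [Localization.awayMap, IsLocalization.Away.map, IsLocalization.map_eq]
    rw [← hc, RingEquiv.symm_apply_apply, IsLocalization.Away.lift_eq]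
  refine ⟨χ', fun a => (hχ'C (algebraMap R₁ C a)).trans (hχ a), fun x => ?_⟩
  have h1 : res (χ' (r ^ m x * x)) = ε (r ^ m x * x) := by
    rw [show r ^ m x * x = ((gC x : C) : S) from rfl, hχ'C]
    exact hχε _
  have h2 : res (χ' r) = ε r := by
    rw [show χ' r = χ rC from hχ'C rC]
    exact hχε _
  rw [map_mul, map_mul, map_mul, map_pow, map_pow, map_pow, h2] at h1
  exact mul_left_cancel₀ (pow_ne_zero _ hεr) h1

/-- A valuation ring of an algebraically closed field dominating a polynomial ring at a prime,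
together with a residue datum. -/
theorem exists_valued_datum {RV T : Type u} [CommRing RV] [IsDomain RV] [CommRing T] (ψ : RV →+* T)
    (Q : Ideal T) [Q.IsPrime] :
    ∃ (Ω : Type u) (_ : Field Ω) (_ : IsAlgClosed Ω) (O : ValuationSubring Ω) (k : Type u) (_ : Field k)
      (_ : IsAlgClosed k) (res : O →+* k) (jO : RV →+* O) (εT : T →+* k),
      Function.Injective jO ∧ (∀ x : O, ¬ IsUnit x → res x = 0) ∧ (∀ x, εT x = 0 ↔ x ∈ Q) ∧
        ∀ r, res (jO r) = εT (ψ r) := by
  let Ω := AlgebraicClosure (FractionRing RV)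
  let iΩ : RV →+* Ω := (algebraMap (FractionRing RV) Ω).comp (algebraMap RV (FractionRing RV))
  have hiΩ : Function.Injective iΩ :=
    (algebraMap (FractionRing RV) Ω).injective.comp (IsFractionRing.injective RV _)
  let p₀ : Ideal RV := Q.comap ψ
  haveI : p₀.IsPrime := Ideal.comap_isPrime ψ Q
  let L₁ := Localization.AtPrime p₀
  let iL : L₁ →+* Ω := IsLocalization.lift (M := p₀.primeCompl) (g := iΩ) fun y =>
    IsUnit.mk0 _ fun h0 => y.2 (by rw [hiΩ (h0.trans (map_zero iΩ).symm)]; exact p₀.zero_mem)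
  obtain ⟨O, hO, hOloc⟩ := IsLocalRing.exists_factor_valuationRing iL
  let jO : RV →+* O := (iL.codRestrict O.toSubring hO).comp (algebraMap RV L₁)
  have hjO : ∀ r, ((jO r : O) : Ω) = iΩ r := fun r => IsLocalization.lift_eq _ r
  have hkerO : RingHom.ker ((IsLocalRing.residue O).comp jO) = p₀ := by
    ext r
    rw [RingHom.mem_ker, RingHom.comp_apply, IsLocalRing.residue_eq_zero_iff, IsLocalRing.mem_maximalIdeal,
      mem_nonunits_iff, show jO r = (iL.codRestrict O.toSubring hO) (algebraMap RV L₁ r) from rfl]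
    haveI := hOloc
    rw [isUnit_map_iff, IsLocalization.AtPrime.isUnit_to_map_iff L₁ p₀]
    exact not_not
  obtain ⟨k, _, _, j₁, j₂, hj⟩ := exists_common_extension ((IsLocalRing.residue O).comp jO)
    (((algebraMap (T ⧸ Q) (FractionRing (T ⧸ Q))).comp (Ideal.Quotient.mk Q)).comp ψ) (by
      rw [hkerO]
      ext r
      rw [RingHom.mem_ker, RingHom.comp_apply, RingHom.comp_apply,
        map_eq_zero_iff _ (IsFractionRing.injective _ _), Ideal.Quotient.eq_zero_iff_mem]
      rfl)
  refine ⟨Ω, inferInstance, inferInstance, O, k, inferInstance, inferInstance,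
    j₁.comp (IsLocalRing.residue O), jO,
    j₂.comp ((algebraMap (T ⧸ Q) (FractionRing (T ⧸ Q))).comp (Ideal.Quotient.mk Q)),
    fun a b hab => hiΩ (by rw [← hjO, ← hjO, hab]), fun x hx => ?_, fun x => ?_,
    fun r => RingHom.congr_fun hj r⟩
  · rw [RingHom.comp_apply, (IsLocalRing.residue_eq_zero_iff x).2 hx, map_zero]
  · rw [RingHom.comp_apply, map_eq_zero, RingHom.comp_apply,
      map_eq_zero_iff _ (IsFractionRing.injective _ _), Ideal.Quotient.eq_zero_iff_mem]

/-- **Chevalley's criterion, ring form**: over a geometrically unibranch local ring, every point of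
`V ⊗ B` over a point `n` where the parameters `t` make `B` quasi-finite lifts to the generic point of `V`. -/
theorem exists_prime_generalizing (A : Type u) [CommRing A] [IsLocalRing A] (hA : CAlg2.IsGeomUnibranch A)
    {B : Type u} [CommRing B] [Algebra A B] [Algebra.FiniteType A B] {d : ℕ} (t : Fin d → B)
    (n : Ideal B) [n.IsPrime]
    (hqf : letI := (MvPolynomial.aeval (R := A) t).toRingHom.toAlgebra
      Algebra.QuasiFiniteAt (MvPolynomial (Fin d) A) n)
    (P : Ideal B) [P.IsPrime] (hPn : P ≤ n)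
    (hP : ∀ p : MvPolynomial (Fin d) A, MvPolynomial.aeval t p ∈ P ↔ ∀ m, p.coeff m ∈ nilradical A)
    {V : Type u} [CommRing V] [IsDomain V] [IsLocalRing V] [Algebra A V] [IsLocalHom (algebraMap A V)]
    (Q : Ideal (V ⊗[A] B)) [Q.IsPrime]
    (hQn : Q.comap (Algebra.TensorProduct.includeRight : B →ₐ[A] V ⊗[A] B).toRingHom = n)
    (hQt : ∀ p : MvPolynomial (Fin d) V,
      MvPolynomial.aeval (fun i => (1 : V) ⊗ₜ[A] t i) p ∈ Q ↔ ∀ m, p.coeff m ∈ IsLocalRing.maximalIdeal V) :
    ∃ Q' : Ideal (V ⊗[A] B), Q'.IsPrime ∧ Q' ≤ Q ∧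
      Q'.comap (algebraMap V (V ⊗[A] B)) = ⊥ := by
  haveI : IsDomain (CAlg2.red A) := hA.1.1
  obtain ⟨Ω, _, _, O, k, _, _, res, jO, εT, hjinj, hres0, hεT, hres⟩ :=
    exists_valued_datum (RV := MvPolynomial (Fin d) V) (MvPolynomial.aeval fun i => (1 : V) ⊗ₜ[A] t i).toRingHom Q
  let π : MvPolynomial (Fin d) A →+* MvPolynomial (Fin d) (CAlg2.red A) :=
    MvPolynomial.map (Ideal.Quotient.mk (nilradical A))
  have hπ : Function.Surjective π := MvPolynomial.map_surjective _ Ideal.Quotient.mk_surjective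
  let θ : MvPolynomial (Fin d) A →+* B ⧸ P := (Ideal.Quotient.mk P).comp (MvPolynomial.aeval t).toRingHom
  have hθ : RingHom.ker θ = RingHom.ker π := by
    ext p
    rw [RingHom.mem_ker, RingHom.mem_ker, RingHom.comp_apply, Ideal.Quotient.eq_zero_iff_mem]
    refine (hP p).trans ⟨fun h => MvPolynomial.ext _ _ fun m => ?_, fun h m => ?_⟩
    · rw [MvPolynomial.coeff_map, MvPolynomial.coeff_zero, Ideal.Quotient.eq_zero_iff_mem]
      exact h m
    · rw [← Ideal.Quotient.eq_zero_iff_mem, ← MvPolynomial.coeff_map]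
      exact (congrArg (MvPolynomial.coeff m) h).trans (MvPolynomial.coeff_zero m)
  let θ₁ : MvPolynomial (Fin d) (CAlg2.red A) →+* B ⧸ P := π.liftOfSurjective hπ ⟨θ, hθ.ge⟩
  have hθ₁ : ∀ p, θ₁ (π p) = θ p := fun p => RingHom.liftOfRightInverse_comp_apply π _ _ _ p
  have hθ₁inj : Function.Injective θ₁ := (injective_iff_map_eq_zero θ₁).2 fun x hx => by
    obtain ⟨x, rfl⟩ := hπ x
    rw [hθ₁, ← RingHom.mem_ker, hθ] at hx
    exact hx
  letI algB := θ₁.toAlgebra
  have hθC : ∀ a, θ₁ (π (MvPolynomial.C a)) = Ideal.Quotient.mk P (algebraMap A B a) := fun a => by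
    rw [hθ₁]; exact congrArg (Ideal.Quotient.mk P) (MvPolynomial.aeval_C _ a)
  haveI : Algebra.FiniteType (MvPolynomial (Fin d) (CAlg2.red A)) (B ⧸ P) := by
    refine RingHom.finiteType_algebraMap.mp (RingHom.FiniteType.of_comp_finiteType (f := π.comp MvPolynomial.C) ?_)
    show (θ₁.comp (π.comp MvPolynomial.C)).FiniteType
    rw [show θ₁.comp (π.comp MvPolynomial.C) = algebraMap A (B ⧸ P) from RingHom.ext hθC]
    exact RingHom.finiteType_algebraMap.mpr
      (Algebra.FiniteType.of_surjective (Ideal.Quotient.mkₐ A P) Ideal.Quotient.mk_surjective)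
  -- Zariski's main theorem
  obtain ⟨r, hr, hrint, hint⟩ : ∃ r : B, r ∉ n ∧
      IsIntegral (MvPolynomial (Fin d) (CAlg2.red A)) (Ideal.Quotient.mk P r) ∧
      ∀ x : B, ∃ m : ℕ, IsIntegral (MvPolynomial (Fin d) (CAlg2.red A)) (Ideal.Quotient.mk P (r ^ m * x)) := by
    letI := (MvPolynomial.aeval (R := A) t).toRingHom.toAlgebra
    haveI : Algebra.QuasiFiniteAt (MvPolynomial (Fin d) A) n := hqf
    haveI : IsScalarTower A (MvPolynomial (Fin d) A) B := IsScalarTower.of_algebraMap_eq fun a =>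
      ((MvPolynomial.aeval (R := A) t).commutes a).symm
    haveI : Algebra.FiniteType (MvPolynomial (Fin d) A) B :=
      Algebra.FiniteType.of_restrictScalars_finiteType A _ B
    obtain ⟨r, hr, hri, hx⟩ := Algebra.zariskisMainProperty_iff.1
      (Algebra.ZariskisMainProperty.of_finiteType (R := MvPolynomial (Fin d) A) n)
    have key : ∀ x : B, IsIntegral (MvPolynomial (Fin d) A) x →
        IsIntegral (MvPolynomial (Fin d) (CAlg2.red A)) (Ideal.Quotient.mk P x) := fun x ⟨p, hp, hpx⟩ => by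
      refine ⟨p.map π, hp.map _, ?_⟩
      rw [Polynomial.eval₂_map, show (algebraMap _ (B ⧸ P)).comp π =
        (Ideal.Quotient.mk P).comp (algebraMap (MvPolynomial (Fin d) A) B) from RingHom.ext hθ₁,
        ← Polynomial.hom_eval₂, hpx, map_zero]
    exact ⟨r, hr, key r hri, fun x => (hx x).imp fun m hm => key _ hm⟩
  have hPQ : ∀ x ∈ P, εT (1 ⊗ₜ[A] x) = 0 := fun x hx => (hεT _).2 (by
    rw [← hQn] at hPn; exact hPn hx)
  let εB : B ⧸ P →+* k := Ideal.Quotient.lift P
    (εT.comp (Algebra.TensorProduct.includeRight : B →ₐ[A] V ⊗[A] B).toRingHom) hPQ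
  have hnilV : ∀ a ∈ nilradical A, algebraMap A V a = 0 := fun a ha =>
    ((mem_nilradical.1 ha).map (algebraMap A V)).eq_zero
  let χ₀ : MvPolynomial (Fin d) (CAlg2.red A) →+* O :=
    jO.comp (MvPolynomial.map (Ideal.Quotient.lift (nilradical A) (algebraMap A V) hnilV))
  have hχ₀ : ∀ p, χ₀ (π p) = jO (MvPolynomial.map (algebraMap A V) p) := fun p => by
    show jO (MvPolynomial.map _ (MvPolynomial.map _ p)) = _
    rw [MvPolynomial.map_map]
    rfl
  have hπR : ∀ p : MvPolynomial (Fin d) A, εT (1 ⊗ₜ[A] (MvPolynomial.aeval t p)) =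
      res (jO (MvPolynomial.map (algebraMap A V) p)) := fun p => by
    rw [hres]
    congr 1
    show (Algebra.TensorProduct.includeRight : B →ₐ[A] V ⊗[A] B) (MvPolynomial.aeval t p) =
      MvPolynomial.aeval (fun i => (1 : V) ⊗ₜ[A] t i) (MvPolynomial.map (algebraMap A V) p)
    rw [MvPolynomial.aeval_map_algebraMap, ← AlgHom.comp_apply, MvPolynomial.comp_aeval]
    rfl
  have hcompat : ∀ a, εB (algebraMap _ (B ⧸ P) a) = res (χ₀ a) := fun a => by
    obtain ⟨p, rfl⟩ := hπ a
    show εB (θ₁ (π p)) = _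
    rw [hθ₁, hχ₀]
    exact hπR p
  have hagree : ∀ e₁ e₂ : integralClosure (MvPolynomial (Fin d) (CAlg2.red A))
      (FractionRing (MvPolynomial (Fin d) (CAlg2.red A))) →+* k,
      (∀ a, e₁ (algebraMap _ _ a) = res (χ₀ a)) → (∀ a, e₂ (algebraMap _ _ a) = res (χ₀ a)) → e₁ = e₂ := by
    refine agree_mvPolynomial (CAlg2.red A) d (res.comp χ₀) fun e₁ e₂ h₁ h₂ => ?_
    refine eq_of_isGeomUnibranch A hA ((res.comp χ₀).comp (MvPolynomial.C.comp (Ideal.Quotient.mk _))) ?_ e₁ e₂
      (fun a => h₁ _) (fun a => h₂ _)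
    ext a
    rw [RingHom.mem_ker]
    show res (χ₀ (MvPolynomial.C (Ideal.Quotient.mk _ a))) = 0 ↔ _
    rw [show MvPolynomial.C (Ideal.Quotient.mk _ a) = π (MvPolynomial.C a) from (MvPolynomial.map_C _ a).symm,
      hχ₀, hres, hεT, MvPolynomial.map_C]
    refine (hQt _).trans ⟨fun h => ?_, fun h m => ?_⟩
    · have h0 := h 0
      rw [MvPolynomial.coeff_C, if_pos rfl] at h0
      exact fun hu => h0 (hu.map _)
    · rw [MvPolynomial.coeff_C]
      split_ifs
      · exact fun hu => h ((isUnit_map_iff (algebraMap A V) a).1 hu)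
      · exact zero_mem _
  obtain ⟨χ, hχ, hχε⟩ := exists_extension_of_integral (MvPolynomial (Fin d) (CAlg2.red A)) (S := B ⧸ P) hθ₁inj
    (Ideal.Quotient.mk P r) hrint (fun x => by
      obtain ⟨x, rfl⟩ := Ideal.Quotient.mk_surjective x
      exact (hint x).imp fun m hm => by rwa [← map_pow, ← map_mul])
    O res hres0 χ₀ hagree εB (fun h0 => hr (hQn ▸ (hεT _).1 h0)) hcompat
  letI : Algebra A O := (jO.comp ((MvPolynomial.C : V →+* MvPolynomial (Fin d) V).comp (algebraMap A V))).toAlgebra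
  let fV : V →ₐ[A] O := ⟨jO.comp MvPolynomial.C, fun a => rfl⟩
  let fB : B →ₐ[A] O := ⟨χ.comp (Ideal.Quotient.mk P), fun a => by
    show χ (Ideal.Quotient.mk P (algebraMap A B a)) = jO (MvPolynomial.C (algebraMap A V a))
    rw [← hθC]
    refine (hχ _).trans ?_
    rw [hχ₀, MvPolynomial.map_C]⟩
  let Φ : V ⊗[A] B →ₐ[A] O := Algebra.TensorProduct.lift fV fB fun _ _ => Commute.all _ _
  have hfV : ∀ v, Φ (v ⊗ₜ[A] (1 : B)) = jO (MvPolynomial.C v) := fun v => by simp [Φ, fV]
  have hfB : ∀ b, Φ ((1 : V) ⊗ₜ[A] b) = χ (Ideal.Quotient.mk P b) := fun b => by simp [Φ, fB]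
  haveI := RingHom.ker_isPrime Φ.toRingHom
  have hΦres : ∀ z, res (Φ z) = εT z := fun z => by
    induction z using TensorProduct.induction_on with
    | zero => simp
    | tmul v b =>
      rw [show (v ⊗ₜ[A] b : V ⊗[A] B) = (v ⊗ₜ[A] (1 : B)) * ((1 : V) ⊗ₜ[A] b) by simp, map_mul, map_mul,
        map_mul, hfV, hfB, hres, hχε]
      congr 1
      exact congrArg εT (MvPolynomial.aeval_C _ v)
    | add x y hx hy => rw [map_add, map_add, map_add, hx, hy]
  refine ⟨RingHom.ker Φ.toRingHom, inferInstance, fun z hz => ?_, ?_⟩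
  · rw [← hεT, ← hΦres, show Φ z = 0 from hz, map_zero]
  · rw [RingHom.comap_ker, ← RingHom.injective_iff_ker_eq_bot]
    intro v w hvw
    refine MvPolynomial.C_injective _ _ (hjinj ?_)
    rw [← hfV, ← hfV]
    exact hvw

end Groth.EGA43Topo
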