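import Groth.Agent.EGA43Topo.UnibranchApps
import Groth.Agent.FibreDim.StalkFormula

/-!
# Equidimensional morphisms over geometrically unibranch points (EGA IV 14.4.4)
-/

universe u

set_option linter.style.haveILetI false

open CategoryTheory CategoryTheory.Limits AlgebraicGeometry TopologicalSpace Topology

namespace Groth.EGA43Topo

open Groth.FibreDim

variable {X Y : Scheme.{u}} (f : X ⟶ Y) [LocallyOfFiniteType f]

/-- An equidimensional morphism over a geometrically unibranch point has equidimensional stalks. -/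
theorem isEquidim_stalk_of_isEquidimAt [IsLocallyNoetherian Y] {x : X}
    (hy : CAlg2.IsGeomUnibranch (Y.presheaf.stalk (f.base x))) (h : EGA43.IsEquidimAt f x) :
    EGA4.IsEquidim (X.presheaf.stalk x) := by
  haveI : IsLocallyNoetherian X := LocallyOfFiniteType.isLocallyNoetherian f
  obtain ⟨e, U, hxU, h1, h2⟩ := (isEquidimAt_iff f x).1 h
  obtain ⟨B, hB⟩ := exists_coheight_eq_natCast (f.base x)
  obtain ⟨t, ex, ht, -, -, hfd⟩ := exists_fibre_quantities f x
  rw [h2 x hxU] at hfd
  have hte : e = t + ex := by exact_mod_cast hfd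
  have key : ∀ p ∈ minimalPrimes (X.presheaf.stalk x),
      ringKrullDim ((X.presheaf.stalk x) ⧸ p) = ((B + ex : ℕ) : WithBot ℕ∞) := by
    intro p hp
    let pp : PrimeSpectrum (X.presheaf.stalk x) := ⟨p, hp.1.1⟩
    let ξ := (X.fromSpecStalk x).base pp
    have hξmax : IsMax ξ := (isMax_fromSpecStalk_iff pp).2 hp
    have hξx : ξ ⤳ x := Scheme.range_fromSpecStalk.le ⟨pp, rfl⟩
    have hξU : ξ ∈ U := hξx.mem_open U.isOpen hxU
    obtain ⟨hfξ, -⟩ := h1 ξ hξU hξmax
    let W : Closeds X := ⟨closure {ξ}, isClosed_closure⟩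
    let ι := (Scheme.IdealSheafData.vanishingIdeal W).subschemeι
    let g := ι ≫ f
    have hr : Set.range ι.base = closure {ξ} := Groth.Misc6.Equidim.range_sub W
    haveI : LocallyOfFiniteType g := inferInstance
    haveI := LocallyOfFiniteType.isLocallyNoetherian g
    obtain ⟨w, hw⟩ : x ∈ Set.range ι.base := hr.ge (specializes_iff_mem_closure.1 hξx)
    obtain ⟨ξ', hξ'⟩ : ξ ∈ Set.range ι.base := hr.ge (subset_closure rfl)
    have hgen : ∀ a, ξ' ⤳ a := fun a => ι.isEmbedding.toIsInducing.specializes_iff.1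
      (by rw [hξ']; exact specializes_iff_mem_closure.2 (hr.le ⟨a, rfl⟩))
    have hgw : g.base w = f.base x := by rw [Scheme.Hom.comp_apply, hw]
    have hfhξ : ((Groth.Misc6.Equidim.fh g ξ' : ℕ∞) : WithBot ℕ∞) = e := by
      rw [Groth.Misc6.Equidim.fh_comp_preimmersion, hξ', ← Groth.Misc6.Equidim.fibreDimAt_eq_fh_of_isMax f hξmax]
      exact h2 ξ hξU
    have hge : (e : WithBot ℕ∞) ≤ FlatMor.fibreDimAt g ξ' :=
      hfhξ ▸ Groth.Misc6.Equidim.fh_le_fibreDimAt g ξ'
    have hopen : ∀ z : ↥(g.fiber (g.base w)), g.asFiber w ∈ closure {z} →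
        (∀ z' : ↥(g.fiber (g.base w)), z ∈ closure {z'} → z' = z) →
        EGA43.IsOpenAt g.base ((g.fiberι (g.base w)).base z) := by
      intro z hz hzmax
      have hfz : g.base ((g.fiberι (g.base w)).base z) = g.base w := apply_fiberι g _ z
      have hzw : (g.fiberι (g.base w)).base z ⤳ w := by
        have := (specializes_iff_mem_closure.2 hz).map (g.fiberι (g.base w)).continuous
        rwa [g.fiberι_asFiber] at this
      refine isOpenAt_of_isUnivOpenAt (isUnivOpenAt_of_component g (ξ := ξ') (fun z' hz' hsp => ?_) ?_ (hgen _)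
        ?_ (fun a _ ha => (ha.antisymm (hgen a)).eq) ?_)
      · obtain ⟨z'', rfl⟩ : z' ∈ Set.range (g.fiberι (g.base w)).base :=
          (g.range_fiberι _).ge (hz'.trans hfz)
        exact congrArg _ (hzmax z'' (specializes_iff_mem_closure.1
          ((g.fiberι _).isEmbedding.toIsInducing.specializes_iff.1 hsp)))
      · rw [hfz, hgw]; exact hy
      · rw [Scheme.Hom.comp_apply, hξ']; exact hfξ
      · refine (Groth.Misc6.Equidim.fibreDimAt_comp_le f ι _).trans (le_of_eq_of_le (h2 _ ?_) hge)
        exact ((hzw.map ι.continuous).trans (hw ▸ specializes_rfl)).mem_open U.isOpen hxU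
    have hdimg : FlatMor.fibreDimAt g w = (e : WithBot ℕ∞) :=
      le_antisymm ((Groth.Misc6.Equidim.fibreDimAt_comp_le f ι w).trans (by rw [hw, h2 x hxU]))
        (hge.trans (fibreDimAt_le_of_specializes g (hgen w)))
    obtain ⟨t', e', ht', he', hed, hfd'⟩ := exists_fibre_quantities g w
    have htt : t' = t := by
      have := Groth.Misc6.Equidim.fh_comp_preimmersion f ι w
      rw [hw, show Groth.Misc6.Equidim.fh (ι ≫ f) w = t' from ht',
        show Groth.Misc6.Equidim.fh f x = t from ht] at this
      exact_mod_cast this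
    rw [hdimg] at hfd'
    have he'' : e = t' + e' := by exact_mod_cast hfd'
    have hstalk := ringKrullDim_stalk_eq_add g w hopen
    rw [hed, hgw, ringKrullDim_stalk_eq_coheight, ringKrullDim_stalk_eq_coheight, hB] at hstalk
    have hcw : Order.coheight w = ((B + e' : ℕ) : ℕ∞) := by exact_mod_cast hstalk
    rw [show ex = e' by omega]
    refine ringKrullDim_quotient_eq_of_series pp rfl _ (fun s hs hsl => ?_) ?_
    · have hlift : ∀ k, s.toFun k ∈ Set.range ι.base := fun k => hr.ge (specializes_iff_mem_closure.1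
        (show ξ ⤳ s.toFun k from (s.monotone (Fin.le_last k)).trans hsl))
      choose l hl using hlift
      let s' : LTSeries ↥(Scheme.IdealSheafData.vanishingIdeal W).subscheme :=
        LTSeries.mk s.length l fun a b hab => by
          have h3 := s.strictMono hab
          rw [← hl a, ← hl b] at h3
          exact lt_of_le_not_ge ((le_iff_of_isEmbedding ι ι.isEmbedding _ _).1 h3.le)
            fun h4 => h3.not_ge ((le_iff_of_isEmbedding ι ι.isEmbedding _ _).2 h4)
      have h5 : w ≤ s'.head := (le_iff_of_isEmbedding ι ι.isEmbedding _ _).1 (by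
        show ι.base w ≤ ι.base (l 0)
        rw [hw, hl]; exact hs)
      have h6 := Order.length_le_coheight (p := s') h5
      rw [hcw] at h6
      exact_mod_cast h6
    · obtain ⟨s, hs, hslen, -⟩ := exists_series_maximal w
      rw [hcw, Nat.cast_inj] at hslen
      refine ⟨s.map ι.base (strictMono_of_isEmbedding ι ι.isEmbedding), ?_, ?_, hslen⟩
      · show x ≤ ι.base s.head
        rw [hs, hw]
      · show ι.base s.last ≤ ξ
        rw [← hξ']
        exact (le_iff_of_isEmbedding ι ι.isEmbedding _ _).2 (hgen _)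
  intro p hp
  refine le_antisymm (ringKrullDim_quotient_le _) ?_
  rw [key p hp, ringKrullDim_stalk_eq_coheight]
  obtain ⟨s, hs, hslen, hsmax⟩ := exists_series_maximal x
  have hsx : s.last ⤳ x := by
    have : s.head ≤ s.last := s.head_le_last
    rwa [hs] at this
  obtain ⟨q, hq⟩ : s.last ∈ Set.range (X.fromSpecStalk x).base := Scheme.range_fromSpecStalk.ge hsx
  have hqmin := (isMax_fromSpecStalk_iff q).1 (hq ▸ hsmax)
  have h7 := (natCast_le_ringKrullDim_quotient_iff q hq s.length).2 ⟨s, hs.ge, le_rfl, rfl⟩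
  rw [key _ hqmin] at h7
  rw [← hslen]
  exact h7

end Groth.EGA43Topo
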