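import Groth.Agent.EGA43Topo.NormalOpen
import Groth.Agent.EGA43Topo.DVRCriterion
import Groth.Agent.Calg4.QuasiFiniteSection

/-!
# Chevalley's criterion over an arbitrary irreducible geometrically unibranch base (EGA IV 14.4.4)
-/

universe u

set_option linter.style.haveILetI false

open CategoryTheory AlgebraicGeometry TensorProduct

namespace Groth.EGA43Topo

/-- A universal homeomorphism is universally open. -/
theorem universallyOpen_of_isUnivHomeo {X Y : Scheme.{u}} {f : X ⟶ Y} (hf : FlatMor.IsUnivHomeo f) :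
    UniversallyOpen f :=
  ⟨MorphismProperty.universally_mono (fun _ _ _ h => h.isOpenMap) f hf⟩

/-- A quasi-finite extension domain of a normal domain is universally open. -/
theorem universallyOpen_of_quasiFinite {A D : Type u} [CommRing A] [IsDomain A] [IsIntegrallyClosed A]
    [CommRing D] [IsDomain D] [Algebra A D] [FaithfulSMul A D] [Algebra.FiniteType A D]
    [Algebra.QuasiFinite A D] : UniversallyOpen (Spec.map (CommRingCat.ofHom (algebraMap A D))) := by
  rw [universallyOpen_iff_forall_isUnivOpenAt]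
  intro Q
  obtain ⟨r, hr, hint⟩ := Algebra.zariskisMainProperty_iff'.1
    (Algebra.ZariskisMainProperty.of_finiteType (R := A) Q.asIdeal)
  obtain ⟨m₀, hm₀⟩ := hint r
  let C := integralClosure A D
  let r' : C := ⟨r, IsIntegral.of_pow (n := m₀ + 1) (by omega) (by rwa [pow_succ])⟩
  let Dr := Localization.Away (r' : D)
  have hr' : (r' : D) ∉ Q.asIdeal := hr
  have hne : (r' : D) ≠ 0 := fun h => hr' (h ▸ Q.asIdeal.zero_mem)
  haveI : IsDomain C := inferInstance
  haveI : FaithfulSMul A C := (faithfulSMul_iff_algebraMap_injective _ _).2 fun x y h =>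
    FaithfulSMul.algebraMap_injective A D (congrArg Subtype.val h)
  haveI : Algebra.IsIntegral A C := ⟨fun x => (isIntegral_algHom_iff C.val Subtype.val_injective).1 x.2⟩
  haveI hloc : IsLocalization.Away r' Dr :=
    { map_units := by
        rintro ⟨_, k, rfl⟩
        rw [map_pow]
        exact (IsLocalization.Away.algebraMap_isUnit (S := Dr) (r' : D)).pow k
      surj := fun z => by
        obtain ⟨⟨y, ⟨_, k, rfl⟩⟩, hy⟩ := IsLocalization.surj (Submonoid.powers (r' : D)) z
        obtain ⟨m, hm⟩ := hint y
        have hc : ((r' : D) ^ m * y) ∈ C := hm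
        refine ⟨(⟨_, hc⟩, ⟨r' ^ (k + m), k + m, rfl⟩), ?_⟩
        show z * algebraMap D Dr ((r' : D) ^ (k + m)) = algebraMap D Dr ((r' : D) ^ m * y)
        rw [pow_add, map_mul, ← mul_assoc, hy, ← map_mul, mul_comm]
      exists_of_eq := fun {x y} hxy => ⟨1, by
        rw [show x = y from Subtype.ext (IsLocalization.injective Dr
          (powers_le_nonZeroDivisors_of_noZeroDivisors hne) hxy)]⟩ }
  let i : Spec (CommRingCat.of Dr) ⟶ Spec (CommRingCat.of D) :=
    Spec.map (CommRingCat.ofHom (algebraMap D Dr))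
  haveI : IsOpenImmersion i := IsOpenImmersion.of_isLocalization (r' : D)
  haveI : IsOpenImmersion (Spec.map (CommRingCat.ofHom (algebraMap C Dr))) :=
    IsOpenImmersion.of_isLocalization r'
  haveI := universallyOpen_of_isIntegrallyClosed (A := A) (C := C)
  have hu : UniversallyOpen (i ≫ Spec.map (CommRingCat.ofHom (algebraMap A D))) := by
    rw [show i ≫ Spec.map (CommRingCat.ofHom (algebraMap A D)) =
      Spec.map (CommRingCat.ofHom (algebraMap C Dr)) ≫ Spec.map (CommRingCat.ofHom (algebraMap A C)) by
      rw [← Spec.map_comp, ← Spec.map_comp]; rfl]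
    infer_instance
  obtain ⟨Q', hQ'⟩ : Q ∈ Set.range i.base :=
    (PrimeSpectrum.localization_away_comap_range Dr (r' : D)).ge hr'
  exact hQ' ▸ isUnivOpenAt_right_of_comp ((universallyOpen_iff_forall_isUnivOpenAt _).1 hu Q')

theorem universallyOpen_of_params_aux {R N S L : Type u} [CommRing R] [CommRing N] [IsDomain N]
    [IsIntegrallyClosed N] [Algebra R N] [Algebra.IsIntegral R N] [CommRing S] [Algebra R S]
    [Algebra.FiniteType R S] [Field L] [Algebra R L]
    [UniversallyOpen (Spec.map (CommRingCat.ofHom (algebraMap R N)))]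
    (toL : S →ₐ[R] L) (hker : RingHom.ker toL.toRingHom ≤ nilradical S) {d : ℕ} (t : Fin d → S)
    (hqf : ∀ n : PrimeSpectrum S, letI := (MvPolynomial.aeval (R := R) t).toRingHom.toAlgebra
      Algebra.QuasiFiniteAt (MvPolynomial (Fin d) R) n.asIdeal)
    (χ : MvPolynomial (Fin d) N →+* L) (hχ : Function.Injective χ)
    (hχT : ∀ f : MvPolynomial (Fin d) R, χ (f.map (algebraMap R N)) = toL (MvPolynomial.aeval t f)) :
    UniversallyOpen (Spec.map (CommRingCat.ofHom (algebraMap R S))) := by
  let T := MvPolynomial (Fin d) R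
  let T' := MvPolynomial (Fin d) N
  haveI : IsIntegrallyClosed T' := Groth.FlatMor2.isIntegrallyClosed_mvPolynomial _ d
  letI : Algebra T S := (MvPolynomial.aeval (R := R) t).toRingHom.toAlgebra
  haveI : IsScalarTower R T S :=
    IsScalarTower.of_algebraMap_eq fun a => ((MvPolynomial.aeval t).commutes a).symm
  haveI : Algebra.FiniteType T S := .of_restrictScalars_finiteType R _ _
  haveI : Algebra.QuasiFinite T S := Groth.Calg4.quasiFinite_of_forall_quasiFiniteAt S hqf
  letI : Algebra T T' := (MvPolynomial.map (σ := Fin d) (algebraMap R N)).toAlgebra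
  letI : Algebra T' L := χ.toAlgebra
  letI : Algebra T L := (toL.toRingHom.comp (algebraMap T S)).toAlgebra
  haveI : IsScalarTower T T' L := IsScalarTower.of_algebraMap_eq fun f => (hχT f).symm
  let toL' : S →ₐ[T] L := { toL.toRingHom with commutes' := fun _ => rfl }
  let Φ : T' ⊗[T] S →ₐ[T'] L :=
    Algebra.TensorProduct.lift (Algebra.ofId T' L) toL' fun _ _ => Commute.all _ _
  let D := Φ.range
  haveI : Algebra.FiniteType T' D :=
    Algebra.FiniteType.of_surjective Φ.rangeRestrict Φ.rangeRestrict_surjective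
  haveI : Algebra.QuasiFinite T' D :=
    Algebra.QuasiFinite.of_surjective_algHom Φ.rangeRestrict Φ.rangeRestrict_surjective
  haveI : FaithfulSMul T' D := (faithfulSMul_iff_algebraMap_injective _ _).2 fun x y h =>
    hχ (congrArg Subtype.val h)
  let ψ : S →+* D := Φ.rangeRestrict.toRingHom.comp
    (Algebra.TensorProduct.includeRight : S →ₐ[T] T' ⊗[T] S).toRingHom
  have hψ : ψ.IsIntegral := by
    refine RingHom.IsIntegral.trans _ _ ?_ fun x => ?_
    · intro w
      haveI : Algebra.IsIntegral T T' := ⟨isIntegral_mvPolynomial_map d⟩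
      obtain ⟨v, rfl⟩ := (Algebra.TensorProduct.comm T S T').surjective w
      obtain ⟨g, hg, hgv⟩ := (Algebra.IsIntegral.isIntegral v : IsIntegral S v)
      refine ⟨g, hg, ?_⟩
      rw [show (Algebra.TensorProduct.includeRight : S →ₐ[T] T' ⊗[T] S).toRingHom =
          (Algebra.TensorProduct.comm T S T').toAlgHom.toRingHom.comp (algebraMap S (S ⊗[T] T')) from
        RingHom.ext fun a => (Algebra.TensorProduct.comm_tmul ..).symm]
      show Polynomial.eval₂ _ ((Algebra.TensorProduct.comm T S T').toAlgHom.toRingHom v) g = 0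
      rw [← Polynomial.hom_eval₂, hgv, map_zero]
    · obtain ⟨y, rfl⟩ := Φ.rangeRestrict_surjective x
      exact RingHom.isIntegralElem_map _
  have hψsurj : Surjective (Spec.map (CommRingCat.ofHom ψ)) := by
    rw [Groth.HTopHyper.surjective_SpecMap_iff ψ hψ]
    intro z hz
    refine hker ?_
    have := congrArg Subtype.val (RingHom.mem_ker.1 hz)
    change Φ (1 ⊗ₜ[T] z) = 0 at this
    rwa [Algebra.TensorProduct.lift_tmul, map_one, one_mul] at this
  haveI : UniversallyOpen (Spec.map (CommRingCat.ofHom (MvPolynomial.C : N →+* T'))) := by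
    haveI : Flat (Spec.map (CommRingCat.ofHom (MvPolynomial.C : N →+* T'))) :=
      Flat.SpecMap_iff.2 (RingHom.flat_algebraMap_iff.2 (inferInstance : Module.Flat N T'))
    haveI : LocallyOfFinitePresentation (Spec.map (CommRingCat.ofHom (MvPolynomial.C : N →+* T'))) :=
      (LocallyOfFinitePresentation.SpecMap_iff _).2
        (RingHom.finitePresentation_algebraMap.2 (inferInstance : Algebra.FinitePresentation N T'))
    infer_instance
  haveI := universallyOpen_of_quasiFinite (A := T') (D := D)
  have hu : UniversallyOpen (Spec.map (CommRingCat.ofHom ψ) ≫ Spec.map (CommRingCat.ofHom (algebraMap R S))) := by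
    rw [show Spec.map (CommRingCat.ofHom ψ) ≫ Spec.map (CommRingCat.ofHom (algebraMap R S)) =
        Spec.map (CommRingCat.ofHom (algebraMap T' D)) ≫
          Spec.map (CommRingCat.ofHom (MvPolynomial.C : N →+* T')) ≫
            Spec.map (CommRingCat.ofHom (algebraMap R N)) by
      rw [← Spec.map_comp, ← Spec.map_comp, ← Spec.map_comp]
      congr 1
      ext a
      show Φ (1 ⊗ₜ[T] algebraMap R S a) = χ (MvPolynomial.C (algebraMap R N a))
      rw [Algebra.TensorProduct.lift_tmul, map_one, one_mul, ← MvPolynomial.map_C, hχT, MvPolynomial.aeval_C]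
      rfl]
    infer_instance
  rw [universallyOpen_iff_forall_isUnivOpenAt] at hu ⊢
  intro n
  obtain ⟨Q, rfl⟩ := hψsurj.surj n
  exact isUnivOpenAt_right_of_comp (hu Q)


/-- **Chevalley's criterion** over an irreducible geometrically unibranch affine base: an irreducible
scheme, quasi-finite over affine space and dominating it, is universally open over the base. -/
theorem universallyOpen_of_params {R S : Type u} [CommRing R] [CommRing S] [Algebra R S]
    [Algebra.FiniteType R S] [(nilradical R).IsPrime]
    (hgu : ∀ (p : Ideal R) [p.IsPrime], ∃ (A : Type u) (_ : CommRing A) (_ : IsLocalRing A)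
      (_ : Algebra R A), IsLocalization.AtPrime A p ∧ CAlg2.IsGeomUnibranch A)
    [(nilradical S).IsPrime] {d : ℕ} (t : Fin d → S)
    (hqf : ∀ n : PrimeSpectrum S, letI := (MvPolynomial.aeval (R := R) t).toRingHom.toAlgebra
      Algebra.QuasiFiniteAt (MvPolynomial (Fin d) R) n.asIdeal)
    (hind : ∀ f : MvPolynomial (Fin d) R,
      MvPolynomial.aeval t f ∈ nilradical S ↔ ∀ m, f.coeff m ∈ nilradical R) :
    UniversallyOpen (Spec.map (CommRingCat.ofHom (algebraMap R S))) := by
  let K₀ := FractionRing (R ⧸ nilradical R)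
  let N := integralClosure R K₀
  let L := FractionRing (S ⧸ nilradical S)
  let toL : S →+* L := (algebraMap (S ⧸ nilradical S) L).comp (Ideal.Quotient.mk _)
  have htoL : ∀ z, toL z = 0 ↔ z ∈ nilradical S := fun z => by
    show algebraMap (S ⧸ nilradical S) L (Ideal.Quotient.mk _ z) = 0 ↔ _
    rw [map_eq_zero_iff _ (IsFractionRing.injective (S ⧸ nilradical S) L), Ideal.Quotient.eq_zero_iff_mem]
  have hR0 : ∀ a : R, algebraMap R K₀ a = 0 ↔ a ∈ nilradical R := fun a => by
    rw [IsScalarTower.algebraMap_apply R (R ⧸ nilradical R) K₀,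
      map_eq_zero_iff _ (IsFractionRing.injective (R ⧸ nilradical R) K₀),
      Ideal.Quotient.algebraMap_eq, Ideal.Quotient.eq_zero_iff_mem]
  have hRS : ∀ a : R, toL (algebraMap R S a) = 0 ↔ a ∈ nilradical R := fun a => by
    have := hind (MvPolynomial.C a)
    rw [MvPolynomial.aeval_C] at this
    rw [htoL, this]
    exact ⟨fun h => by simpa using h 0, fun h m => by
      rw [MvPolynomial.coeff_C]; split <;> [exact h; exact Ideal.zero_mem _]⟩
  have hqL : ∀ a ∈ nilradical R, (toL.comp (algebraMap R S)) a = 0 := fun a ha => (hRS a).2 ha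
  let η : R ⧸ nilradical R →+* L := Ideal.Quotient.lift _ _ hqL
  have hη : Function.Injective η := (injective_iff_map_eq_zero η).2 fun x hx => by
    obtain ⟨x, rfl⟩ := Ideal.Quotient.mk_surjective x
    exact Ideal.Quotient.eq_zero_iff_mem.2 ((hRS x).1 hx)
  let j : K₀ →+* L := IsFractionRing.lift hη
  have hj : ∀ a : R, j (algebraMap R K₀ a) = toL (algebraMap R S a) := fun a => by
    rw [IsScalarTower.algebraMap_apply R (R ⧸ nilradical R) K₀]
    exact IsFractionRing.lift_algebraMap hη _
  let χK : MvPolynomial (Fin d) K₀ →+* L := MvPolynomial.eval₂Hom j fun i => toL (t i)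
  have hχKm : ∀ f : MvPolynomial (Fin d) R,
      χK (f.map (algebraMap R K₀)) = toL (MvPolynomial.aeval t f) := by
    refine RingHom.congr_fun (f := χK.comp (MvPolynomial.map (algebraMap R K₀)))
      (g := toL.comp (MvPolynomial.aeval t).toRingHom) (MvPolynomial.ringHom_ext (fun a => ?_) fun i => ?_)
    · show χK (MvPolynomial.map _ (MvPolynomial.C a)) = toL (MvPolynomial.aeval t (MvPolynomial.C a))
      rw [MvPolynomial.map_C, MvPolynomial.aeval_C, MvPolynomial.eval₂Hom_C, hj]
    · show χK (MvPolynomial.map _ (MvPolynomial.X i)) = toL (MvPolynomial.aeval t (MvPolynomial.X i))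
      rw [MvPolynomial.map_X, MvPolynomial.aeval_X, MvPolynomial.eval₂Hom_X']
  have hχK : Function.Injective χK := by
    refine (injective_iff_map_eq_zero χK).2 fun f hf => ?_
    letI : Algebra (MvPolynomial (Fin d) (R ⧸ nilradical R)) (MvPolynomial (Fin d) K₀) :=
      MvPolynomial.algebraMvPolynomial
    obtain ⟨⟨g, ⟨_, s, hs, rfl⟩⟩, hg⟩ := IsLocalization.surj
      ((nonZeroDivisors (R ⧸ nilradical R)).map (MvPolynomial.C (σ := Fin d))) f
    obtain ⟨g, rfl⟩ := MvPolynomial.map_surjective _ Ideal.Quotient.mk_surjective g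
    change f * MvPolynomial.map _ (MvPolynomial.C s) = MvPolynomial.map _ (g.map _) at hg
    rw [MvPolynomial.map_map, MvPolynomial.map_C,
      show (algebraMap (R ⧸ nilradical R) K₀).comp (Ideal.Quotient.mk _) = algebraMap R K₀ from
        (IsScalarTower.algebraMap_eq R (R ⧸ nilradical R) K₀).symm] at hg
    have h0 : MvPolynomial.map (algebraMap R K₀) g = 0 := by
      refine MvPolynomial.ext _ _ fun m => ?_
      rw [MvPolynomial.coeff_map, MvPolynomial.coeff_zero, hR0]
      refine (hind g).1 ((htoL _).1 ?_) m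
      rw [← hχKm, ← hg, map_mul, hf, zero_mul]
    rw [h0, mul_eq_zero] at hg
    refine hg.resolve_right fun h => nonZeroDivisors.ne_zero hs
      ((map_eq_zero_iff _ (IsFractionRing.injective (R ⧸ nilradical R) K₀)).1 ?_)
    rwa [MvPolynomial.C_eq_zero] at h
  haveI : IsFractionRing N K₀ := IsFractionRing.of_field _ _ fun z => by
    obtain ⟨a, b, -, hab⟩ := IsFractionRing.div_surjective (R ⧸ nilradical R) z
    obtain ⟨a, rfl⟩ := Ideal.Quotient.mk_surjective a
    obtain ⟨b, rfl⟩ := Ideal.Quotient.mk_surjective b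
    exact ⟨algebraMap R N a, algebraMap R N b, hab.symm⟩
  haveI : IsIntegrallyClosed N := (isIntegrallyClosed_iff_isIntegrallyClosedIn K₀).2 inferInstance
  haveI : Algebra.IsIntegral R N := ⟨fun x => (isIntegral_algHom_iff N.val Subtype.val_injective).1 x.2⟩
  have hN : FlatMor.IsUnivHomeo (Spec.map (CommRingCat.ofHom (algebraMap R N))) := by
    refine (Groth.HTopHyper.specUnivHomeo_iff _).2 ⟨fun x => Algebra.IsIntegral.isIntegral x,
      fun a ha => (hR0 a).1 (congrArg Subtype.val (RingHom.mem_ker.1 ha)), fun K _ e₁ e₂ h => ?_⟩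
    exact pointsInj_normalization (nilradical R)
      ⟨⟨inferInstance, bot_le⟩, fun q hq _ => @nilradical_le_prime _ _ q hq.1⟩
      (fun p _ _ => hgu p) e₁ e₂ (RingHom.congr_fun h)
  haveI := universallyOpen_of_isUnivHomeo hN
  letI : Algebra R L := (toL.comp (algebraMap R S)).toAlgebra
  refine universallyOpen_of_params_aux (N := N) { toL with commutes' := fun _ => rfl }
    (fun z hz => (htoL z).1 hz) t hqf (χK.comp (MvPolynomial.map N.val.toRingHom))
    (hχK.comp (MvPolynomial.map_injective _ Subtype.val_injective)) fun f => ?_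
  show χK (MvPolynomial.map _ (MvPolynomial.map _ f)) = toL (MvPolynomial.aeval t f)
  rw [MvPolynomial.map_map, show N.val.toRingHom.comp (algebraMap R N) = algebraMap R K₀ from rfl, hχKm]

end Groth.EGA43Topo
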