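import Groth.Agent.EGA43Topo.UnibranchGeneralBase
import Groth.Agent.EGA43Topo.UnibranchScheme

/-!
# Chevalley's criterion for irreducible schemes over an arbitrary geometrically unibranch base
-/

universe u

set_option linter.style.haveILetI false

open CategoryTheory CategoryTheory.Limits AlgebraicGeometry Topology

namespace Groth.EGA43Topo

/-- An affine open containing a point generizing to everything has prime nilradical. -/
lemma primeIdealOf_eq_nilradical {X : Scheme.{u}} {U : X.Opens} (hU : IsAffineOpen U) {η : X}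
    (hη : ∀ x : X, η ⤳ x) (h : η ∈ U) : (hU.primeIdealOf ⟨η, h⟩).asIdeal = nilradical Γ(X, U) := by
  refine le_antisymm (fun a ha => ?_) (@nilradical_le_prime _ _ _ (hU.primeIdealOf ⟨η, h⟩).isPrime)
  rw [nilradical_eq_sInf, Ideal.mem_sInf]
  intro J hJ
  have h1 : (hU.primeIdealOf ⟨η, h⟩) ⤳ ⟨J, hJ⟩ := by
    refine hU.fromSpec.isOpenEmbedding.toIsInducing.specializes_iff.1 ?_
    rw [hU.fromSpec_primeIdealOf]
    exact hη _
  exact (PrimeSpectrum.le_iff_specializes _ _).2 h1 ha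

variable {X Y : Scheme.{u}}

/-- **Chevalley's criterion** (EGA IV 14.4.4): irreducible source and geometrically unibranch
irreducible base, fibres no larger than the generic fibre. -/
theorem universallyOpen_of_irreducible [IrreducibleSpace X] [IrreducibleSpace Y]
    (hY : ∀ y : Y, CAlg2.IsGeomUnibranch (Y.presheaf.stalk y)) (f : X ⟶ Y) [LocallyOfFiniteType f]
    (hgen : f.base (genericPoint X) = genericPoint Y)
    (hd : ∀ x, FlatMor.fibreDimAt f x ≤ FlatMor.fibreDimAt f (genericPoint X)) : UniversallyOpen f := by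
  set ξ := genericPoint X
  have hξ : ∀ x : X, ξ ⤳ x := fun x => genericPoint_specializes x
  have hη : ∀ y : Y, f.base ξ ⤳ y := fun y => hgen ▸ genericPoint_specializes y
  have hmax : ∀ w, f.base w = f.base ξ → w ⤳ ξ → w = ξ := fun w _ hw => (hw.antisymm (hξ w)).eq
  obtain ⟨d, hd₁, hd₂⟩ := Groth.FibreDim.exists_relTrdeg_eq_height f ξ
  rw [(Groth.FibreDim.fibreDimAt_eq_height_of_max f hmax).1, hd₂] at hd
  rw [universallyOpen_iff_forall_isUnivOpenAt]
  intro x
  obtain ⟨_, ⟨W, hW, rfl⟩, hyW, -⟩ :=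
    Y.isBasis_affineOpens.exists_subset_of_mem_open (Set.mem_univ (f.base x)) isOpen_univ
  obtain ⟨_, ⟨U, hU, rfl⟩, hxU, e⟩ := X.isBasis_affineOpens.exists_subset_of_mem_open
    (show x ∈ f.base ⁻¹' W from hyW) (W.isOpen.preimage f.continuous)
  replace hW : IsAffineOpen W := hW
  replace hU : IsAffineOpen U := hU
  have hξU : ξ ∈ U := (hξ x).mem_open U.isOpen hxU
  letI := (f.appLE W U e).hom.toAlgebra
  haveI : Algebra.FiniteType Γ(Y, W) Γ(X, U) :=
    RingHom.finiteType_algebraMap.1 (f.finiteType_appLE hW hU e)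
  have hq := primeIdealOf_eq_nilradical hW hη (e hξU)
  have hP := primeIdealOf_eq_nilradical hU hξ hξU
  haveI hqp : (nilradical Γ(Y, W)).IsPrime := hq ▸ (hW.primeIdealOf ⟨f.base ξ, e hξU⟩).isPrime
  haveI hPp : (nilradical Γ(X, U)).IsPrime := hP ▸ (hU.primeIdealOf ⟨ξ, hξU⟩).isPrime
  let p := hW.primeIdealOf ⟨f.base x, e hxU⟩
  let n := hU.primeIdealOf ⟨x, hxU⟩
  haveI : Nontrivial (p.asIdeal.Fiber Γ(X, U)) := by
    let m := PrimeSpectrum.preimageHomeomorphFiber Γ(Y, W) Γ(X, U) p ⟨n, comap_appLE_primeIdealOf f hW hU e hxU⟩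
    exact ⟨⟨0, 1, fun h01 => m.isPrime.ne_top ((Ideal.eq_top_iff_one _).2 (h01 ▸ m.asIdeal.zero_mem))⟩⟩
  have hdim : ringKrullDim (p.asIdeal.Fiber Γ(X, U)) ≤ (d : WithBot ℕ∞) := by
    refine (Groth.FibreDim.ringKrullDim_fiber_le f hW hU e p).trans ?_
    refine le_trans ?_ (show topologicalKrullDim ↥(f.fiber (hW.fromSpec.base p)) ≤ _ from ?_)
    · exact IsInducing.subtypeVal.topologicalKrullDim_le
    rw [Groth.FibreDim.dim_fiber_eq_iSup]
    refine iSup_le fun z => ?_
    rw [← Groth.FibreDim.fibreDimAt_fiberι f _ z]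
    exact (hd _).trans le_rfl
  obtain ⟨s, b, hs, hqf⟩ := Groth.FibreDim.exists_quasiFiniteAt_fibre p d hdim
  let T := MvPolynomial (Fin s) Γ(Y, W)
  letI algTS : Algebra T Γ(X, U) := (MvPolynomial.aeval (R := Γ(Y, W)) b).toRingHom.toAlgebra
  haveI : IsScalarTower Γ(Y, W) T Γ(X, U) :=
    IsScalarTower.of_algebraMap_eq fun a => ((MvPolynomial.aeval b).commutes a).symm
  haveI : Algebra.FiniteType T Γ(X, U) := .of_restrictScalars_finiteType Γ(Y, W) _ _
  obtain ⟨_, ⟨r, rfl⟩, hnr, hr⟩ := PrimeSpectrum.isTopologicalBasis_basic_opens.exists_subset_of_mem_open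
    (hqf n (comap_appLE_primeIdealOf f hW hU e hxU) : n ∈ {q : PrimeSpectrum Γ(X, U) |
      Algebra.QuasiFiniteAt T q.asIdeal}) (Groth.FibreDim.isOpen_setOf_quasiFiniteAt T _)
  replace hnr : r ∉ n.asIdeal := hnr
  let S' := Localization.Away r
  have hrnil : r ∉ nilradical Γ(X, U) := fun h => hnr (nilradical_le_prime n.asIdeal h)
  haveI : Algebra.FiniteType Γ(X, U) S' := IsLocalization.finiteType_of_monoid_fg (Submonoid.powers r) _
  haveI : Algebra.FiniteType Γ(Y, W) S' := Algebra.FiniteType.trans (S := Γ(X, U)) ‹_› ‹_›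
  have hnilS' : (nilradical S').comap (algebraMap Γ(X, U) S') = nilradical Γ(X, U) := by
    refine le_antisymm (fun a ha => ?_) fun a ha => (mem_nilradical.1 ha).map _
    obtain ⟨k, hk⟩ := mem_nilradical.1 ha
    rw [← map_pow] at hk
    obtain ⟨⟨_, j, rfl⟩, hj⟩ := (IsLocalization.map_eq_zero_iff (Submonoid.powers r) S' _).1 hk
    refine hPp.mem_of_pow_mem k ((hPp.mem_or_mem (show r ^ j * a ^ k ∈ _ from ?_)).resolve_left
      fun h => hrnil (hPp.mem_of_pow_mem j h))
    rw [show r ^ j * a ^ k = 0 from hj]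
    exact Ideal.zero_mem _
  haveI : (nilradical S').IsPrime := by
    have h1 : ((nilradical Γ(X, U)).map (algebraMap Γ(X, U) S')).IsPrime :=
      IsLocalization.isPrime_of_isPrime_disjoint (Submonoid.powers r) S' _ hPp
        (Set.disjoint_left.2 fun a ha h => by
          obtain ⟨j, rfl⟩ := ha
          exact hrnil (hPp.mem_of_pow_mem j h))
    rwa [← hnilS', IsLocalization.map_under (Submonoid.powers r)] at h1
  have hind : ∀ g : T, MvPolynomial.aeval b g ∈ nilradical Γ(X, U) ↔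
      ∀ m, g.coeff m ∈ nilradical Γ(Y, W) := by
    haveI : (nilradical Γ(X, U)).LiesOver (nilradical Γ(Y, W)) := ⟨by
      rw [← hP, ← hq]
      exact (congrArg PrimeSpectrum.asIdeal (comap_appLE_primeIdealOf f hW hU e hξU)).symm⟩
    refine mem_iff_of_algebraicIndependent (nilradical Γ(Y, W)) (nilradical Γ(X, U)) b
      (algebraicIndependent_of_quasiFiniteAt (nilradical Γ(Y, W)) (nilradical Γ(X, U)) b ?_ ?_)
    · haveI : Algebra.QuasiFiniteAt T n.asIdeal := hqf n (comap_appLE_primeIdealOf f hW hU e hxU)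
      exact Algebra.QuasiFiniteAt.of_le (nilradical_le_prime n.asIdeal)
    · haveI : (hU.primeIdealOf ⟨ξ, hξU⟩).asIdeal.LiesOver (hW.primeIdealOf ⟨f.base ξ, e hξU⟩).asIdeal :=
        ⟨(congrArg PrimeSpectrum.asIdeal (comap_appLE_primeIdealOf f hW hU e hξU)).symm⟩
      refine le_of_le_of_eq (Nat.cast_le.2 hs) (hd₁.symm.trans ?_)
      rw [← Groth.FibreDim.relTrdeg_eq_trdeg_quotient f hW hU e hξU]
      have gen : ∀ (q₁ q₂ : Ideal Γ(Y, W)) (P₁ P₂ : Ideal Γ(X, U)) [P₁.LiesOver q₁] [P₂.LiesOver q₂],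
          q₁ = q₂ → P₁ = P₂ →
          Algebra.trdeg (Γ(Y, W) ⧸ q₁) (Γ(X, U) ⧸ P₁) = Algebra.trdeg (Γ(Y, W) ⧸ q₂) (Γ(X, U) ⧸ P₂) :=
        fun _ _ _ _ _ _ h1 h2 => by subst h1 h2; rfl
      exact gen _ _ _ _ hq hP
  let b' : Fin s → S' := fun i => algebraMap Γ(X, U) S' (b i)
  have hu : UniversallyOpen (Spec.map (CommRingCat.ofHom (algebraMap Γ(Y, W) S'))) := by
    refine universallyOpen_of_params (fun p' _ => ?_) b' (fun n' => ?_) fun g => ?_
    · let w : Y := hW.fromSpec.base ⟨p', inferInstance⟩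
      have hw : w ∈ W := hW.range_fromSpec.le ⟨_, rfl⟩
      have he : hW.primeIdealOf ⟨w, hw⟩ = ⟨p', inferInstance⟩ :=
        hW.fromSpec.isOpenEmbedding.injective (hW.fromSpec_primeIdealOf ⟨w, hw⟩)
      refine ⟨Y.presheaf.stalk w, inferInstance, inferInstance,
        Y.presheaf.algebra_section_stalk (⟨w, hw⟩ : W), ?_, hY w⟩
      have := hW.isLocalization_stalk ⟨w, hw⟩
      simp only [he] at this
      exact this
    · letI := (MvPolynomial.aeval (R := Γ(Y, W)) b').toRingHom.toAlgebra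
      let φ : Γ(X, U) →ₐ[T] S' :=
        { algebraMap Γ(X, U) S' with
          commutes' := fun g => MvPolynomial.comp_aeval_apply b
            (IsScalarTower.toAlgHom Γ(Y, W) Γ(X, U) S') g }
      haveI : Algebra.QuasiFiniteAt T (n'.asIdeal.comap (algebraMap Γ(X, U) S')) :=
        hr (a := n'.comap (algebraMap Γ(X, U) S'))
          ((PrimeSpectrum.localization_away_comap_range S' r).le ⟨n', rfl⟩)
      exact Algebra.QuasiFiniteAt.of_surjectiveOnStalks (n'.asIdeal.comap (algebraMap Γ(X, U) S')) φ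
        (RingHom.surjectiveOnStalks_of_isLocalization (M := Submonoid.powers r) (S := S')) _ rfl
    · rw [show MvPolynomial.aeval b' g = algebraMap Γ(X, U) S' (MvPolynomial.aeval b g) from
        (MvPolynomial.comp_aeval_apply b (IsScalarTower.toAlgHom Γ(Y, W) Γ(X, U) S') g).symm]
      rw [← Ideal.mem_comap, hnilS', hind]
  let g := Spec.map (CommRingCat.ofHom (algebraMap Γ(Y, W) Γ(X, U)))
  have hg : g ≫ hW.fromSpec = hU.fromSpec ≫ f := hW.SpecMap_appLE_fromSpec f hU e
  obtain ⟨n', hn'⟩ : n ∈ Set.range (Spec.map (CommRingCat.ofHom (algebraMap Γ(X, U) S'))).base :=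
    (PrimeSpectrum.localization_away_comap_range S' r).ge hnr
  rw [show Spec.map (CommRingCat.ofHom (algebraMap Γ(Y, W) S')) =
      Spec.map (CommRingCat.ofHom (algebraMap Γ(X, U) S')) ≫ g by
    rw [← Spec.map_comp, ← CommRingCat.ofHom_comp, ← IsScalarTower.algebraMap_eq]] at hu
  have h1 : EGA43.IsUnivOpenAt g n :=
    hn' ▸ isUnivOpenAt_right_of_comp ((universallyOpen_iff_forall_isUnivOpenAt _).1 hu n')
  have h2 := isUnivOpenAt_comp h1 ((universallyOpen_iff_forall_isUnivOpenAt hW.fromSpec).1 inferInstance _)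
  rw [hg] at h2
  have h3 := isUnivOpenAt_right_of_comp h2
  rwa [hU.fromSpec_primeIdealOf ⟨x, hxU⟩] at h3

end Groth.EGA43Topo
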