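import Groth.Agent.Hensel1.Unibranch
import Groth.Prelude.Def_CAlg2
import Mathlib.RingTheory.IntegralClosure.GoingDown

/-!
# Going down over unibranch local rings (EGA IV 14.4.1.2)
-/

universe u

set_option linter.style.haveILetI false

namespace Groth.EGA43Topo

/-- Going down to any prime for an integral extension domain of the reduction of a unibranch local ring. -/
theorem exists_le_comap_eq_of_isUnibranch {A B : Type u} [CommRing A] [IsLocalRing A]
    (hA : CAlg2.IsUnibranch A) [CommRing B] [IsDomain B] (φ : CAlg2.red A →+* B)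
    (hinj : Function.Injective φ) (hint : φ.IsIntegral) (n : Ideal B) [n.IsPrime]
    (hn : n.comap (φ.comp (Ideal.Quotient.mk (nilradical A))) = IsLocalRing.maximalIdeal A)
    (p : Ideal A) [p.IsPrime] :
    ∃ q : Ideal B, q.IsPrime ∧ q ≤ n ∧ q.comap (φ.comp (Ideal.Quotient.mk (nilradical A))) = p := by
  haveI : IsDomain (CAlg2.red A) := hA.1
  haveI hA' : IsLocalRing (CAlg2.normRed A) := hA.2
  haveI : IsIntegrallyClosed (CAlg2.normRed A) := Groth.Hensel1.isIntegrallyClosed_normalization (CAlg2.red A)
  let K := FractionRing (CAlg2.red A)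
  let L := FractionRing B
  letI : Algebra (CAlg2.red A) B := φ.toAlgebra
  haveI : Algebra.IsIntegral (CAlg2.red A) B := ⟨hint⟩
  have hL : Function.Injective (algebraMap (CAlg2.red A) L) := by
    rw [IsScalarTower.algebraMap_eq (CAlg2.red A) B L]
    exact (IsFractionRing.injective B L).comp hinj
  let j : K →+* L := IsFractionRing.lift hL
  have hj : ∀ a, j (algebraMap _ K a) = algebraMap _ L a := fun a => IsFractionRing.lift_algebraMap hL a
  let jA : K →ₐ[CAlg2.red A] L := ⟨j, hj⟩
  let C := integralClosure (CAlg2.red A) L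
  let f : CAlg2.normRed A →ₐ[CAlg2.red A] C :=
    (jA.comp (integralClosure (CAlg2.red A) K).val).codRestrict C fun z => (z.2 : IsIntegral _ _).map jA
  letI : Algebra (CAlg2.normRed A) C := f.toRingHom.toAlgebra
  haveI : IsScalarTower (CAlg2.red A) (CAlg2.normRed A) C := IsScalarTower.of_algebraMap_eq fun a => (f.commutes a).symm
  haveI : Algebra.IsIntegral (CAlg2.normRed A) C := Algebra.IsIntegral.tower_top (CAlg2.red A)
  haveI : FaithfulSMul (CAlg2.normRed A) C := (faithfulSMul_iff_algebraMap_injective _ _).2 fun a b hab =>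
    Subtype.ext (j.injective (congrArg Subtype.val hab))
  let g : B →ₐ[CAlg2.red A] C := (IsScalarTower.toAlgHom (CAlg2.red A) B L).codRestrict C
    fun b => (Algebra.IsIntegral.isIntegral b).map _
  letI : Algebra B C := g.toRingHom.toAlgebra
  haveI : IsScalarTower (CAlg2.red A) B C := IsScalarTower.of_algebraMap_eq fun a => (g.commutes a).symm
  haveI : Algebra.IsIntegral B C := Algebra.IsIntegral.tower_top (CAlg2.red A)
  haveI : FaithfulSMul B C := (faithfulSMul_iff_algebraMap_injective _ _).2 fun a b hab =>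
    IsFractionRing.injective B L (congrArg Subtype.val hab)
  let π : A →+* CAlg2.red A := Ideal.Quotient.mk (nilradical A)
  obtain ⟨n₁, _, hn₁⟩ := Ideal.exists_ideal_over_prime_of_isIntegral n (⊥ : Ideal C)
    (by rw [Ideal.comap_bot_of_injective _ (FaithfulSMul.algebraMap_injective B C)]; exact bot_le) |>.imp
    fun Q hQ => (⟨hQ.2.1, hQ.2.2⟩ : Q.IsPrime ∧ _)
  -- the prime of the normalization under `n₁` is the closed point
  let p₁ : Ideal (CAlg2.red A) := p.map π
  haveI : p₁.IsPrime := Ideal.map_isPrime_of_surjective Ideal.Quotient.mk_surjective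
    (by rw [Ideal.mk_ker]; exact nilradical_le_prime p)
  have hp₁ : p₁.comap π = p := Ideal.comap_map_mk (nilradical_le_prime p)
  obtain ⟨p', _, hp'prime, hp'⟩ := Ideal.exists_ideal_over_prime_of_isIntegral p₁ (⊥ : Ideal (CAlg2.normRed A))
    (by rw [Ideal.comap_bot_of_injective _ (FaithfulSMul.algebraMap_injective (CAlg2.red A) (CAlg2.normRed A))]
        exact bot_le)
  let n' : Ideal (CAlg2.normRed A) := n₁.comap (algebraMap _ C)
  have hn'A : (n'.comap (algebraMap (CAlg2.red A) _)).comap π = IsLocalRing.maximalIdeal A := by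
    rw [show n'.comap (algebraMap (CAlg2.red A) _) = n₁.comap (algebraMap (CAlg2.red A) C) by
      rw [Ideal.comap_comap, ← IsScalarTower.algebraMap_eq], IsScalarTower.algebraMap_eq (CAlg2.red A) B C,
      ← Ideal.comap_comap, hn₁, Ideal.comap_comap]
    exact hn
  have hle : p' ≤ n' := by
    haveI : n'.IsPrime := Ideal.comap_isPrime _ _
    haveI : (n'.comap (algebraMap (CAlg2.red A) (CAlg2.normRed A))).IsMaximal := by
      have h1 := Ideal.map_eq_top_or_isMaximal_of_surjective π Ideal.Quotient.mk_surjective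
        (IsLocalRing.maximalIdeal.isMaximal A)
      rw [← hn'A, Ideal.map_comap_of_surjective π Ideal.Quotient.mk_surjective] at h1
      exact h1.resolve_left (Ideal.comap_isPrime _ _).ne_top
    haveI : n'.IsMaximal := Ideal.isMaximal_of_isIntegral_of_isMaximal_comap (R := CAlg2.red A) n' inferInstance
    exact (IsLocalRing.eq_maximalIdeal (inferInstance : n'.IsMaximal)) ▸ IsLocalRing.le_maximalIdeal hp'prime.ne_top
  haveI := hp'prime
  haveI : n₁.LiesOver n' := ⟨rfl⟩
  haveI : n'.IsPrime := Ideal.comap_isPrime _ _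
  obtain ⟨q, hqn, hq, hqp⟩ := Ideal.exists_ideal_le_liesOver_of_le (p := p') (q := n') n₁ hle
  refine ⟨q.comap (algebraMap B C), Ideal.comap_isPrime _ _, hn₁ ▸ Ideal.comap_mono hqn, ?_⟩
  show ((q.comap (algebraMap B C)).comap (algebraMap (CAlg2.red A) B)).comap π = p
  refine (congrArg (Ideal.comap π) ?_).trans hp₁
  rw [Ideal.comap_comap, ← IsScalarTower.algebraMap_eq (CAlg2.red A) B C,
    IsScalarTower.algebraMap_eq (CAlg2.red A) (CAlg2.normRed A) C, ← Ideal.comap_comap]
  exact (congrArg (Ideal.comap _) hqp.over.symm).trans hp'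

end Groth.EGA43Topo
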