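import Mathlib
import Groth.Prelude.Def_CAlg2
import Groth.Agent.HTopHyper.RingCore

/-!
# Lifting of valued points along integral extensions of geometrically unibranch local rings
(the ring-theoretic core of EGA IV 14.4)
-/

universe u

open Polynomial

namespace Groth.EGA43Topo

/-- Two field-valued homomorphisms which agree on the invariants of a finite group differ by an
element of the group. -/
theorem exists_eq_comp_of_agree_on_fixed {D k : Type u} [CommRing D] [Field k] {G : Type u} [Group G]
    [Finite G] (ρ : G →* RingAut D) (e₁ e₂ : D →+* k)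
    (h : ∀ d : D, (∀ g, ρ g d = d) → e₁ d = e₂ d) : ∃ g, ∀ d, e₂ d = e₁ (ρ g d) := by
  classical
  letI := Fintype.ofFinite G
  by_contra! hc
  choose δ hδ using hc
  let F : MvPolynomial G D := ∑ g, MvPolynomial.monomial (Finsupp.single g 1) (δ g)
  have hFc : ∀ g, MvPolynomial.coeff (Finsupp.single g 1) F = δ g := fun g => by
    simp [F, MvPolynomial.coeff_sum, MvPolynomial.coeff_monomial, Finsupp.single_left_inj]
  let m : G → MvPolynomial G D →+* MvPolynomial G D := fun g => MvPolynomial.map (ρ g : D ≃+* D).toRingHom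
  let P : (MvPolynomial G D)[X] := ∏ g, (X - C (m g F))
  have hmul : ∀ g g', m g (m g' F) = m (g * g') F := fun g g' => by
    simp only [m, MvPolynomial.map_map, map_mul]
    rfl
  have hinv : ∀ g, P.map (m g) = P := fun g => by
    simp only [P, Polynomial.map_prod, Polynomial.map_sub, Polynomial.map_X, Polynomial.map_C, hmul]
    exact Fintype.prod_equiv (Equiv.mulLeft g) _ _ fun _ => rfl
  have hPe : P.map (MvPolynomial.map e₁) = P.map (MvPolynomial.map e₂) := by
    refine Polynomial.ext fun n => MvPolynomial.ext _ _ fun i => ?_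
    simp only [Polynomial.coeff_map, MvPolynomial.coeff_map]
    refine h _ fun g => ?_
    conv_rhs => rw [← hinv g]
    simp [m, Polynomial.coeff_map, MvPolynomial.coeff_map]
  have he := congrArg (Polynomial.eval (MvPolynomial.map e₂ F)) hPe
  simp only [P, Polynomial.map_prod, Polynomial.map_sub, Polynomial.map_X, Polynomial.map_C,
    Polynomial.eval_prod, Polynomial.eval_sub, Polynomial.eval_X, Polynomial.eval_C] at he
  have h1 : m 1 F = F := by
    simp only [m, map_one]
    exact MvPolynomial.map_id F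
  rw [Finset.prod_eq_zero (f := fun g => MvPolynomial.map e₂ F - MvPolynomial.map e₂ (m g F))
    (Finset.mem_univ (1 : G)) (by rw [h1, sub_self]), Finset.prod_eq_zero_iff] at he
  obtain ⟨g, -, hg⟩ := he
  have := congrArg (MvPolynomial.coeff (Finsupp.single g 1)) (sub_eq_zero.1 hg)
  simp only [m, MvPolynomial.coeff_map, hFc] at this
  exact hδ g this

/-- Frobenius powers are injective. -/
lemma pow_expChar_inj {k : Type u} [Field k] (p : ℕ) [ExpChar k p] (n : ℕ) {x y : k}
    (h : x ^ p ^ n = y ^ p ^ n) : x = y :=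
  (iterateFrobenius k p n).injective (by rwa [iterateFrobenius_def, iterateFrobenius_def])

/-- In a normal extension a fixed element is purely inseparable over the base. -/
theorem exists_pow_mem_of_fixed {K : Type u} [Field K] (q : ℕ) [ExpChar K q]
    (L : IntermediateField K (AlgebraicClosure K)) [Normal K L] (x : L) (h : ∀ σ : L ≃ₐ[K] L, σ x = x) :
    ∃ n : ℕ, x ^ q ^ n ∈ (algebraMap K L).range := by
  classical
  have hint : IsIntegral K x := Algebra.IsIntegral.isIntegral x
  have hint' : IsIntegral K (x : AlgebraicClosure K) := Algebra.IsIntegral.isIntegral _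
  have hmin : minpoly K (x : AlgebraicClosure K) = minpoly K x :=
    minpoly.algebraMap_eq (algebraMap L (AlgebraicClosure K)).injective x
  refine (minpoly.natSepDegree_eq_one_iff_pow_mem q).1 ?_
  rw [← hmin, Polynomial.natSepDegree_eq_of_isAlgClosed (AlgebraicClosure K), Finset.card_eq_one]
  refine ⟨x, Finset.eq_singleton_iff_unique_mem.2 ⟨?_, fun z hz => ?_⟩⟩
  · rw [Multiset.mem_toFinset, Polynomial.mem_aroots]
    exact ⟨minpoly.ne_zero hint', minpoly.aeval _ _⟩
  · rw [Multiset.mem_toFinset, Polynomial.mem_aroots] at hz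
    obtain ⟨σ, hσ⟩ := IsConjRoot.exists_algEquiv
      ((isConjRoot_iff_aeval_eq_zero hint').2 hz.2).symm
    have := h (σ.restrictNormal L)
    rw [← hσ]
    have h2 := AlgEquiv.restrictNormal_commutes σ L x
    rw [this] at h2
    exact h2.symm

/-- Over a geometrically unibranch local ring, residue data on the normalization are determined by
their restriction to the ring. -/
theorem eq_of_isGeomUnibranch (A : Type u) [CommRing A] [IsLocalRing A] (hA : CAlg2.IsGeomUnibranch A)
    {k : Type u} [Field k] (e₀ : A →+* k) (hloc : RingHom.ker e₀ = IsLocalRing.maximalIdeal A)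
    (e₁ e₂ : CAlg2.normRed A →+* k)
    (h₁ : ∀ a, e₁ (algebraMap (CAlg2.red A) (CAlg2.normRed A) (Ideal.Quotient.mk _ a)) = e₀ a)
    (h₂ : ∀ a, e₂ (algebraMap (CAlg2.red A) (CAlg2.normRed A) (Ideal.Quotient.mk _ a)) = e₀ a) :
    e₁ = e₂ := by
  obtain ⟨⟨hdom, hlocal⟩, hgu⟩ := hA
  haveI : IsLocalRing (CAlg2.normRed A) := hlocal
  let m' := IsLocalRing.maximalIdeal (CAlg2.normRed A)
  let f₀ : A →+* CAlg2.normRed A :=
    (algebraMap (CAlg2.red A) (CAlg2.normRed A)).comp (Ideal.Quotient.mk (nilradical A))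
  have hq₀ : (Ideal.Quotient.mk (nilradical A)).IsIntegral := fun x => by
    obtain ⟨a, rfl⟩ := Ideal.Quotient.mk_surjective x
    exact RingHom.isIntegralElem_map _
  have hf₀ : f₀.IsIntegral := RingHom.IsIntegral.trans _ _ hq₀ (fun x => Algebra.IsIntegral.isIntegral x)
  have hkerm : ∀ e : CAlg2.normRed A →+* k, (∀ a, e (f₀ a) = e₀ a) → RingHom.ker e = m' := fun e he => by
    letI := f₀.toAlgebra
    haveI : Algebra.IsIntegral A (CAlg2.normRed A) := ⟨hf₀⟩
    haveI := RingHom.ker_isPrime e
    refine IsLocalRing.eq_maximalIdeal (Ideal.isMaximal_of_isIntegral_of_isMaximal_comap (R := A) _ ?_)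
    rw [RingHom.comap_ker, show e.comp (algebraMap A (CAlg2.normRed A)) = e₀ from RingHom.ext he, hloc]
    exact IsLocalRing.maximalIdeal.isMaximal A
  have hk₁ := hkerm e₁ h₁
  have hk₂ := hkerm e₂ h₂
  ext a'
  obtain ⟨n, a, ha⟩ := hgu m' (Ideal.Quotient.mk m' a')
  set p := ringExpChar (CAlg2.normRed A ⧸ m')
  haveI : ExpChar k p := by
    letI := Ideal.Quotient.field m'
    exact expChar_of_injective_ringHom (f := Ideal.Quotient.lift m' e₁ fun x hx => by
      rwa [← RingHom.mem_ker, hk₁]) (RingHom.injective _) p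
  have hmem' : a' ^ p ^ n - f₀ a ∈ m' := by
    rw [← Ideal.Quotient.eq, map_pow]
    exact ha.symm
  have key : ∀ e : CAlg2.normRed A →+* k, RingHom.ker e = m' → (∀ a, e (f₀ a) = e₀ a) →
      e a' ^ p ^ n = e₀ a := fun e hk he => by
    have h0 : e (a' ^ p ^ n - f₀ a) = 0 := RingHom.mem_ker.1 (hk.symm ▸ hmem')
    rw [map_sub, sub_eq_zero, map_pow] at h0
    rw [h0, he]
  exact pow_expChar_inj p n ((key e₁ hk₁ h₁).trans (key e₂ hk₂ h₂).symm)

/-- **Lifting of valued points**: over a geometrically unibranch local ring every compatible residue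
datum on an integral extension lifts to the valuation ring. -/
theorem exists_lift_of_agree (A₁ : Type u) [CommRing A₁] [IsDomain A₁]
    {C : Type u} [CommRing C] [IsDomain C] [Algebra A₁ C] [Algebra.IsIntegral A₁ C]
    (hφinj : Function.Injective (algebraMap A₁ C))
    (hgen : ∃ s : Finset C, ∀ c : C, ∃ b : C, b ≠ 0 ∧ b ∈ Algebra.adjoin A₁ (s : Set C) ∧
      b * c ∈ Algebra.adjoin A₁ (s : Set C))
    {Ω : Type u} [Field Ω] [IsAlgClosed Ω] (O : ValuationSubring Ω) {k : Type u} [Field k] [IsAlgClosed k]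
    (res : O →+* k) (χ₀ : A₁ →+* O)
    (hagree : ∀ e₁ e₂ : integralClosure A₁ (FractionRing A₁) →+* k,
      (∀ a, e₁ (algebraMap A₁ _ a) = res (χ₀ a)) → (∀ a, e₂ (algebraMap A₁ _ a) = res (χ₀ a)) → e₁ = e₂)
    (ε : C →+* k) (hε : ∀ a, ε (algebraMap A₁ C a) = res (χ₀ a)) :
    ∃ χ : C →+* O, (∀ a, χ (algebraMap A₁ C a) = χ₀ a) ∧ ∀ c, res (χ c) = ε c := by
  classical
  let φ := algebraMap A₁ C
  have hφint : φ.IsIntegral := fun c => Algebra.IsIntegral.isIntegral c
  let K := FractionRing A₁
  let i₀ : A₁ →+* AlgebraicClosure K := (algebraMap K (AlgebraicClosure K)).comp (algebraMap A₁ K)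
  have hi₀ : Function.Injective i₀ :=
    (algebraMap K (AlgebraicClosure K)).injective.comp (IsFractionRing.injective A₁ K)
  obtain ⟨d, hd⟩ := Groth.HTopHyper.exists_extend φ hφint i₀
    (by rw [(RingHom.injective_iff_ker_eq_bot φ).1 hφinj]; exact bot_le)
  have hdinj : Function.Injective d := by
    rw [RingHom.injective_iff_ker_eq_bot]
    haveI := RingHom.ker_isPrime d
    letI := φ.toAlgebra
    haveI : Algebra.IsIntegral A₁ C := ⟨hφint⟩
    refine Ideal.eq_bot_of_comap_eq_bot (R := A₁) ?_
    rw [RingHom.comap_ker]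
    show RingHom.ker (d.comp φ) = ⊥
    rw [hd]
    exact (RingHom.injective_iff_ker_eq_bot i₀).1 hi₀
  obtain ⟨s, hs⟩ := hgen
  let L₀ : IntermediateField K (AlgebraicClosure K) := IntermediateField.adjoin K (d '' (s : Set C))
  haveI : FiniteDimensional K L₀ :=
    IntermediateField.finiteDimensional_adjoin fun x _ => Algebra.IsIntegral.isIntegral x
  let L : IntermediateField K (AlgebraicClosure K) := IntermediateField.normalClosure K L₀ (AlgebraicClosure K)
  haveI : Normal K L := normalClosure.normal K L₀ (AlgebraicClosure K)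
  haveI : FiniteDimensional K L := inferInstance
  have hL₀ : L₀ ≤ L := L₀.le_normalClosure
  have hdL : ∀ c, d c ∈ L := fun c => hL₀ (by
    have hadj : ∀ x ∈ Algebra.adjoin A₁ (s : Set C), d x ∈ L₀ := fun x hx => by
      induction hx using Algebra.adjoin_induction with
      | mem x hx => exact IntermediateField.subset_adjoin K _ ⟨x, hx, rfl⟩
      | algebraMap a =>
        rw [show d (algebraMap A₁ C a) = i₀ a from RingHom.congr_fun hd a]
        exact L₀.algebraMap_mem _
      | add x y _ _ hx hy => rw [map_add]; exact L₀.add_mem hx hy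
      | mul x y _ _ hx hy => rw [map_mul]; exact L₀.mul_mem hx hy
    obtain ⟨b, hb, hbs, hbc⟩ := hs c
    have hdb : d b ≠ 0 := fun h0 => hb (hdinj (by rw [h0, map_zero]))
    rw [show d c = d (b * c) / d b by rw [map_mul]; field_simp]
    exact L₀.div_mem (hadj _ hbc) (hadj _ hbs))
  let D := integralClosure A₁ L
  let j : C →+* L := d.codRestrict L.toSubalgebra.toSubsemiring hdL
  have hj : ∀ a : A₁, j (φ a) = algebraMap A₁ L a := fun a => Subtype.ext (RingHom.congr_fun hd a)
  let jD : C →+* D := j.codRestrict D.toSubsemiring fun c => by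
    obtain ⟨p, hp, hpc⟩ := hφint c
    refine ⟨p, hp, ?_⟩
    have := congrArg j hpc
    rw [Polynomial.hom_eval₂, map_zero] at this
    rw [← this]
    congr 1
    exact RingHom.ext fun a => (hj a).symm
  have hjD : ∀ a : A₁, jD (algebraMap A₁ C a) = algebraMap A₁ D a :=
    fun a => Subtype.ext (hj a)
  have hDinj : Function.Injective (algebraMap A₁ D) := fun a b hab => hi₀ (by
    have := congrArg (fun x : D => ((x : L) : AlgebraicClosure K)) hab
    exact this)
  have hDint : (algebraMap A₁ D).IsIntegral := fun x => Algebra.IsIntegral.isIntegral x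
  -- the action of the Galois group
  let ρ : (L ≃ₐ[K] L) →* RingAut D :=
    { toFun := fun σ => ((σ.restrictScalars A₁).mapIntegralClosure).toRingEquiv
      map_one' := RingEquiv.ext fun x => Subtype.ext rfl
      map_mul' := fun σ τ => RingEquiv.ext fun x => Subtype.ext rfl }
  -- the valued point of `A₁`
  let χ₁ : A₁ →+* Ω := O.subtype.comp χ₀
  obtain ⟨χD, hχD⟩ := Groth.HTopHyper.exists_extend (algebraMap A₁ D) hDint χ₁
    (by rw [(RingHom.injective_iff_ker_eq_bot _).1 hDinj]; exact bot_le)
  have hmem : ∀ x : D, χD x ∈ O := fun x => by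
    obtain ⟨p, hp, hpx⟩ := hDint x
    have h0 := congrArg χD hpx
    rw [Polynomial.hom_eval₂, map_zero, hχD] at h0
    have hint : IsIntegral O (χD x) :=
      ⟨p.map χ₀, hp.map _, by
        rw [Polynomial.eval₂_map]; exact h0⟩
    obtain ⟨y, hy⟩ := IsIntegrallyClosed.isIntegral_iff.1 hint
    exact hy ▸ y.2
  let χO : D →+* O := χD.codRestrict O.toSubring hmem
  have hχO : ∀ a : A₁, χO (algebraMap A₁ D a) = χ₀ a := fun a =>
    Subtype.ext (RingHom.congr_fun hχD a)
  let e₁ : D →+* k := res.comp χO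
  have hjDint : jD.IsIntegral := fun x => by
    obtain ⟨p, hp, hpx⟩ := hDint x
    refine ⟨p.map φ, hp.map _, ?_⟩
    have hcomp : jD.comp φ = algebraMap A₁ D := RingHom.ext fun a => Subtype.ext (hj a)
    rw [Polynomial.eval₂_map, hcomp]
    exact hpx
  have hjDinj : Function.Injective jD := fun a b hab => hdinj (by
    exact congrArg (fun x : D => ((x : L) : AlgebraicClosure K)) hab)
  obtain ⟨e₂, he₂⟩ := Groth.HTopHyper.exists_extend jD hjDint ε
    (by rw [(RingHom.injective_iff_ker_eq_bot _).1 hjDinj]; exact bot_le)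
  -- agreement on `A`, on the normalization and on the invariants
  have hA₁ : ∀ a : A₁, e₁ (algebraMap A₁ D a) = res (χ₀ a) ∧
      e₂ (algebraMap A₁ D a) = res (χ₀ a) := fun a =>
    ⟨congrArg res (hχO a), by rw [← hjD, ← hε a]; exact RingHom.congr_fun he₂ _⟩
  let ι : integralClosure A₁ K →+* D :=
    ((IsScalarTower.toAlgHom A₁ K L).mapIntegralClosure).toRingHom
  have hι : ∀ a : A₁, ι (algebraMap A₁ (integralClosure A₁ K) a) = algebraMap A₁ D a := fun a =>
    ((IsScalarTower.toAlgHom A₁ K L).mapIntegralClosure).commutes a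
  have hnorm : ∀ a' : integralClosure A₁ K, e₁ (ι a') = e₂ (ι a') := fun a' =>
    RingHom.congr_fun (hagree (e₁.comp ι) (e₂.comp ι)
      (fun a => by rw [RingHom.comp_apply, hι]; exact (hA₁ a).1)
      (fun a => by rw [RingHom.comp_apply, hι]; exact (hA₁ a).2)) a'
  obtain ⟨q, hq⟩ := ExpChar.exists K
  have hfix : ∀ x : D, (∀ σ, ρ σ x = x) → e₁ x = e₂ x := fun x hx => by
    obtain ⟨n, y, hy⟩ := exists_pow_mem_of_fixed q L (x : L) fun σ => congrArg Subtype.val (hx σ)
    have hyint : IsIntegral A₁ y := by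
      refine (isIntegral_algHom_iff (IsScalarTower.toAlgHom A₁ K L) (algebraMap K L).injective).1 ?_
      show IsIntegral A₁ (algebraMap K L y)
      rw [hy]
      exact (x.2 : IsIntegral A₁ (x : L)).pow _
    have hxy : x ^ q ^ n = ι ⟨y, hyint⟩ := Subtype.ext hy.symm
    have hpow : e₁ x ^ q ^ n = e₂ x ^ q ^ n := by
      rw [← map_pow, ← map_pow, hxy, hnorm]
    cases hq with
    | zero => simpa using hpow
    | prime hprime =>
      haveI : CharP A₁ q := RingHom.charP (algebraMap A₁ K) (IsFractionRing.injective A₁ K) q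
      haveI : CharP k q := by
        refine (CharP.charP_iff_prime_eq_zero hprime).2 ?_
        rw [← map_natCast (e₁.comp (algebraMap A₁ D)) q, CharP.cast_eq_zero, map_zero]
      haveI : Fact q.Prime := ⟨hprime⟩
      haveI : ExpChar k q := ExpChar.prime hprime
      exact pow_expChar_inj q n hpow
  obtain ⟨σ, hσ⟩ := exists_eq_comp_of_agree_on_fixed ρ e₁ e₂ hfix
  refine ⟨χO.comp ((ρ σ : D ≃+* D).toRingHom.comp jD), fun a => ?_, fun c => ?_⟩
  · show χO (ρ σ (jD (algebraMap A₁ C a))) = _
    rw [hjD, show ρ σ (algebraMap A₁ D a) = algebraMap A₁ D a from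
      ((σ.restrictScalars A₁).mapIntegralClosure).commutes _, hχO]
  · show e₁ (ρ σ (jD c)) = _
    rw [← hσ]
    exact RingHom.congr_fun he₂ c

end Groth.EGA43Topo
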