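import Groth.Agent.EGA43Topo.UnibranchGoingDown
import Mathlib.RingTheory.ZariskisMainTheorem
import Mathlib.RingTheory.Valuation.LocalSubring

/-!
# Lifting generizations at quasi-finite points over unibranch points (EGA IV 14.4.1.2)
-/

universe u

set_option linter.style.haveILetI false

namespace Groth.EGA43Topo

/-- At a quasi-finite point with a generization over the minimal prime of a unibranch prime, every
generization of the image lifts. -/
theorem exists_le_comap_eq_of_quasiFiniteAt {R S : Type u} [CommRing R] [CommRing S] [Algebra R S]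
    [Algebra.FiniteType R S] (p : Ideal R) [p.IsPrime] (A : Type u) [CommRing A] [IsLocalRing A]
    [Algebra R A] [IsLocalization.AtPrime A p] (hA : CAlg2.IsUnibranch A)
    (n : Ideal S) [n.IsPrime] [n.LiesOver p] [Algebra.QuasiFiniteAt R n]
    (P : Ideal S) [P.IsPrime] (hPn : P ≤ n) (hq : P.comap (algebraMap R S) ∈ minimalPrimes R)
    (p' : Ideal R) [p'.IsPrime] (hp' : p' ≤ p) :
    ∃ Q : Ideal S, Q.IsPrime ∧ Q ≤ n ∧ Q.comap (algebraMap R S) = p' := by
  obtain ⟨r₀, hr₀, hri, hint⟩ := Algebra.zariskisMainProperty_iff.1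
    (Algebra.ZariskisMainProperty.of_finiteType (R := R) n)
  have hnp : n.comap (algebraMap R S) = p := (n.over_def p).symm
  let D := S ⧸ P
  let L := FractionRing D
  let I := integralClosure R D
  let r : I := ⟨Ideal.Quotient.mk P r₀, hri.map (Ideal.Quotient.mkₐ R P)⟩
  have hI : ∀ d : D, ∃ (m : ℕ) (i : I), (i : D) = (r : D) ^ m * d := fun d => by
    obtain ⟨s, rfl⟩ := Ideal.Quotient.mk_surjective d
    obtain ⟨m, hm⟩ := hint s
    exact ⟨m, ⟨Ideal.Quotient.mk P (r₀ ^ m * s), hm.map (Ideal.Quotient.mkₐ R P)⟩, by simp [r, D]⟩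
  let nD : Ideal D := n.map (Ideal.Quotient.mk P)
  haveI : nD.IsPrime := Ideal.map_isPrime_of_surjective Ideal.Quotient.mk_surjective (by rwa [Ideal.mk_ker])
  have hnD : ∀ s, Ideal.Quotient.mk P s ∈ nD ↔ s ∈ n := fun s => by
    rw [← Ideal.mem_comap, Ideal.comap_map_mk hPn]
  have hnDR : ∀ x : R, algebraMap R D x ∈ nD ↔ x ∈ p := fun x => by
    rw [← hnp, Ideal.mem_comap]; exact hnD _
  let nI : Ideal I := nD.comap I.val.toRingHom
  haveI : nI.IsPrime := Ideal.comap_isPrime _ _
  have hrnI : r ∉ nI := fun h => hr₀ ((hnD r₀).1 h)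
  -- a valuation ring dominating `I` at `nI`
  let iI : I →+* L := (algebraMap D L).comp I.val.toRingHom
  have hiI : ∀ y : nI.primeCompl, IsUnit (iI y) := fun y => by
    refine IsUnit.mk0 _ fun h0 => y.2 ?_
    have : ((y : I) : D) = 0 := IsFractionRing.injective D L (h0.trans (map_zero _).symm)
    show ((y : I) : D) ∈ nD
    rw [this]; exact zero_mem _
  let iL : Localization.AtPrime nI →+* L := IsLocalization.lift hiI
  obtain ⟨O, hO, hOloc⟩ := IsLocalRing.exists_factor_valuationRing iL
  let jO : I →+* O := (iL.codRestrict O.toSubring hO).comp (algebraMap I _)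
  have hjO : ∀ i : I, ((jO i : O) : L) = algebraMap D L (i : D) := fun i => IsLocalization.lift_eq _ i
  have hjOu : ∀ i : I, IsUnit (jO i) ↔ i ∉ nI := fun i => by
    rw [show jO i = (iL.codRestrict O.toSubring hO) (algebraMap I _ i) from rfl]
    haveI := hOloc
    rw [isUnit_map_iff, IsLocalization.AtPrime.isUnit_to_map_iff _ nI]
    rfl
  -- the localization of `R` at `p` maps to `L`
  have hunitL : ∀ y : p.primeCompl, IsUnit (algebraMap R L y) := fun y => by
    refine IsUnit.mk0 _ fun h0 => y.2 ((hnDR _).1 ?_)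
    rw [IsScalarTower.algebraMap_apply R D L, map_eq_zero_iff _ (IsFractionRing.injective D L)] at h0
    rw [h0]; exact zero_mem _
  let ψ : A →+* L := IsLocalization.lift hunitL
  have hψ : ∀ x : R, ψ (algebraMap R A x) = algebraMap D L (algebraMap R D x) := fun x =>
    (IsLocalization.lift_eq _ x).trans (IsScalarTower.algebraMap_apply R D L x)
  have hker : RingHom.ker ψ = nilradical A := by
    haveI := RingHom.ker_isPrime ψ
    haveI hnil : (nilradical A).IsPrime := (Ideal.Quotient.isDomain_iff_prime _).1 hA.1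
    have hle : nilradical A ≤ RingHom.ker ψ := nilradical_le_prime _
    have hk : (RingHom.ker ψ).comap (algebraMap R A) = P.comap (algebraMap R S) := by
      ext x
      rw [Ideal.mem_comap, RingHom.mem_ker, hψ, map_eq_zero_iff _ (IsFractionRing.injective D L),
        Ideal.mem_comap, ← Ideal.Quotient.eq_zero_iff_mem]
      rfl
    have heq : (nilradical A).comap (algebraMap R A) = P.comap (algebraMap R S) :=
      le_antisymm ((Ideal.comap_mono hle).trans hk.le)
        (hq.2 ⟨Ideal.comap_isPrime _ _, bot_le⟩ ((Ideal.comap_mono hle).trans hk.le))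
    calc RingHom.ker ψ = ((RingHom.ker ψ).comap (algebraMap R A)).map (algebraMap R A) :=
          (IsLocalization.map_under p.primeCompl A _).symm
      _ = ((nilradical A).comap (algebraMap R A)).map (algebraMap R A) := by rw [hk, heq]
      _ = nilradical A := IsLocalization.map_under p.primeCompl A _
  let φ : CAlg2.red A →+* L := Ideal.Quotient.lift _ ψ fun a ha => hker.ge ha
  have hφinj : Function.Injective φ := (injective_iff_map_eq_zero φ).2 fun x hx => by
    obtain ⟨x, rfl⟩ := Ideal.Quotient.mk_surjective x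
    exact Ideal.Quotient.eq_zero_iff_mem.2 (hker.le hx)
  letI : Algebra (CAlg2.red A) L := φ.toAlgebra
  let B := integralClosure (CAlg2.red A) L
  have hψO : ∀ a : A, ψ a ∈ O := fun a => by
    obtain ⟨x, s, rfl⟩ := IsLocalization.exists_mk'_eq p.primeCompl a
    obtain ⟨u, hu⟩ := (hjOu (algebraMap R I s)).2 fun h => s.2 ((hnDR _).1 h)
    have h1 : ψ (IsLocalization.mk' A x s) = ((jO (algebraMap R I x) * ↑u⁻¹ : O) : L) := by
      rw [IsLocalization.lift_mk', Units.mul_inv_eq_iff_eq_mul]
      rw [IsUnit.coe_liftRight]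
      show algebraMap R L x = _ * algebraMap R L s
      rw [IsScalarTower.algebraMap_apply R D L, IsScalarTower.algebraMap_apply R D L]
      show algebraMap D L ((algebraMap R I x : I) : D) = _ * algebraMap D L ((algebraMap R I s : I) : D)
      rw [← hjO, ← hjO, ← hu, ← MulMemClass.coe_mul, mul_assoc, Units.inv_mul, mul_one]
    rw [h1]
    exact SetLike.coe_mem _
  let φO : CAlg2.red A →+* O := φ.codRestrict O.toSubring fun x => by
    obtain ⟨x, rfl⟩ := Ideal.Quotient.mk_surjective x
    exact hψO x
  have hBO : ∀ b : B, (b : L) ∈ O := fun b => by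
    have h1 : IsIntegral O (b : L) := (b.2 : IsIntegral (CAlg2.red A) (b : L)).map_of_comp_eq φO (RingHom.id L)
      (RingHom.ext fun _ => rfl)
    obtain ⟨o, ho⟩ := IsIntegrallyClosed.isIntegral_iff.1 h1
    rw [← ho]
    exact o.2
  let β : B →+* O := B.val.toRingHom.codRestrict O.toSubring hBO
  let n' : Ideal B := (IsLocalRing.maximalIdeal O).comap β
  haveI : n'.IsPrime := Ideal.comap_isPrime _ _
  let γ : A →+* B := (algebraMap (CAlg2.red A) B).comp (Ideal.Quotient.mk (nilradical A))
  have hγ : ∀ x : R, β (γ (algebraMap R A x)) = jO (algebraMap R I x) := fun x => Subtype.ext (by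
    rw [hjO]
    exact hψ x)
  have hn'm : n'.comap γ = IsLocalRing.maximalIdeal A := by
    have h1 : (n'.comap γ).comap (algebraMap R A) = p := by
      ext x
      show β (γ (algebraMap R A x)) ∈ IsLocalRing.maximalIdeal O ↔ _
      rw [hγ, IsLocalRing.mem_maximalIdeal, mem_nonunits_iff, hjOu, not_not]
      exact hnDR x
    calc n'.comap γ = ((n'.comap γ).comap (algebraMap R A)).map (algebraMap R A) :=
          (IsLocalization.map_under p.primeCompl A _).symm
      _ = IsLocalRing.maximalIdeal A := by rw [h1, IsLocalization.AtPrime.map_eq_maximalIdeal]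
  have hdisj : Disjoint (p.primeCompl : Set R) p' :=
    Set.disjoint_left.2 fun x hx hx' => hx (hp' hx')
  let pz : Ideal A := p'.map (algebraMap R A)
  haveI : pz.IsPrime := IsLocalization.isPrime_of_isPrime_disjoint p.primeCompl A p' inferInstance hdisj
  have hpz : pz.comap (algebraMap R A) = p' :=
    IsLocalization.comap_map_of_isPrime_disjoint p.primeCompl A inferInstance hdisj
  obtain ⟨q, hqprime, hqn, hqp⟩ := exists_le_comap_eq_of_isUnibranch hA (algebraMap (CAlg2.red A) B)
    (fun a b h => hφinj (congrArg Subtype.val h)) (fun b => Algebra.IsIntegral.isIntegral b) n' hn'm pz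
  -- back to `S`
  have hRI : ∀ i : I, algebraMap D L (i : D) ∈ B := fun i => by
    refine IsIntegral.map_of_comp_eq (R := R) ((Ideal.Quotient.mk (nilradical A)).comp (algebraMap R A))
      (algebraMap D L) (RingHom.ext hψ) ?_
    exact (i.2 : IsIntegral R (i : D))
  let α : I →+* B := iI.codRestrict B hRI
  let τ : I →+* FractionRing (B ⧸ q) := ((algebraMap (B ⧸ q) _).comp (Ideal.Quotient.mk q)).comp α
  have hτ : ∀ i, τ i = 0 ↔ α i ∈ q := fun i => by
    rw [RingHom.comp_apply, RingHom.comp_apply, map_eq_zero_iff _ (IsFractionRing.injective _ _),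
      Ideal.Quotient.eq_zero_iff_mem]
  have hαn : ∀ i, α i ∈ q → i ∈ nI := fun i hi => by
    by_contra hni
    have h1 : β (α i) ∈ IsLocalRing.maximalIdeal O := hqn hi
    rw [show β (α i) = jO i from Subtype.ext (hjO i).symm] at h1
    exact h1 ((hjOu i).2 hni)
  have hru : IsUnit (τ r) := IsUnit.mk0 _ fun h0 => hrnI (hαn _ ((hτ _).1 h0))
  have hbij : Function.Bijective (Localization.awayMap I.val.toRingHom r) := by
    refine ⟨IsLocalization.map_injective_of_injective _ _ _ Subtype.val_injective, ?_⟩
    rw [Localization.awayMap_surjective_iff]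
    intro d
    obtain ⟨m, i, hi⟩ := hI d
    exact ⟨i, m, hi⟩
  let eR := RingEquiv.ofBijective _ hbij
  let τ' : D →+* FractionRing (B ⧸ q) :=
    ((IsLocalization.Away.lift r hru).comp eR.symm.toRingHom).comp
      (algebraMap _ (Localization.Away (I.val.toRingHom r)))
  have hτ'I : ∀ i : I, τ' (i : D) = τ i := fun c => by
    show IsLocalization.Away.lift r hru (eR.symm (algebraMap _ _ (I.val.toRingHom c))) = _
    have hc : eR (algebraMap I (Localization.Away r) c) =
        algebraMap D (Localization.Away (I.val.toRingHom r)) (I.val.toRingHom c) := by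
      show Localization.awayMap I.val.toRingHom r _ = _
      simp only [Localization.awayMap, IsLocalization.Away.map, IsLocalization.map_eq]
    rw [← hc, RingEquiv.symm_apply_apply, IsLocalization.Away.lift_eq]
  refine ⟨RingHom.ker (τ'.comp (Ideal.Quotient.mk P)), RingHom.ker_isPrime _, fun s hs => ?_, ?_⟩
  · rw [RingHom.mem_ker, RingHom.comp_apply] at hs
    obtain ⟨m, i, hi⟩ := hI (Ideal.Quotient.mk P s)
    have h1 : τ i = 0 := by rw [← hτ'I, hi, map_mul, hs, mul_zero]
    have h2 : (i : D) ∈ nD := hαn i ((hτ i).1 h1)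
    rw [hi] at h2
    refine (hnD s).1 ((Ideal.IsPrime.mem_or_mem inferInstance h2).resolve_left fun h3 => hrnI ?_)
    exact Ideal.IsPrime.mem_of_pow_mem inferInstance m h3
  · ext x
    rw [Ideal.mem_comap, RingHom.mem_ker, RingHom.comp_apply]
    show τ' ((algebraMap R I x : I) : D) = 0 ↔ _
    rw [hτ'I, hτ, ← hpz, ← hqp]
    show _ ↔ γ (algebraMap R A x) ∈ q
    rw [show α (algebraMap R I x) = γ (algebraMap R A x) from Subtype.ext (hψ x).symm]

end Groth.EGA43Topo
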