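import Groth.Agent.EGA43Topo.UnibranchParams

/-!
# Chevalley's criterion at a prime of a ring (EGA IV 14.4.1)
-/

universe u

set_option linter.style.haveILetI false

open TensorProduct

namespace Groth.EGA43Topo

/-- **Chevalley's criterion, at a prime**: if `p` is geometrically unibranch and the relative
transcendence degree at a prime `n` maximal in its fibre does not exceed the one at a generization
over the minimal prime, every point of `V ⊗ S` over `n` generalizes to the generic point of `V`. -/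
theorem exists_generalizing_over_prime {R S : Type u} [CommRing R] [CommRing S] [Algebra R S]
    [Algebra.FiniteType R S] (p : Ideal R) [p.IsPrime]
    (A : Type u) [CommRing A] [IsLocalRing A] [Algebra R A] [IsLocalization.AtPrime A p]
    (hA : CAlg2.IsGeomUnibranch A)
    (n : Ideal S) [n.IsPrime] [n.LiesOver p]
    (hmax : ∀ n' : Ideal S, n'.IsPrime → n' ≤ n → n'.comap (algebraMap R S) = p → n' = n)
    (q : Ideal R) [q.IsPrime] (hq : q ∈ minimalPrimes R) (P : Ideal S) [P.IsPrime] [P.LiesOver q]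
    (hPn : P ≤ n) (d : ℕ) (hd : Algebra.trdeg (R ⧸ p) (S ⧸ n) = d)
    (hd' : (d : Cardinal.{u}) ≤ Algebra.trdeg (R ⧸ q) (S ⧸ P))
    {V : Type u} [CommRing V] [IsDomain V] [IsLocalRing V] [Algebra R V]
    (hV : (IsLocalRing.maximalIdeal V).comap (algebraMap R V) = p)
    (Q₀ : Ideal (V ⊗[R] S)) [Q₀.IsPrime]
    (hQV : Q₀.comap Algebra.TensorProduct.includeLeftRingHom = IsLocalRing.maximalIdeal V)
    (hQn : Q₀.comap Algebra.TensorProduct.includeRight.toRingHom = n) :
    ∃ Q' : Ideal (V ⊗[R] S), Q'.IsPrime ∧ Q' ≤ Q₀ ∧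
      Q'.comap Algebra.TensorProduct.includeLeftRingHom = ⊥ := by
  obtain ⟨t, ht, hup⟩ := exists_parameters p n hd
  have hnp : n.comap (algebraMap R S) = p := (n.over_def p).symm
  have hqfn : ∀ n' : Ideal S, n'.IsPrime → (n' ≤ n ∨ n ≤ n') →
      n'.comap (MvPolynomial.aeval (R := R) t).toRingHom = n.comap (MvPolynomial.aeval (R := R) t).toRingHom →
      n' = n := fun n' hn' hle he => by
    rcases hle with hle | hle
    · refine hmax n' hn' hle ?_
      have := congrArg (Ideal.comap (MvPolynomial.C : R →+* MvPolynomial (Fin d) R)) he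
      rw [Ideal.comap_comap, Ideal.comap_comap, show (MvPolynomial.aeval (R := R) t).toRingHom.comp MvPolynomial.C =
        algebraMap R S from RingHom.ext fun a => MvPolynomial.aeval_C t a] at this
      exact this.trans hnp
    · exact hup n' hn' hle he
  have hPt : ∀ f : MvPolynomial (Fin d) R, MvPolynomial.aeval t f ∈ P ↔ ∀ m, f.coeff m ∈ q := by
    refine mem_iff_of_algebraicIndependent q P t (algebraicIndependent_of_quasiFiniteAt q P t ?_ hd')
    letI := (MvPolynomial.aeval (R := R) t).toRingHom.toAlgebra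
    haveI : IsScalarTower R (MvPolynomial (Fin d) R) S :=
      IsScalarTower.of_algebraMap_eq fun a => ((MvPolynomial.aeval t).commutes a).symm
    haveI : Algebra.FiniteType (MvPolynomial (Fin d) R) S := .of_restrictScalars_finiteType R _ _
    haveI : Algebra.QuasiFiniteAt (MvPolynomial (Fin d) R) n := quasiFiniteAt_of_comparable n hqfn
    exact Algebra.QuasiFiniteAt.of_le hPn
  obtain ⟨Q₁, _, hQ₁le, hQ₁n, hQ₁V, hQ₁t⟩ := exists_independent_le p n t ht hV Q₀ hQV hQn
  have hunit : ∀ y : p.primeCompl, IsUnit (algebraMap R V y) := fun y => by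
    by_contra h
    exact y.2 (hV.le h)
  letI : Algebra A V := (IsLocalization.lift (M := p.primeCompl) (g := algebraMap R V) hunit).toAlgebra
  haveI : IsScalarTower R A V :=
    IsScalarTower.of_algebraMap_eq fun r => (IsLocalization.lift_eq hunit r).symm
  haveI : IsLocalHom (algebraMap A V) := ⟨fun a ha => by
    obtain ⟨r, s, rfl⟩ := IsLocalization.exists_mk'_eq p.primeCompl a
    rw [RingHom.algebraMap_toAlgebra, IsLocalization.lift_mk', IsUnit.mul_iff] at ha
    rw [IsLocalization.AtPrime.isUnit_mk'_iff A p r s]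
    exact fun hr => (hV.ge hr) ha.1⟩
  let j : S →ₐ[R] A ⊗[R] S := Algebra.TensorProduct.includeRight
  have hunitB : ∀ s : R, s ∉ p → IsUnit (algebraMap R (A ⊗[R] S) s) := fun s hs => by
    rw [IsScalarTower.algebraMap_apply R A (A ⊗[R] S)]
    exact (IsLocalization.map_units A (⟨s, hs⟩ : p.primeCompl)).map _
  have hclear : ∀ x : A ⊗[R] S, ∃ s ∉ p, ∃ b, algebraMap R (A ⊗[R] S) s * x = j b := fun x => by
    induction x using TensorProduct.induction_on with
    | zero => exact ⟨1, p.primeCompl.one_mem, 0, by simp⟩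
    | tmul a b =>
      obtain ⟨r, s, rfl⟩ := IsLocalization.exists_mk'_eq p.primeCompl a
      refine ⟨s, s.2, r • b, ?_⟩
      rw [IsScalarTower.algebraMap_apply R A (A ⊗[R] S), ← Algebra.smul_def, TensorProduct.smul_tmul',
        smul_eq_mul, IsLocalization.mk'_spec', Algebra.algebraMap_eq_smul_one, TensorProduct.smul_tmul]
      rfl
    | add x y hx hy =>
      obtain ⟨s, hs, b, hb⟩ := hx
      obtain ⟨s', hs', b', hb'⟩ := hy
      refine ⟨s * s', p.primeCompl.mul_mem hs hs', algebraMap R S s' * b + algebraMap R S s * b', ?_⟩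
      rw [map_add j, map_mul j, map_mul j, AlgHom.commutes, AlgHom.commutes, ← hb, ← hb', map_mul]
      ring
  have hrefl : ∀ n₁ n₂ : Ideal (A ⊗[R] S), n₂.IsPrime →
      n₁.comap j.toRingHom ≤ n₂.comap j.toRingHom → n₁ ≤ n₂ := fun n₁ n₂ hn₂ hle x hx => by
    obtain ⟨s, hs, b, hb⟩ := hclear x
    have hb1 : b ∈ n₁.comap j.toRingHom := by
      show j b ∈ n₁
      rw [← hb]
      exact Ideal.mul_mem_left _ _ hx
    have h2 : j b ∈ n₂ := hle hb1
    rw [← hb] at h2
    exact (Ideal.unit_mul_mem_iff_mem n₂ (hunitB s hs)).1 h2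
  let e := Algebra.TensorProduct.cancelBaseChange R A V V S
  have he : ∀ z : S, e ((1 : V) ⊗ₜ[A] j z) = (1 : V) ⊗ₜ[R] z := fun z => by
    show (1 : A) • (1 : V) ⊗ₜ[R] z = _
    rw [one_smul]
  let Q : Ideal (V ⊗[A] (A ⊗[R] S)) := Q₁.comap e.toAlgHom.toRingHom
  haveI : Q.IsPrime := Ideal.comap_isPrime _ _
  let nB : Ideal (A ⊗[R] S) :=
    Q.comap (Algebra.TensorProduct.includeRight : A ⊗[R] S →ₐ[A] V ⊗[A] (A ⊗[R] S)).toRingHom
  haveI : nB.IsPrime := Ideal.comap_isPrime _ _
  have hnB : nB.comap j.toRingHom = n := by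
    ext z
    show e ((1 : V) ⊗ₜ[A] j z) ∈ Q₁ ↔ _
    rw [he, ← hQ₁n]
    rfl
  let tB : Fin d → A ⊗[R] S := fun i => j (t i)
  have htB : ∀ f : MvPolynomial (Fin d) R,
      MvPolynomial.aeval tB (f.map (algebraMap R A)) = j (MvPolynomial.aeval t f) := fun f => by
    rw [MvPolynomial.aeval_map_algebraMap]
    exact (MvPolynomial.comp_aeval_apply _ j f).symm
  have hqfB : letI := (MvPolynomial.aeval (R := A) tB).toRingHom.toAlgebra
      Algebra.QuasiFiniteAt (MvPolynomial (Fin d) A) nB := by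
    letI := (MvPolynomial.aeval (R := A) tB).toRingHom.toAlgebra
    haveI : IsScalarTower A (MvPolynomial (Fin d) A) (A ⊗[R] S) :=
      IsScalarTower.of_algebraMap_eq fun a => ((MvPolynomial.aeval tB).commutes a).symm
    haveI : Algebra.FiniteType (MvPolynomial (Fin d) A) (A ⊗[R] S) := .of_restrictScalars_finiteType A _ _
    refine quasiFiniteAt_of_comparable nB fun n' hn' hle he' => ?_
    haveI := hn'
    have h1 : n'.comap j.toRingHom = n := by
      refine hqfn _ inferInstance (hle.imp (fun h => (Ideal.comap_mono h).trans hnB.le)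
        (fun h => hnB.ge.trans (Ideal.comap_mono h))) ?_
      ext f
      have := SetLike.ext_iff.1 he' (f.map (algebraMap R A))
      rw [Ideal.mem_comap, Ideal.mem_comap, RingHom.algebraMap_toAlgebra] at this
      change MvPolynomial.aeval tB _ ∈ n' ↔ MvPolynomial.aeval tB _ ∈ nB at this
      rw [htB] at this
      rw [← hnB]
      exact this
    exact le_antisymm (hrefl _ _ inferInstance (h1.trans hnB.symm).le)
      (hrefl _ _ hn' (hnB.trans h1.symm).le)
  -- the generization
  let L := FractionRing (S ⧸ P)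
  let toL : S →ₐ[R] L := (IsScalarTower.toAlgHom R (S ⧸ P) L).comp (Ideal.Quotient.mkₐ R P)
  have htoL : ∀ z, toL z = 0 ↔ z ∈ P := fun z => by
    show algebraMap (S ⧸ P) L (Ideal.Quotient.mk P z) = 0 ↔ _
    rw [map_eq_zero_iff _ (IsFractionRing.injective (S ⧸ P) L), Ideal.Quotient.eq_zero_iff_mem]
  have hqp : q ≤ p := fun a ha => hnp.le (hPn ((Ideal.mem_of_liesOver P q a).1 ha))
  have hunitL : ∀ y : p.primeCompl, IsUnit (Algebra.ofId R L y) := fun y => by
    refine isUnit_iff_ne_zero.2 fun h => y.2 (hqp ((Ideal.mem_of_liesOver P q _).2 ((htoL _).1 ?_)))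
    rw [AlgHom.commutes]
    exact h
  let Φ : A ⊗[R] S →ₐ[R] L :=
    Algebra.TensorProduct.lift (IsLocalization.liftAlgHom hunitL) toL fun _ _ => Commute.all _ _
  let PB : Ideal (A ⊗[R] S) := RingHom.ker Φ.toRingHom
  haveI : PB.IsPrime := RingHom.ker_isPrime _
  have hPB : PB.comap j.toRingHom = P := by
    ext z
    show Φ (1 ⊗ₜ[R] z) = 0 ↔ _
    rw [Algebra.TensorProduct.lift_tmul, map_one, one_mul, htoL]
  let q' : Ideal A := PB.comap (algebraMap A (A ⊗[R] S))
  have hq' : q'.comap (algebraMap R A) = q := by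
    rw [Ideal.comap_comap, ← IsScalarTower.algebraMap_eq, ← j.comp_algebraMap, ← Ideal.comap_comap]
    show (PB.comap j.toRingHom).comap _ = q
    rw [hPB]
    exact (P.over_def q).symm
  have hq'nil : q' = nilradical A := by
    haveI : q'.IsPrime := Ideal.comap_isPrime _ _
    haveI hnp' : (nilradical A).IsPrime := (Ideal.Quotient.isDomain_iff_prime _).1 hA.1.1
    have hle : nilradical A ≤ q' := nilradical_le_prime q'
    have heq : (nilradical A).comap (algebraMap R A) = q :=
      le_antisymm ((Ideal.comap_mono hle).trans hq'.le)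
        (hq.2 ⟨Ideal.comap_isPrime _ _, bot_le⟩ ((Ideal.comap_mono hle).trans hq'.le))
    calc q' = (q'.comap (algebraMap R A)).map (algebraMap R A) := (IsLocalization.map_under p.primeCompl A q').symm
      _ = ((nilradical A).comap (algebraMap R A)).map (algebraMap R A) := by rw [hq', heq]
      _ = nilradical A := IsLocalization.map_under p.primeCompl A _
  have hPBt : ∀ f : MvPolynomial (Fin d) A,
      MvPolynomial.aeval tB f ∈ PB ↔ ∀ m, f.coeff m ∈ nilradical A := fun f => by
    obtain ⟨s, hs, f₀, hf⟩ : ∃ s ∉ p, ∃ f₀ : MvPolynomial (Fin d) R,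
        MvPolynomial.C (algebraMap R A s) * f = f₀.map (algebraMap R A) := by
      induction f using MvPolynomial.induction_on with
      | C a =>
        obtain ⟨r, s, rfl⟩ := IsLocalization.exists_mk'_eq p.primeCompl a
        exact ⟨s, s.2, MvPolynomial.C r, by rw [← map_mul, IsLocalization.mk'_spec', MvPolynomial.map_C]⟩
      | add f g hf hg =>
        obtain ⟨s, hs, f₀, hf⟩ := hf
        obtain ⟨s', hs', g₀, hg⟩ := hg
        refine ⟨s * s', p.primeCompl.mul_mem hs hs', MvPolynomial.C s' * f₀ + MvPolynomial.C s * g₀, ?_⟩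
        rw [map_add, map_mul (MvPolynomial.map _), map_mul (MvPolynomial.map _), ← hf, ← hg, MvPolynomial.map_C,
          MvPolynomial.map_C, map_mul, map_mul]
        ring
      | mul_X f i hf =>
        obtain ⟨s, hs, f₀, hf⟩ := hf
        exact ⟨s, hs, f₀ * MvPolynomial.X i, by rw [map_mul, ← hf, MvPolynomial.map_X, mul_assoc]⟩
    have h1 : MvPolynomial.aeval tB f ∈ PB ↔ MvPolynomial.aeval t f₀ ∈ P := by
      rw [← hPB, Ideal.mem_comap]
      show _ ↔ j _ ∈ PB
      rw [← htB, ← hf, map_mul, MvPolynomial.aeval_C, ← IsScalarTower.algebraMap_apply R A (A ⊗[R] S),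
        Ideal.unit_mul_mem_iff_mem PB (hunitB s hs)]
    rw [h1, hPt, ← hq'nil]
    refine forall_congr' fun m => ?_
    rw [← Ideal.unit_mul_mem_iff_mem q' (IsLocalization.map_units A (⟨s, hs⟩ : p.primeCompl)), ← MvPolynomial.coeff_C_mul,
      hf, MvPolynomial.coeff_map, ← hq', Ideal.mem_comap]
  have hQt : ∀ f : MvPolynomial (Fin d) V, MvPolynomial.aeval (fun i => (1 : V) ⊗ₜ[A] tB i) f ∈ Q ↔
      ∀ m, f.coeff m ∈ IsLocalRing.maximalIdeal V := fun f => by
    refine Iff.trans ?_ (hQ₁t f)
    show e.toAlgHom (MvPolynomial.aeval _ f) ∈ Q₁ ↔ _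
    rw [MvPolynomial.comp_aeval_apply]
    simp only [tB, AlgEquiv.toAlgHom_apply, he]
  obtain ⟨Q', _, hQ'le, hQ'V⟩ := exists_prime_generalizing A hA tB nB hqfB PB
    (hrefl _ _ inferInstance (by rw [hPB, hnB]; exact hPn)) hPBt Q rfl hQt
  refine ⟨Q'.comap e.symm.toAlgHom.toRingHom, Ideal.comap_isPrime _ _, fun z hz => ?_, ?_⟩
  · refine hQ₁le ?_
    have := hQ'le hz
    change e (e.symm z) ∈ Q₁ at this
    rwa [AlgEquiv.apply_symm_apply] at this
  · rw [← hQ'V]
    ext v
    show e.symm (algebraMap V (V ⊗[R] S) v) ∈ Q' ↔ _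
    rw [AlgEquiv.commutes]
    rfl

end Groth.EGA43Topo
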